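import Cfsg.Agent.Classical.TensorOrth.Main
import Cfsg.Prelude.Def_GeometricClasses

/-!
# Transfer to a form similar to a tensor product form
-/

set_option autoImplicit false
set_option linter.unusedSectionVars false
set_option linter.unusedSimpArgs false

namespace Cfsg.Lib.Classical.TensorOrth

open Matrix
open scoped Kronecker MatrixGroups

universe u

variable {ι α β : Type} [Fintype ι] [DecidableEq ι] [Fintype α] [DecidableEq α] [Fintype β] [DecidableEq β]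
  {F : Type u} [Field F]

/-- The isomorphism of general linear groups given by a bijection of indices and a change of basis. -/
def tmap (e : ι ≃ α × β) (P : GL ι F) : GL (α × β) F ≃* GL ι F :=
  (Cfsg.Geo.glReindex e.symm).trans (MulAut.conj P)

theorem mem_map_kron (e : ι ≃ α × β) (P g : GL ι F) :
    g ∈ (kronSub α β F).map (tmap e P).toMonoidHom ↔ ∃ (a : GL α F) (b : GL β F),
      ((P⁻¹ * g * P : GL ι F) : Matrix ι ι F) = ((a : Matrix α α F) ⊗ₖ (b : Matrix β β F)).submatrix e e := by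
  constructor
  · rintro ⟨k, ⟨a, b, hab⟩, rfl⟩
    refine ⟨a, b, ?_⟩
    rw [show P⁻¹ * (tmap e P).toMonoidHom k * P = Cfsg.Geo.glReindex e.symm k by
      show P⁻¹ * (P * Cfsg.Geo.glReindex e.symm k * P⁻¹) * P = _
      group]
    rw [← hab]
    rfl
  · rintro ⟨a, b, hab⟩
    refine ⟨(Cfsg.Geo.glReindex e.symm).symm (P⁻¹ * g * P), ⟨a, b, ?_⟩, ?_⟩
    · show ((P⁻¹ * g * P : GL ι F) : Matrix ι ι F).submatrix e.symm e.symm = _
      rw [hab, submatrix_submatrix, Equiv.self_comp_symm, submatrix_id_id]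
    · show P * Cfsg.Geo.glReindex e.symm ((Cfsg.Geo.glReindex e.symm).symm (P⁻¹ * g * P)) * P⁻¹ = g
      rw [MulEquiv.apply_symm_apply]
      group

theorem map_kron_swap (e : ι ≃ α × β) (P : GL ι F) :
    (kronSub β α F).map (tmap (e.trans (Equiv.prodComm α β)) P).toMonoidHom =
      (kronSub α β F).map (tmap e P).toMonoidHom := by
  ext g
  rw [mem_map_kron, mem_map_kron]
  constructor <;>
    · rintro ⟨a, b, h⟩
      refine ⟨b, a, h.trans ?_⟩
      ext i j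
      simp [submatrix_apply, kroneckerMap_apply, mul_comm]

theorem map_kron_eq {n₁ n₂ : ℕ} (e : ι ≃ Fin n₁ × Fin n₂) (P : GL ι F) :
    Cfsg.Geo.tensorProductSubgroup n₁ n₂ e P = (kronSub (Fin n₁) (Fin n₂) F).map (tmap e P).toMonoidHom := by
  rw [show kronSub (Fin n₁) (Fin n₂) F = Cfsg.Geo.kroneckerSubgroup n₁ n₂ F from
    Subgroup.ext fun g => Iff.rfl, Cfsg.Geo.tensorProductSubgroup, Subgroup.map_map]
  rfl

theorem mem_isometry {γ : Type} [Fintype γ] [DecidableEq γ] {Q : (γ → F) → F} {g : GL γ F} :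
    g ∈ Cfsg.isometryGroup F Q ↔ ∀ v, Q ((g : Matrix γ γ F) *ᵥ v) = Q v := by
  exact ⟨fun h v => h v v, fun h u _ => h u⟩

theorem omegaGL_comm {γ : Type} [Fintype γ] [DecidableEq γ] (Q : (γ → F) → F) :
    Cfsg.Geo.omegaGL Q = ⁅Cfsg.isometryGroup F Q, Cfsg.isometryGroup F Q⁆ :=
  Subgroup.map_subtype_commutator _

variable [Fintype F]

/-- The stabiliser of a tensor decomposition of a quadratic form is maximal in `Ω`. -/
theorem isMaximalIn_tensor (Q : (ι → F) → F) (hhalf : ∀ v, QuadraticMap.polar Q v v = 2 * Q v)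
    (e : ι ≃ α × β) (P : GL ι F) {G₁ : Matrix α α F} {G₂ : Matrix β β F} (hs₁ : G₁ᵀ = G₁) (hs₂ : G₂ᵀ = G₂)
    (hd₁ : G₁.det ≠ 0) (hd₂ : G₂.det ≠ 0) {c : F} (hc : c ≠ 0)
    (hT : ∀ x y : α × β → F, QuadraticMap.polar Q ((P : Matrix ι ι F) *ᵥ (x ∘ e)) ((P : Matrix ι ι F) *ᵥ (y ∘ e)) =
      c * (x ⬝ᵥ (G₁ ⊗ₖ G₂) *ᵥ y))
    (h2 : (2 : F) ≠ 0) (h3 : 3 ≤ Fintype.card α) (h4' : 4 ≤ Fintype.card β)
    (hV : Fintype.card β = 4 → ∀ x u : β → F, x ⬝ᵥ G₂ *ᵥ x = 0 → u ⬝ᵥ G₂ *ᵥ u = 0 → x ⬝ᵥ G₂ *ᵥ u = 0 →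
      ¬ LinearIndependent F ![x, u])
    (hlt : Fintype.card α < Fintype.card β)
    (hU : Fintype.card α = 4 → ∀ x u : α → F, x ⬝ᵥ G₁ *ᵥ x = 0 → u ⬝ᵥ G₁ *ᵥ u = 0 → x ⬝ᵥ G₁ *ᵥ u = 0 →
      ¬ LinearIndependent F ![x, u])
    (hq : Fintype.card α = 3 → Fintype.card F ≠ 3) :
    Cfsg.Geo.IsMaximalIn (Cfsg.Geo.omegaGL Q)
      ((kronSub α β F).map (tmap e P).toMonoidHom ⊓ Cfsg.Geo.omegaGL Q) := by
  let T : TForm α β F :=
    { G₁ := c • G₁, G₂ := G₂, symm₁ := by rw [transpose_smul, hs₁], symm₂ := hs₂,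
      det₁ := by rw [det_smul]; exact mul_ne_zero (pow_ne_zero _ hc) hd₁, det₂ := hd₂ }
  have hsm : T.Small₁ := by
    intro h4 x y u hp hxu hyu huu
    by_contra hu
    have hb : ∀ a b : α → F, T.B₁ a b = c * (a ⬝ᵥ G₁ *ᵥ b) := fun a b => by
      show a ⬝ᵥ (c • G₁) *ᵥ b = _
      rw [smul_mulVec, dotProduct_smul, smul_eq_mul]
    have hz : ∀ a b, T.B₁ a b = 0 → a ⬝ᵥ G₁ *ᵥ b = 0 := fun a b h =>
      ((mul_eq_zero.mp ((hb a b).symm.trans h)).resolve_left hc)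
    have hdep := hU h4 x u (hz _ _ hp.xx) (hz _ _ huu) (hz _ _ hxu)
    rw [LinearIndependent.pair_iff' hp.ne] at hdep
    push Not at hdep
    obtain ⟨a, ha⟩ := hdep
    rw [← ha, TForm.B₁_smul_right, hp.yx, mul_one] at hyu
    exact hu (by rw [← ha, hyu, zero_smul])
  have hqf : ∀ x, T.qf x = Q ((P : Matrix ι ι F) *ᵥ (x ∘ e)) := fun x => by
    have h := hT x x
    rw [hhalf] at h
    rw [TForm.qf_apply, TForm.G, show (c • G₁) ⊗ₖ G₂ = c • (G₁ ⊗ₖ G₂) from smul_kronecker c G₁ G₂, smul_mulVec,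
      dotProduct_smul, smul_eq_mul, ← h, ← mul_assoc, inv_mul_cancel₀ h2, one_mul]
  have hsurj : ∀ y : ι → F, ∃ x, (P : Matrix ι ι F) *ᵥ (x ∘ e) = y := fun y =>
    ⟨(((P⁻¹ : GL ι F) : Matrix ι ι F) *ᵥ y) ∘ e.symm, by
      rw [Function.comp_assoc, Equiv.symm_comp_self, Function.comp_id, mulVec_mulVec, ← Units.val_mul,
        mul_inv_cancel, Units.val_one, one_mulVec]⟩
  have hact : ∀ g x, ((tmap e P g : GL ι F) : Matrix ι ι F) *ᵥ ((P : Matrix ι ι F) *ᵥ (x ∘ e)) =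
      (P : Matrix ι ι F) *ᵥ (((g : Matrix (α × β) (α × β) F) *ᵥ x) ∘ e) := by
    intro g x
    show ((P * Cfsg.Geo.glReindex e.symm g * P⁻¹ : GL ι F) : Matrix ι ι F) *ᵥ _ = _
    rw [mulVec_mulVec, ← Units.val_mul, inv_mul_cancel_right, Units.val_mul, ← mulVec_mulVec]
    congr 1
    show ((g : Matrix (α × β) (α × β) F).submatrix e e) *ᵥ (x ∘ e) = _
    rw [Matrix.submatrix_mulVec_equiv, Function.comp_assoc, Equiv.self_comp_symm, Function.comp_id]
  have hI : (Cfsg.isometryGroup F (⇑T.qf)).map (tmap e P).toMonoidHom = Cfsg.isometryGroup F Q := by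
    ext g
    rw [Subgroup.mem_map_equiv, mem_isometry, mem_isometry]
    constructor
    · intro h y
      obtain ⟨x, rfl⟩ := hsurj y
      rw [← (tmap e P).apply_symm_apply g, hact, ← hqf, ← hqf]
      exact h x
    · intro h x
      rw [hqf, hqf, ← hact, MulEquiv.apply_symm_apply, h]
  have hΩ : (Cfsg.Geo.omegaGL (⇑T.qf)).map (tmap e P).toMonoidHom = Cfsg.Geo.omegaGL Q := by
    rw [omegaGL_comm, omegaGL_comm, Subgroup.map_commutator, hI]
  have hs₂' : 5 ≤ Fintype.card β ∨ (5 ≤ Fintype.card F ∧ T.Small₂) := by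
    rcases h4'.eq_or_lt with h | h
    · right
      have h3' : Fintype.card α = 3 := by omega
      refine ⟨?_, fun x y u hxx hxy hxu hyu huu => ?_⟩
      · have h1 : 1 < Fintype.card F := Fintype.one_lt_card
        have h2F : ¬ (Fintype.card F = 2 ∨ Fintype.card F = 4) := fun hh => h2 (by
          have h0 := FiniteField.cast_card_eq_zero F
          rcases hh with hh | hh <;> rw [hh] at h0
          · exact_mod_cast h0
          · have : (2 : F) * 2 = 0 := by norm_num at h0 ⊢; exact h0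
            exact (mul_eq_zero.mp this).elim id id)
        have := hq h3'
        omega
      · by_contra hu
        have hdep := hV h.symm x u hxx huu hxu
        have hx0 : x ≠ 0 := fun h0 => by rw [h0] at hxy; simp [TForm.B₂] at hxy
        rw [LinearIndependent.pair_iff' hx0] at hdep
        push Not at hdep
        obtain ⟨a, ha⟩ := hdep
        rw [← ha, TForm.B₂_smul_right, T.B₂_comm y x, hxy, mul_one] at hyu
        exact hu (by rw [← ha, hyu, zero_smul])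
    · exact Or.inl h
  have := TensorMax.isMaximalIn_map (tmap e P) (T.isMaximalIn h2 h3 h4' hs₂' hlt hsm hq)
  rwa [Subgroup.map_inf _ _ _ (tmap e P).injective, hΩ] at this

section Forms

variable {n₁ n₂ : ℕ} {f₁ : (Fin n₁ → F) → (Fin n₁ → F) → F} {f₂ : (Fin n₂ → F) → (Fin n₂ → F) → F}

theorem gram_apply {k : ℕ} {f : (Fin k → F) → (Fin k → F) → F} (hf : Cfsg.Geo.IsBilinearForm f) (v w : Fin k → F) :
    v ⬝ᵥ Cfsg.Geo.gramMatrix f *ᵥ w = f v w := by
  let B : LinearMap.BilinForm F (Fin k → F) := LinearMap.mk₂ F f hf.add_left hf.smul_left hf.add_right hf.smul_right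
  have : B = Matrix.toLinearMap₂' F (Cfsg.Geo.gramMatrix f) :=
    LinearMap.ext_basis (Pi.basisFun F (Fin k)) (Pi.basisFun F (Fin k)) fun i j => by
      rw [Pi.basisFun_apply, Pi.basisFun_apply, Matrix.toLinearMap₂'_apply']
      simp [B, Cfsg.Geo.gramMatrix]
  rw [← Matrix.toLinearMap₂'_apply', ← this]
  rfl

theorem gram_symm {k : ℕ} {f : (Fin k → F) → (Fin k → F) → F} (hf : Cfsg.Geo.IsSymmetricForm f) :
    (Cfsg.Geo.gramMatrix f)ᵀ = Cfsg.Geo.gramMatrix f :=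
  Matrix.ext fun a b => hf.symm _ _

theorem gram_det {k : ℕ} {f : (Fin k → F) → (Fin k → F) → F} (hf : Cfsg.Geo.IsSymmetricForm f) :
    (Cfsg.Geo.gramMatrix f).det ≠ 0 := by
  intro hd
  obtain ⟨v, hv, hGv⟩ := Matrix.exists_mulVec_eq_zero_iff.mpr hd
  obtain ⟨⟨x, hx⟩, -⟩ := hf.nondegenerate v hv
  exact hx (by rw [← gram_apply hf.bilinear, hGv, dotProduct_zero])

/-- The statement for a tensor decomposition whose smaller factor is the first. -/
theorem isMaximalIn_first (Q : (ι → F) → F) (hhalf : ∀ v, QuadraticMap.polar Q v v = 2 * Q v)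
    (e : ι ≃ Fin n₁ × Fin n₂) (P : GL ι F) (hf₁ : Cfsg.Geo.IsSymmetricForm f₁) (hf₂ : Cfsg.Geo.IsSymmetricForm f₂)
    (hT : Cfsg.Geo.IsTensorFormStructure id (QuadraticMap.polar Q) f₁ f₂ e P) (h2 : (2 : F) ≠ 0)
    (h3 : 3 ≤ n₁) (h4n : 4 ≤ n₂) (hlt : n₁ < n₂)
    (hV : n₂ = 4 → ∀ x u : Fin n₂ → F, f₂ x x = 0 → f₂ u u = 0 → f₂ x u = 0 → ¬ LinearIndependent F ![x, u])
    (hU : n₁ = 4 → ∀ x u : Fin n₁ → F, f₁ x x = 0 → f₁ u u = 0 → f₁ x u = 0 → ¬ LinearIndependent F ![x, u])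
    (hq : n₁ = 3 → Fintype.card F ≠ 3) :
    Cfsg.Geo.IsMaximalIn (Cfsg.Geo.omegaGL Q) (Cfsg.Geo.tensorProductSubgroup n₁ n₂ e P ⊓ Cfsg.Geo.omegaGL Q) := by
  obtain ⟨c, hc, hT⟩ := hT
  rw [map_kron_eq]
  refine isMaximalIn_tensor Q hhalf e P (gram_symm hf₁) (gram_symm hf₂) (gram_det hf₁) (gram_det hf₂) hc
    (fun x y => (hT x y).trans ?_) h2 (by rwa [Fintype.card_fin]) (by rwa [Fintype.card_fin]) ?_
    (by rwa [Fintype.card_fin, Fintype.card_fin]) ?_ (by rwa [Fintype.card_fin])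
  · simp [Cfsg.Geo.formOfGram, dotProduct, Matrix.mulVec, Finset.mul_sum, mul_assoc]
  · rw [Fintype.card_fin]
    intro h4 x u hx hu hxu
    rw [gram_apply hf₂.bilinear] at hx hu hxu
    exact hV h4 x u hx hu hxu
  · rw [Fintype.card_fin]
    intro h4 x u hx hu hxu
    rw [gram_apply hf₁.bilinear] at hx hu hxu
    exact hU h4 x u hx hu hxu

/-- The statement for a tensor decomposition whose smaller factor is the second. -/
theorem isMaximalIn_second (Q : (ι → F) → F) (hhalf : ∀ v, QuadraticMap.polar Q v v = 2 * Q v)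
    (e : ι ≃ Fin n₁ × Fin n₂) (P : GL ι F) (hf₁ : Cfsg.Geo.IsSymmetricForm f₁) (hf₂ : Cfsg.Geo.IsSymmetricForm f₂)
    (hT : Cfsg.Geo.IsTensorFormStructure id (QuadraticMap.polar Q) f₁ f₂ e P) (h2 : (2 : F) ≠ 0)
    (h3 : 3 ≤ n₂) (h5 : 5 ≤ n₁) (hlt : n₂ < n₁)
    (hU : n₂ = 4 → ∀ x u : Fin n₂ → F, f₂ x x = 0 → f₂ u u = 0 → f₂ x u = 0 → ¬ LinearIndependent F ![x, u])
    (hq : n₂ = 3 → Fintype.card F ≠ 3) :
    Cfsg.Geo.IsMaximalIn (Cfsg.Geo.omegaGL Q) (Cfsg.Geo.tensorProductSubgroup n₁ n₂ e P ⊓ Cfsg.Geo.omegaGL Q) := by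
  obtain ⟨c, hc, hT⟩ := hT
  rw [map_kron_eq, ← map_kron_swap e P]
  refine isMaximalIn_tensor Q hhalf (e.trans (Equiv.prodComm _ _)) P (gram_symm hf₂) (gram_symm hf₁) (gram_det hf₂)
    (gram_det hf₁) hc (fun x y => ?_) h2 (by rwa [Fintype.card_fin]) (by rw [Fintype.card_fin]; omega)
    (fun h => absurd h (by rw [Fintype.card_fin]; omega))
    (by rwa [Fintype.card_fin, Fintype.card_fin]) ?_ (by rwa [Fintype.card_fin])
  · refine (hT (x ∘ Prod.swap) (y ∘ Prod.swap)).trans ?_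
    congr 1
    simp only [Cfsg.Geo.formOfGram, dotProduct, Matrix.mulVec, Finset.mul_sum, id_eq, mul_assoc]
    exact Fintype.sum_equiv (Equiv.prodComm _ _) _ _ fun a =>
      Fintype.sum_equiv (Equiv.prodComm _ _) _ _ fun b => by
        simp [kroneckerMap_apply, mul_comm, mul_assoc, mul_left_comm]
  · rw [Fintype.card_fin]
    intro h4 x u hx hu hxu
    rw [gram_apply hf₂.bilinear] at hx hu hxu
    exact hU h4 x u hx hu hxu

end Forms

end Cfsg.Lib.Classical.TensorOrth
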