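import Cfsg.Agent.Classical.TensorOrth.Centre

/-!
# Without centre the components of the radical are scalar
-/

set_option autoImplicit false
set_option linter.unusedSectionVars false
set_option linter.unusedSimpArgs false

namespace Cfsg.Lib.Classical.TensorOrth

open Matrix
open scoped Kronecker MatrixGroups
open Cfsg.Lib.Classical.TensorMax (IsKron)

universe u

variable {α β : Type} [Fintype α] [DecidableEq α] [Fintype β] [DecidableEq β] {F : Type u} [Field F]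

namespace TForm

set_option maxHeartbeats 1000000

variable {T : TForm α β F}

theorem B₁_self_adj {Y : Matrix α α F} (hY : T.adjU Y = Y) (v w : α → F) : T.B₁ v (Y *ᵥ w) = T.B₁ (Y *ᵥ v) w := by
  rw [B₁_adjU, hY]

/-- A self-adjoint map fixed modulo scalars by the Siegel elements of a singular vector. -/
theorem fixed_form [Fintype F] (h2 : (2 : F) ≠ 0) (h3 : 3 ≤ Fintype.card α) (hU : T.Small₁)
    (hq : Fintype.card α = 3 → Fintype.card F ≠ 3) {x y : α → F} (hp : T.Pair₁ x y) {Y : Matrix α α F}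
    (hY : T.adjU Y = Y)
    (hfix : ∀ z, T.B₁ x z = 0 → ∃ c : F, sie T.G₁ x z * Y * sie T.G₁ x (-z) - Y = c • 1) :
    Y = T.B₁ x (Y *ᵥ y) • (1 : Matrix α α F) + T.B₁ y (Y *ᵥ y) • vecMulVec x (T.G₁ *ᵥ x) := by
  classical
  set U₀ : Set (α → F) := {z | T.B₁ x z = 0 ∧ T.B₁ y z = 0} with hU₀
  -- the defining equation
  have heq : ∀ z, T.B₁ x z = 0 → ∃ c : F, ∀ v,
      sie T.G₁ x z *ᵥ (Y *ᵥ v) = Y *ᵥ (sie T.G₁ x z *ᵥ v) + c • (sie T.G₁ x z *ᵥ v) := by
    intro z hz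
    obtain ⟨c, hc⟩ := hfix z hz
    refine ⟨c, fun v => ?_⟩
    rw [sub_eq_iff_eq_add] at hc
    have := congrArg (fun M => M * sie T.G₁ x z) hc
    beta_reduce at this
    rw [Matrix.mul_assoc, sie_neg_mul T.symm₁ h2 hp.xx hz, Matrix.mul_one] at this
    rw [mulVec_mulVec, this, Matrix.add_mul, Matrix.smul_mul, Matrix.one_mul, add_mulVec, smul_mulVec, ← mulVec_mulVec,
      add_comm]
  obtain ⟨z₀, hxz₀, hyz₀, hz₀⟩ := exists_aniso_pair T.symm₁ T.det₁ h2 h3 hp.xx hp.yy hp.xy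
  have hz₀' : T.B₁ z₀ z₀ ≠ 0 := hz₀
  have hd : T.B₁ x (Y *ᵥ x) = 0 := by
    obtain ⟨c, hc⟩ := heq z₀ hxz₀
    have h1 := congrArg (T.B₁ z₀) (hc x)
    simp only [sie_apply, hp.xx, T.B₁_comm z₀ x, show T.B₁ x z₀ = 0 from hxz₀, zero_smul, mul_zero, add_zero, sub_zero,
      B₁_add_right, B₁_sub_right, B₁_smul_right] at h1
    exact (mul_eq_zero.mp (show T.B₁ x (Y *ᵥ x) * T.B₁ z₀ z₀ = 0 by linear_combination -h1)).resolve_right hz₀'
  -- the scalar is linear, and the equation splits into an odd and an even part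
  have hcz : ∀ z, T.B₁ x z = 0 → ∀ v,
      sie T.G₁ x z *ᵥ (Y *ᵥ v) = Y *ᵥ (sie T.G₁ x z *ᵥ v) + T.B₁ z (Y *ᵥ x) • (sie T.G₁ x z *ᵥ v) := by
    intro z hz v
    obtain ⟨c, hc⟩ := heq z hz
    have h1 := hc x
    simp only [sie_apply, hp.xx, hd, T.B₁_comm z x, hz, zero_smul, mul_zero, add_zero, sub_zero] at h1
    have h2' : T.B₁ z (Y *ᵥ x) = c := smul_left_injective F hp.ne (add_left_cancel h1)
    rw [h2']
    exact hc v
  have hsplit : ∀ z, T.B₁ x z = 0 → ∀ v,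
      (T.B₁ z (Y *ᵥ v) • x - T.B₁ x (Y *ᵥ v) • z - T.B₁ z v • (Y *ᵥ x) + T.B₁ x v • (Y *ᵥ z) =
          T.B₁ z (Y *ᵥ x) • v - (T.B₁ z z / 2 * T.B₁ z (Y *ᵥ x) * T.B₁ x v) • x) ∧
        ((T.B₁ z z / 2 * T.B₁ x v) • (Y *ᵥ x) - (T.B₁ z z / 2 * T.B₁ x (Y *ᵥ v)) • x =
          (T.B₁ z (Y *ᵥ x) * T.B₁ z v) • x - (T.B₁ z (Y *ᵥ x) * T.B₁ x v) • z) := by
    intro z hz v
    have h1 := hcz z hz v
    have h1' := hcz (-z) (by rw [B₁_neg_right, hz, neg_zero]) v
    simp only [sie_apply, mulVec_add, mulVec_sub, mulVec_smul, mulVec_neg, B₁_neg_left, B₁_neg_right, neg_neg,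
      neg_smul, smul_neg, sub_neg_eq_add] at h1 h1' ⊢
    constructor
    · funext i
      have a1 := congrFun h1 i
      have a2 := congrFun h1' i
      simp only [Pi.add_apply, Pi.sub_apply, Pi.neg_apply, Pi.smul_apply, smul_eq_mul] at a1 a2 ⊢
      refine mul_left_cancel₀ h2 ?_
      linear_combination a1 - a2
    · funext i
      have a1 := congrFun h1 i
      have a2 := congrFun h1' i
      simp only [Pi.add_apply, Pi.sub_apply, Pi.neg_apply, Pi.smul_apply, smul_eq_mul] at a1 a2 ⊢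
      refine mul_left_cancel₀ h2 ?_
      linear_combination a1 + a2
  have hI : ∀ z ∈ U₀, ∀ u ∈ U₀, T.B₁ z z * T.B₁ u (Y *ᵥ x) + 2 * (T.B₁ z (Y *ᵥ x) * T.B₁ z u) = 0 := by
    intro z hz u hu
    have h1 := congrArg (T.B₁ y) (hsplit z hz.1 u).2
    simp only [B₁_sub_right, B₁_smul_right, hu.1, hp.yx, hz.2] at h1
    rw [show T.B₁ x (Y *ᵥ u) = T.B₁ u (Y *ᵥ x) by rw [B₁_self_adj hY, T.B₁_comm (Y *ᵥ x) u]] at h1
    field_simp at h1
    linear_combination (-1 : F) * h1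
  have hproj : ∀ w, T.proj₁ x y w ∈ U₀ := fun w => ⟨hp.proj_left w, hp.proj_right w⟩
  have hprojB : ∀ z ∈ U₀, ∀ w, T.B₁ z (T.proj₁ x y w) = T.B₁ z w := by
    intro z hz w
    rw [proj₁, B₁_sub_right, B₁_sub_right, B₁_smul_right, B₁_smul_right, T.B₁_comm z x, hz.1, T.B₁_comm z y, hz.2]
    ring
  -- the vector `Y x` has no component in the complement
  have hv : ∀ z ∈ U₀, T.B₁ z (Y *ᵥ x) = 0 := by
    set v := T.proj₁ x y (Y *ᵥ x) with hv
    suffices v = 0 by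
      intro z hz
      rw [← hprojB z hz, ← hv, this, B₁_zero_right]
    by_contra hv0
    have hxv : T.B₁ x v = 0 := (hproj _).1
    have hyv : T.B₁ y v = 0 := (hproj _).2
    by_cases h4 : 4 ≤ Fintype.card α
    · by_cases hvv : T.B₁ v v = 0
      · have h5 : 5 ≤ Fintype.card α := by
          by_contra hh
          exact hv0 (hU.apply h2 h3 (by omega) hp hxv hyv hvv)
        obtain ⟨v', hv'v', hvv', hxv', hyv'⟩ := exists_partner_perp T.symm₁ T.det₁ h2 hp.xx hp.yy hp.xy hv0 hvv hxv hyv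
        obtain ⟨a, hxa, hya, hva, hv'a, haa⟩ := exists_aniso_four T.symm₁ T.det₁ h2 h5 hp.xx hp.yy hp.xy hvv hv'v' hvv'
          hxv hxv' hyv hyv'
        have h1 := hI a ⟨hxa, hya⟩ v' ⟨hxv', hyv'⟩
        rw [← hprojB v' ⟨hxv', hyv'⟩ (Y *ᵥ x), ← hprojB a ⟨hxa, hya⟩ (Y *ᵥ x), ← hv, show T.B₁ v' v = 1 by rw [B₁_comm]; exact hvv',
          show T.B₁ a v = 0 by rw [B₁_comm]; exact hva] at h1
        exact haa (show T.B₁ a a = 0 by linear_combination h1)
      · obtain ⟨a, hxa, hya, hva, haa⟩ :=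
          exists_aniso_three T.symm₁ T.det₁ h2 h4 hp.xx hp.yy hp.xy hxv hyv hvv
        have h1 := hI a ⟨hxa, hya⟩ v ⟨hxv, hyv⟩
        rw [← hprojB v ⟨hxv, hyv⟩ (Y *ᵥ x), ← hprojB a ⟨hxa, hya⟩ (Y *ᵥ x), ← hv, show T.B₁ a v = 0 by rw [B₁_comm]; exact hva] at h1
        exact mul_ne_zero (show T.B₁ a a ≠ 0 from haa) hvv (by linear_combination h1)
    · have hF : Fintype.card F ≠ 3 := hq (by omega)
      obtain ⟨t, ht0, ht1, ht2⟩ : ∃ t : F, t ≠ 0 ∧ t ≠ 1 ∧ t ≠ -1 := by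
        by_contra hh
        push Not at hh
        have hle : (Finset.univ : Finset F).card ≤ ({0, 1, -1} : Finset F).card := by
          refine Finset.card_le_card fun t _ => ?_
          simp only [Finset.mem_insert, Finset.mem_singleton]
          tauto
        have h0 : ({0, 1, -1} : Finset F).card ≤ 3 := Finset.card_le_three
        have h1lt : 1 < Fintype.card F := Fintype.one_lt_card
        have h2ne : Fintype.card F ≠ 2 := Refl.card_ne_two h2
        rw [Finset.card_univ] at hle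
        omega
      have hcub : ∀ z ∈ U₀, T.B₁ z z * T.B₁ z (Y *ᵥ x) = 0 := by
        have hlin : ∀ z ∈ U₀, 2 * T.B₁ z (Y *ᵥ y) + T.B₁ z z / 2 * T.B₁ z (Y *ᵥ x) = 0 := by
          intro z hz
          have h1 := congrArg (T.B₁ y) (hsplit z hz.1 y).1
          simp only [B₁_add_right, B₁_sub_right, B₁_smul_right, hp.yy, hp.yx, hp.xy, hz.2, T.B₁_comm z y, mul_zero,
            sub_zero, zero_mul, mul_one] at h1
          rw [show T.B₁ y (Y *ᵥ z) = T.B₁ z (Y *ᵥ y) by rw [B₁_self_adj hY, T.B₁_comm (Y *ᵥ y) z]] at h1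
          linear_combination h1
        intro z hz
        have h1 := hlin z hz
        have h1' := hlin (t • z) ⟨by rw [B₁_smul_right, hz.1, mul_zero], by rw [B₁_smul_right, hz.2, mul_zero]⟩
        simp only [B₁_smul_left, B₁_smul_right] at h1'
        have h3' : t * (t - 1) * (t + 1) * (T.B₁ z z * T.B₁ z (Y *ᵥ x)) = 0 := by
          field_simp at h1 h1'
          linear_combination h1' - t * h1
        refine (mul_eq_zero.mp h3').resolve_left (mul_ne_zero (mul_ne_zero ht0 (sub_ne_zero.mpr ht1)) ?_)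
        exact fun h => ht2 (eq_neg_of_add_eq_zero_left h)
      by_cases hvv : T.B₁ v v = 0
      · exact hv0 (hU.apply h2 h3 (by omega) hp hxv hyv hvv)
      · have h1 := hcub v ⟨hxv, hyv⟩
        rw [← hprojB v ⟨hxv, hyv⟩ (Y *ᵥ x), ← hv] at h1
        exact mul_ne_zero hvv hvv h1
  set a := T.B₁ x (Y *ᵥ y) with ha
  set g := T.B₁ y (Y *ᵥ y) with hg
  have hya : T.B₁ y (Y *ᵥ x) = a := by rw [ha, B₁_self_adj hY, T.B₁_comm]
  have hYy : ∀ z ∈ U₀, T.B₁ z (Y *ᵥ y) = 0 := by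
    intro z hz
    have h1 := congrArg (T.B₁ y) (hsplit z hz.1 y).1
    simp only [B₁_add_right, B₁_sub_right, B₁_smul_right, hp.yy, hp.yx, hp.xy, hz.2, T.B₁_comm z y, mul_zero,
      sub_zero, zero_mul, mul_one, hv z hz] at h1
    rw [show T.B₁ y (Y *ᵥ z) = T.B₁ z (Y *ᵥ y) by rw [B₁_self_adj hY, T.B₁_comm (Y *ᵥ y) z]] at h1
    exact (mul_eq_zero.mp (show (2 : F) * T.B₁ z (Y *ᵥ y) = 0 by linear_combination h1)).resolve_left h2
  have hYU : ∀ z ∈ U₀, ∀ w ∈ U₀, T.B₁ w (Y *ᵥ z) = a * T.B₁ w z := by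
    intro z hz w hw
    have h1 := congrArg (T.B₁ w) (hsplit z hz.1 y).1
    simp only [B₁_add_right, B₁_sub_right, B₁_smul_right, T.B₁_comm w x, hw.1, hp.xy, hz.2, T.B₁_comm z y, mul_zero,
      zero_mul, sub_zero, zero_sub, mul_one, one_mul, hv z hz, ← ha] at h1
    linear_combination h1
  refine eq_of_mulVec fun v => ?_
  rw [add_mulVec, smul_mulVec, smul_mulVec, one_mulVec, B₁_vec]
  refine sub_eq_zero.mp (T.eq_zero₁ fun w => ?_)
  rw [B₁_sub_right, B₁_add_right, B₁_smul_right, B₁_smul_right, B₁_smul_right]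
  rw [hp.decomp v, hp.decomp w]
  have m := hproj v
  have n := hproj w
  set p := T.proj₁ x y v
  set r := T.proj₁ x y w
  have e1 : T.B₁ x (Y *ᵥ p) = 0 := by rw [B₁_self_adj hY, T.B₁_comm, hv p m]
  have e2 : T.B₁ y (Y *ᵥ p) = 0 := by rw [B₁_self_adj hY, T.B₁_comm, hYy p m]
  simp only [mulVec_add, mulVec_smul, B₁_add_left, B₁_smul_left, B₁_add_right, B₁_smul_right, hp.xx, hp.yy, hp.xy,
    hp.yx, m.1, m.2, n.1, n.2, T.B₁_comm r x, T.B₁_comm r y, hd, hya, ← ha, ← hg, hv r n, hYy r n, hYU p m r n, e1, e2]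
  ring

variable [Fintype F] {X : Subgroup (GL (α × β) F)}

theorem kron_conj (a : Matrix α α F) (b : Matrix β β F) (w z : β → F) (M : Matrix α α F) :
    (a ⊗ₖ b) * (inc α w * M * T.pr z) * T.adjV (a ⊗ₖ b) =
      inc α (b *ᵥ w) * (a * M * T.adjU a) * T.pr (b *ᵥ z) := by
  have h : T.pr z * T.adjV (a ⊗ₖ b) = T.adjU a * T.pr (b *ᵥ z) := by
    rw [← T.star_inc z, ← T.star_mul_left, kron_mul_inc, T.star_mul_right, T.star_inc]
  simp only [← Matrix.mul_assoc, kron_mul_inc]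
  simp only [Matrix.mul_assoc, h]

/-- Without centre the components are self-adjoint. -/
theorem comp_self_adj (h : T.Over X) {e f : β → F} (hp : T.Pair₂ e f) (hS : SK h e hp.ee = ⊥) {g : GL (α × β) F}
    (hg : g ∈ X) (hr : T.IsRad e (g : Matrix (α × β) (α × β) F)) {z : β → F} (hz : T.B₂ e z = 0) :
    T.adjU (T.comp f (g : Matrix (α × β) (α × β) F) z) = T.comp f (g : Matrix (α × β) (α × β) F) z := by
  set G : Matrix (α × β) (α × β) F := (g : Matrix (α × β) (α × β) F)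
  set Y := T.comp f G z with hY
  have hi : T.IsIso G := h.isIso hg
  obtain ⟨t, ht, et⟩ := h.sie₂_mem hp.ee hz
  have hK : T.adjU Y - Y ∈ SK h e hp.ee := by
    refine ⟨by rw [adjU_sub, adjU_adjU, neg_sub], g * t * g⁻¹ * t⁻¹,
      mul_mem (mul_mem (mul_mem hg ht) (inv_mem hg)) (inv_mem ht), ?_⟩
    rw [Units.val_mul, Units.val_mul, Units.val_mul, T.inv_val hi, T.inv_val (h.isIso ht), et,
      T.conj_sie z hi (A := 1) (by rw [hr.1, Matrix.mul_one])]
    have e1 : G * inc α z = inc α z + inc α e * Y := hr.eq hp hz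
    have hst : T.star (G * inc α z) = T.pr z + T.adjU Y * T.pr e := by
      rw [e1, star, transpose_add, Matrix.mul_add, Matrix.add_mul]
      exact congrArg₂ (· + ·) (T.star_inc z) (by rw [← T.star_inc e, ← T.star_mul_right, star])
    have e2 : (1 : Matrix (α × β) (α × β) F) + inc α e * (1 : Matrix α α F) * T.star (G * inc α z) -
        G * inc α z * T.adjU 1 * T.pr e - (T.B₂ z z / 2) • (inc α e * (1 : Matrix α α F) * T.adjU 1 * T.pr e) =
          (1 : Matrix α α F) ⊗ₖ sie T.G₂ e z + inc α e * (T.adjU Y - Y) * T.pr e := by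
      rw [hst, e1, adjU_one, T.one_kron_sie]
      simp only [Matrix.mul_one, Matrix.mul_add, Matrix.add_mul, Matrix.mul_sub, Matrix.sub_mul, Matrix.mul_assoc]
      abel
    rw [e2, Matrix.add_mul]
    have hti : T.IsIso ((1 : Matrix α α F) ⊗ₖ sie T.G₂ e z) := et ▸ h.isIso ht
    have hfix : (1 : Matrix α α F) ⊗ₖ sie T.G₂ e z * inc α e = inc α e := by
      rw [kron_mul_inc, sie_fix T.symm₂ hp.ee (show z ⬝ᵥ T.G₂ *ᵥ e = 0 by rw [← TForm.B₂, B₂_comm]; exact hz),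
        Matrix.mul_one]
    have hpe : T.pr e * T.adjV ((1 : Matrix α α F) ⊗ₖ sie T.G₂ e z) = T.pr e := by
      rw [← T.star_inc e, ← T.star_mul_left, hfix]
    rw [mul_eq_one_comm.mp hti, Matrix.mul_assoc, hpe, ZM]
  rw [hS, AddSubgroup.mem_bot, sub_eq_zero] at hK
  exact hK

/-- The element of the radical given by a singular vector of the first factor. -/
def Pl (T : TForm α β F) (x : α → F) (e z : β → F) : Matrix (α × β) (α × β) F :=
  1 + (inc α e * vecMulVec x (T.G₁ *ᵥ x) * T.pr z - inc α z * vecMulVec x (T.G₁ *ᵥ x) * T.pr e)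

theorem Pl_iso {x : α → F} (hx : T.B₁ x x = 0) {e z : β → F} (he : T.B₂ e e = 0) (hz : T.B₂ e z = 0) :
    T.IsIso (T.Pl x e z) ∧ T.adjV (T.Pl x e z) = T.Pl x e (-z) := by
  set P := vecMulVec x (T.G₁ *ᵥ x)
  have hPP : P * P = 0 := by
    rw [vecMulVec_mul_vecMulVec, dotProduct_comm, show x ⬝ᵥ T.G₁ *ᵥ x = 0 from hx, zero_smul, vecMulVec_zero]
  have hze : T.B₂ z e = 0 := by rw [B₂_comm]; exact hz
  have hadj : T.adjV (T.Pl x e z) = T.Pl x e (-z) := by
    rw [Pl, adjV_add, adjV_one, adjV_sub, adjV_inc_pr, adjV_inc_pr, adjU_vecMulVec, Pl, pr_neg, inc_neg]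
    simp only [Matrix.mul_neg, Matrix.neg_mul]
    abel
  refine ⟨?_, hadj⟩
  rw [IsIso, hadj, Pl, Pl, pr_neg, inc_neg]
  simp only [Matrix.mul_neg, Matrix.neg_mul, Matrix.mul_add, Matrix.add_mul, Matrix.mul_sub, Matrix.sub_mul,
    Matrix.mul_one, Matrix.one_mul, sub_neg_eq_add]
  simp only [Matrix.mul_assoc]
  simp only [← Matrix.mul_assoc (T.pr _) (inc α _), T.pr_mul_inc, he, hz, hze, zero_smul, Matrix.zero_mul,
    Matrix.mul_zero, Matrix.smul_mul, Matrix.one_mul, Matrix.mul_smul, ← Matrix.mul_assoc P P, hPP, smul_zero]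
  simp only [← Matrix.mul_assoc]
  simp only [Matrix.mul_assoc (inc α e) (vecMulVec x (T.G₁ *ᵥ x)) (vecMulVec x (T.G₁ *ᵥ x)),
    show vecMulVec x (T.G₁ *ᵥ x) * vecMulVec x (T.G₁ *ᵥ x) = 0 from hPP, Matrix.mul_zero,
    Matrix.zero_mul, smul_zero]
  abel

theorem Pl_rad {x : α → F} {e f z : β → F} (hp : T.Pair₂ e f) (hz : T.B₂ e z = 0) :
    T.IsRad e (T.Pl x e z) ∧
      ∀ w, T.B₂ e w = 0 → T.comp f (T.Pl x e z) w = T.B₂ z w • vecMulVec x (T.G₁ *ᵥ x) := by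
  have key : ∀ w, T.B₂ e w = 0 →
      T.Pl x e z * inc α w = inc α w + inc α e * (T.B₂ z w • vecMulVec x (T.G₁ *ᵥ x)) := by
    intro w hw
    simp only [Pl, Matrix.add_mul, Matrix.sub_mul, Matrix.one_mul, Matrix.mul_assoc, T.pr_mul_inc, hw, zero_smul,
      Matrix.mul_zero, sub_zero, Matrix.mul_smul, Matrix.mul_one]
  refine ⟨⟨?_, fun w hw => ⟨_, key w hw⟩⟩, fun w hw => ?_⟩
  · rw [key e hp.ee, show T.B₂ z e = 0 by rw [B₂_comm]; exact hz, zero_smul, Matrix.mul_zero, add_zero]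
  · rw [comp, Matrix.mul_assoc, Matrix.sub_mul, Matrix.one_mul, key w hw, add_sub_cancel_left, ← Matrix.mul_assoc,
      T.pr_mul_inc, hp.fe, one_smul, Matrix.one_mul]

theorem sie₂_rad {e f z : β → F} (hp : T.Pair₂ e f) (hz : T.B₂ e z = 0) :
    T.IsRad e ((1 : Matrix α α F) ⊗ₖ sie T.G₂ e z) ∧
      ∀ w, T.B₂ e w = 0 → T.comp f ((1 : Matrix α α F) ⊗ₖ sie T.G₂ e z) w =
        T.B₂ z w • (1 : Matrix α α F) := by
  have key : ∀ w, T.B₂ e w = 0 →
      (1 : Matrix α α F) ⊗ₖ sie T.G₂ e z * inc α w = inc α w + inc α e * (T.B₂ z w • (1 : Matrix α α F)) := by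
    intro w hw
    rw [kron_mul_inc, Matrix.mul_one, sie_mulVec T.G₂ T.symm₂, show e ⬝ᵥ T.G₂ *ᵥ w = 0 from hw]
    simp [inc_add, inc_smul, B₂]
  refine ⟨⟨?_, fun w hw => ⟨_, key w hw⟩⟩, fun w hw => ?_⟩
  · rw [key e hp.ee, show T.B₂ z e = 0 by rw [B₂_comm]; exact hz, zero_smul, Matrix.mul_zero, add_zero]
  · rw [comp, Matrix.mul_assoc, Matrix.sub_mul, Matrix.one_mul, key w hw, add_sub_cancel_left, ← Matrix.mul_assoc,
      T.pr_mul_inc, hp.fe, one_smul, Matrix.one_mul]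

/-- Without centre there is no radical element with a component along a singular vector of `U`. -/
theorem no_singular_comp (h : T.Over X) {e f : β → F} (hp : T.Pair₂ e f) (hS : SK h e hp.ee = ⊥) {x y : α → F}
    (hxy : T.Pair₁ x y) {z : β → F} (hez : T.B₂ e z = 0) (hfz : T.B₂ f z = 0) (hz0 : z ≠ 0) {g : GL (α × β) F}
    (hg : g ∈ X) {K : Matrix α α F} (hgv : (g : Matrix (α × β) (α × β) F) = T.Pl x e z * T.ZM e K) : False := by
  classical
  obtain ⟨a, hxa, hya, haa⟩ := exists_aniso_pair T.symm₁ T.det₁ h.two h.card₁ hxy.xx hxy.yy hxy.xy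
  -- an element fixing the pair and moving `z` to a vector seen by it
  obtain ⟨b, hbe, ⟨k₂, hk₂, ek₂⟩, hzb⟩ : ∃ b : Matrix β β F, b *ᵥ e = e ∧
      (∃ k ∈ X, (k : Matrix (α × β) (α × β) F) = (1 : Matrix α α F) ⊗ₖ b) ∧ T.B₂ z (b *ᵥ z) ≠ 0 := by
    by_cases hzz : T.B₂ z z = 0
    · obtain ⟨w', hw'w', hzw', hew', hfw'⟩ :=
        exists_partner_perp T.symm₂ T.det₂ h.two hp.ee hp.ff hp.ef hz0 hzz hez hfz
      have h5 := h.small₂.resolve_right fun hs => hz0 (hs.2 e f z hp.ee hp.ef hez hfz hzz)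
      obtain ⟨c, hec, hfc, hzc, hw'c, hcc⟩ := exists_aniso_four T.symm₂ T.det₂ h.two h5 hp.ee hp.ff hp.ef hzz
        hw'w' hzw' hez hew' hfz hfw'
      refine ⟨sie T.G₂ w' c, ?_, h.sie₂_mem hw'w' hw'c, ?_⟩
      · exact sie_fix T.symm₂ (by rw [bf_comm T.symm₂]; exact hew') (by rw [bf_comm T.symm₂]; exact hec)
      · rw [sie_mulVec T.G₂ T.symm₂, show c ⬝ᵥ T.G₂ *ᵥ z = 0 by rw [bf_comm T.symm₂]; exact hzc,
          show w' ⬝ᵥ T.G₂ *ᵥ z = 1 by rw [bf_comm T.symm₂]; exact hzw', zero_smul, one_smul, add_zero, mul_one,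
          B₂_sub_right, B₂_sub_right, B₂_smul_right, show T.B₂ z w' = 1 from hzw', show T.B₂ z c = 0 from hzc, hzz,
          mul_one, sub_zero, zero_sub, neg_ne_zero]
        exact div_ne_zero hcc h.two
    · exact ⟨1, one_mulVec e, ⟨1, one_mem X, by rw [Units.val_one, one_kronecker_one]⟩, by rwa [one_mulVec]⟩
  obtain ⟨k₁, hk₁, ek₁⟩ := h.sie₁_mem hxy.yy hya
  set A := sie T.G₁ y a with hA
  set k := k₁ * k₂
  have hk : k ∈ X := mul_mem hk₁ hk₂
  have ek : (k : Matrix (α × β) (α × β) F) = A ⊗ₖ b := by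
    rw [Units.val_mul, ek₁, ek₂, ← mul_kronecker_mul, Matrix.mul_one, Matrix.one_mul]
  have hki : T.IsIso (A ⊗ₖ b) := ek ▸ h.isIso hk
  set x' := A *ᵥ x with hx'
  set z' := b *ᵥ z with hz'
  set P := vecMulVec x (T.G₁ *ᵥ x) with hP
  set P' := vecMulVec x' (T.G₁ *ᵥ x') with hP'
  set K' := A * K * T.adjU A with hK'
  set g' := k * g * k⁻¹
  have hg' : g' ∈ X := mul_mem (mul_mem hk hg) (inv_mem hk)
  have hze : T.B₂ z e = 0 := by rw [B₂_comm]; exact hez
  have hze' : T.B₂ e z' = 0 := by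
    have h1 : T.pr e * inc α z = 0 := by rw [T.pr_mul_inc, hez, zero_smul]
    have h2' : (A ⊗ₖ b) * inc α e = inc α e * A := by rw [kron_mul_inc, hbe]
    have hbb : ∀ v w : β → F, T.B₂ (b *ᵥ v) (b *ᵥ w) = T.B₂ v w := fun v w => by
      obtain ⟨k₂', hk₂', e₂'⟩ : ∃ k ∈ X, (k : Matrix (α × β) (α × β) F) = (1 : Matrix α α F) ⊗ₖ b := ⟨k₂, hk₂, ek₂⟩
      have hi2 : T.IsIso ((1 : Matrix α α F) ⊗ₖ b) := e₂' ▸ h.isIso hk₂'
      rw [isIso_iff, ← kroneckerMap_transpose, G, ← mul_kronecker_mul, ← mul_kronecker_mul, transpose_one,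
        Matrix.one_mul, Matrix.mul_one] at hi2
      obtain ⟨i₀, j₀, hij⟩ : ∃ i j, T.G₁ i j ≠ 0 := by
        by_contra hh
        push Not at hh
        refine T.det₁ ?_
        haveI : Nonempty α := Fintype.card_pos_iff.mp (by have := h.card₁; omega)
        rw [show T.G₁ = 0 from Matrix.ext hh, det_zero]
      have hbG : bᵀ * T.G₂ * b = T.G₂ := by
        refine Matrix.ext fun p q => mul_left_cancel₀ hij ?_
        exact congrFun (congrFun hi2 (i₀, p)) (j₀, q)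
      rw [B₂, B₂, dotProduct_mulVec (b *ᵥ v), ← vecMul_transpose b v, vecMul_vecMul, dotProduct_mulVec,
        vecMul_vecMul, hbG, ← dotProduct_mulVec]
    rw [← hbe, hz', hbb, hez]
  have hz'e : T.B₂ z' e = 0 := by rw [B₂_comm]; exact hze'
  have eg' : (g' : Matrix (α × β) (α × β) F) = T.Pl x' e z' * T.ZM e K' := by
    rw [Units.val_mul, Units.val_mul, T.inv_val (h.isIso hk), ek, hgv]
    have hsplit : ∀ M N : Matrix (α × β) (α × β) F, (A ⊗ₖ b) * (M * N) * T.adjV (A ⊗ₖ b) =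
        ((A ⊗ₖ b) * M * T.adjV (A ⊗ₖ b)) * ((A ⊗ₖ b) * N * T.adjV (A ⊗ₖ b)) := fun M N => by
      simp only [Matrix.mul_assoc]
      rw [← Matrix.mul_assoc (T.adjV (A ⊗ₖ b)) (A ⊗ₖ b), show T.adjV (A ⊗ₖ b) * (A ⊗ₖ b) = 1 from hki, Matrix.one_mul]
    rw [hsplit]
    congr 1
    · simp only [Pl, Matrix.mul_add, Matrix.add_mul, Matrix.mul_sub, Matrix.sub_mul, Matrix.mul_one,
        mul_eq_one_comm.mp hki]
      simp only [kron_conj, conj_vec, hbe]
      rfl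
    · simp only [ZM, Matrix.mul_add, Matrix.add_mul, Matrix.mul_one, mul_eq_one_comm.mp hki]
      simp only [kron_conj, hbe]
      rfl
  set C := T.B₂ z z' • (P' * P - P * P') with hC
  have hcomm : T.ZM e C * ((g' : Matrix (α × β) (α × β) F) * (g : Matrix (α × β) (α × β) F)) =
      (g : Matrix (α × β) (α × β) F) * (g' : Matrix (α × β) (α × β) F) := by
    rw [eg', hgv, hC, Pl, Pl, ZM, ZM, ZM, ← hP, ← hP']
    simp only [Matrix.mul_add, Matrix.add_mul, Matrix.mul_sub, Matrix.sub_mul, Matrix.mul_one, Matrix.one_mul,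
      Matrix.smul_mul, Matrix.mul_smul]
    simp only [Matrix.mul_assoc]
    simp only [← Matrix.mul_assoc (T.pr _) (inc α _), T.pr_mul_inc, hp.ee, hez, hze, hze', hz'e, T.B₂_comm z' z,
      zero_smul, Matrix.zero_mul, Matrix.mul_zero, Matrix.smul_mul, Matrix.one_mul, Matrix.mul_smul, smul_zero,
      add_zero, zero_add, sub_zero, sub_self, smul_sub, smul_add]
    module
  have hmem : C ∈ SK h e hp.ee := by
    refine ⟨?_, g * g' * (g' * g)⁻¹, mul_mem (mul_mem hg hg') (inv_mem (mul_mem hg' hg)), ?_⟩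
    · rw [hC, adjU_smul, adjU_sub, adjU_mul, adjU_mul, hP, hP', adjU_vecMulVec, adjU_vecMulVec, ← smul_neg, neg_sub]
    · rw [Units.val_mul, Units.val_mul, ← hcomm, ← Units.val_mul, Matrix.mul_assoc, ← Units.val_mul, mul_inv_cancel,
        Units.val_one, Matrix.mul_one]
  rw [hS, AddSubgroup.mem_bot, hC, smul_eq_zero] at hmem
  have hmem' := hmem.resolve_left hzb
  have hval := congrArg (fun M : Matrix α α F => M *ᵥ x') hmem'
  beta_reduce at hval
  have hxa' : T.B₁ x a = 0 := hxa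
  have hax : T.B₁ a x = 0 := by rw [B₁_comm]; exact hxa
  have hyxs : T.B₁ y x = 1 := hxy.yx
  have hx'v : x' = x - a - (T.B₁ a a / 2) • y := by
    rw [hx', hA, sie_apply, hax, hyxs, zero_smul, one_smul, mul_one, add_zero]
  have hd : T.B₁ x x' = -(T.B₁ a a / 2) := by
    rw [hx'v, B₁_sub_right, B₁_sub_right, B₁_smul_right, hxy.xx, hxa', hxy.xy]
    ring
  have hay : T.B₁ a y = 0 := by rw [B₁_comm]; exact hya
  have hx'x' : T.B₁ x' x' = 0 := by
    rw [hx'v]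
    simp only [B₁_sub_left, B₁_sub_right, B₁_smul_left, B₁_smul_right, hxy.xx, hxy.yy, hxa', hax, hxy.xy, hyxs, hay,
      show T.B₁ y a = 0 from hya]
    have h2 := h.two
    field_simp
    ring
  have hd0 : T.B₁ x x' ≠ 0 := by rw [hd]; exact neg_ne_zero.mpr (div_ne_zero haa h.two)
  simp only [sub_mulVec, ← mulVec_mulVec, hP, hP', B₁_vec, B₁_smul_right, mulVec_smul, smul_smul, hx'x',
    T.B₁_comm x' x, zero_mul, mul_zero, zero_smul, sub_zero, zero_mulVec, B₁_zero_right, mulVec_zero, smul_zero,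
    smul_eq_zero] at hval
  rcases hval with h0 | h0
  · exact mul_ne_zero hd0 hd0 h0
  · exact hd0 (by rw [h0, B₁_zero_right])

/-- Without centre the components are scalar. -/
theorem comp_scalar (h : T.Over X) (hU : T.Small₁) (hq : Fintype.card α = 3 → Fintype.card F ≠ 3) {e f : β → F}
    (hp : T.Pair₂ e f) (hS : SK h e hp.ee = ⊥) {g : GL (α × β) F} (hg : g ∈ X)
    (hr : T.IsRad e (g : Matrix (α × β) (α × β) F)) :
    ∀ w, T.B₂ e w = 0 → ∃ c : F, T.comp f (g : Matrix (α × β) (α × β) F) w = c • 1 := by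
  classical
  obtain ⟨x, y, hxx, hyy, hxy⟩ := exists_pair T.symm₁ T.det₁ h.two h.card₁
  have hxp : T.Pair₁ x y := ⟨hxx, hyy, hxy⟩
  let E := {w : β → F // T.B₂ e w = 0}
  let S : AddSubgroup (E → Matrix α α F) :=
    { carrier := {Φ | ∃ g ∈ X, T.IsRad e (g : Matrix (α × β) (α × β) F) ∧
        ∀ w : E, Φ w = T.comp f (g : Matrix (α × β) (α × β) F) w.1}
      zero_mem' := ⟨1, one_mem X, ⟨by rw [Units.val_one, Matrix.one_mul], fun w _ => ⟨0, by simp⟩⟩,
        fun w => by simp [comp]⟩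
      add_mem' := by
        rintro Φ Ψ ⟨g, hg, hr, eg⟩ ⟨g', hg', hr', eg'⟩
        refine ⟨g * g', mul_mem hg hg', ?_, fun w => ?_⟩
        · rw [Units.val_mul]; exact (hr.mul hp hr').1
        · rw [Pi.add_apply, eg, eg', Units.val_mul, (hr.mul hp hr').2 _ w.2]
      neg_mem' := by
        rintro Φ ⟨g, hg, hr, eg⟩
        refine ⟨g⁻¹, inv_mem hg, ?_, fun w => ?_⟩
        · rw [T.inv_val (h.isIso hg)]; exact (hr.adj hp (h.isIso hg)).1
        · rw [Pi.neg_apply, eg, T.inv_val (h.isIso hg), (hr.adj hp (h.isIso hg)).2 _ w.2] }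
  let N : AddSubgroup (E → Matrix α α F) :=
    { carrier := {Φ | ∀ w, ∃ c : F, Φ w = c • 1}
      zero_mem' := fun w => ⟨0, by simp⟩
      add_mem' := fun {Φ Ψ} h h' w => by
        obtain ⟨c, hc⟩ := h w
        obtain ⟨d, hd⟩ := h' w
        exact ⟨c + d, by rw [Pi.add_apply, hc, hd, add_smul]⟩
      neg_mem' := fun {Φ} h w => by
        obtain ⟨c, hc⟩ := h w
        exact ⟨-c, by rw [Pi.neg_apply, hc, neg_smul]⟩ }
  let L : {z : α → F // T.B₁ x z = 0} → (E → Matrix α α F) →+ (E → Matrix α α F) := fun z =>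
    AddMonoidHom.mk' (fun Φ w => sie T.G₁ x z.1 * Φ w * sie T.G₁ x (-z.1) - Φ w) fun a b => by
      funext w
      simp only [Pi.add_apply, Matrix.mul_add, Matrix.add_mul]
      abel
  by_contra hcon
  push Not at hcon
  obtain ⟨w₁, hw₁, hns⟩ := hcon
  have hne : ∃ Φ ∈ S, Φ ∉ N := ⟨fun w => T.comp f (g : Matrix (α × β) (α × β) F) w.1, ⟨g, hg, hr, fun w => rfl⟩,
    fun hN => by
      obtain ⟨c, hc⟩ := hN ⟨w₁, hw₁⟩
      exact hns c hc⟩
  have hneg : ∀ z : α → F, T.B₁ x z = 0 → T.B₁ x (-z) = 0 := fun z hz => by rw [B₁_neg_right, hz, neg_zero]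
  obtain ⟨Φ, ⟨g₀, hg₀, hr₀, eg₀⟩, hΦN, hfix⟩ := exists_common S N L
    (fun z Φ hΦ => by
      obtain ⟨g, hg, hr, eg⟩ := hΦ
      obtain ⟨k, hk, ek⟩ := h.sie₁_mem hxx z.2
      set a := sie T.G₁ x z.1 with ha
      set a' := sie T.G₁ x (-z.1) with ha'
      have haa' : a * a' = 1 := sie_mul_neg T.symm₁ h.two hxx z.2
      have hkw : ∀ w : β → F, (a ⊗ₖ (1 : Matrix β β F)) * inc α w = inc α w * a := fun w => by
        rw [kron_mul_inc, one_mulVec]
      have hki : ((k⁻¹ : GL (α × β) F) : Matrix (α × β) (α × β) F) = a' ⊗ₖ (1 : Matrix β β F) := by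
        rw [T.inv_val (h.isIso hk), ek, adjV_kron, T.adjU_sie h.two hxx z.2, transpose_one, Matrix.mul_one, T.inv_mul₂]
      have hkw' : ∀ w : β → F, (a' ⊗ₖ (1 : Matrix β β F)) * inc α w = inc α w * a' := fun w => by
        rw [kron_mul_inc, one_mulVec]
      have key : ∀ w, T.B₂ e w = 0 → ((k * g * k⁻¹ : GL (α × β) F) : Matrix (α × β) (α × β) F) * inc α w =
          inc α w + inc α e * (a * T.comp f (g : Matrix (α × β) (α × β) F) w * a') := by
        intro w hw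
        rw [Units.val_mul, Units.val_mul, ek, hki, Matrix.mul_assoc, hkw', Matrix.mul_assoc, ← Matrix.mul_assoc _ (inc α w),
          hr.eq hp hw, Matrix.add_mul, Matrix.mul_add, ← Matrix.mul_assoc (a ⊗ₖ _) (inc α w), hkw, Matrix.mul_assoc,
          haa', Matrix.mul_one, ← Matrix.mul_assoc (a ⊗ₖ _), ← Matrix.mul_assoc (a ⊗ₖ _), hkw, Matrix.mul_assoc,
          Matrix.mul_assoc, Matrix.mul_assoc]
      have hrad : T.IsRad e ((k * g * k⁻¹ : GL (α × β) F) : Matrix (α × β) (α × β) F) := by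
        refine ⟨?_, fun w hw => ⟨_, key w hw⟩⟩
        rw [key e hp.ee, show T.comp f (g : Matrix (α × β) (α × β) F) e = 0 by
          rw [comp, Matrix.mul_assoc, Matrix.sub_mul, Matrix.one_mul, hr.1, sub_self, Matrix.mul_zero],
          Matrix.mul_zero, Matrix.zero_mul, Matrix.mul_zero, add_zero]
      refine ⟨k * g * k⁻¹ * g⁻¹, mul_mem (mul_mem (mul_mem hk hg) (inv_mem hk)) (inv_mem hg), ?_, fun w => ?_⟩
      · rw [Units.val_mul, T.inv_val (h.isIso hg)]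
        exact (hrad.mul hp (hr.adj hp (h.isIso hg)).1).1
      · show a * Φ w * a' - Φ w = _
        rw [Units.val_mul, T.inv_val (h.isIso hg), (hrad.mul hp (hr.adj hp (h.isIso hg)).1).2 _ w.2,
          (hr.adj hp (h.isIso hg)).2 _ w.2, eg w, ← sub_eq_add_neg]
        congr 1
        conv_rhs => rw [comp, Matrix.mul_assoc, Matrix.sub_mul, Matrix.one_mul, key _ w.2, add_sub_cancel_left, ← Matrix.mul_assoc,
          T.pr_mul_inc, hp.fe, one_smul, Matrix.one_mul])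
    (fun z Φ hΦ w => by
      obtain ⟨c, hc⟩ := hΦ w
      refine ⟨0, ?_⟩
      show sie T.G₁ x z.1 * Φ w * sie T.G₁ x (-z.1) - Φ w = _
      rw [hc, Matrix.mul_smul, Matrix.smul_mul, Matrix.mul_one, sie_mul_neg T.symm₁ h.two hxx z.2, sub_self, zero_smul])
    (fun k l Φ => by
      funext w
      show sie T.G₁ x k.1 * (sie T.G₁ x l.1 * Φ w * sie T.G₁ x (-l.1) - Φ w) * sie T.G₁ x (-k.1) -
          (sie T.G₁ x l.1 * Φ w * sie T.G₁ x (-l.1) - Φ w) =
        sie T.G₁ x l.1 * (sie T.G₁ x k.1 * Φ w * sie T.G₁ x (-k.1) - Φ w) * sie T.G₁ x (-l.1) -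
          (sie T.G₁ x k.1 * Φ w * sie T.G₁ x (-k.1) - Φ w)
      have e1 : sie T.G₁ x k.1 * sie T.G₁ x l.1 = sie T.G₁ x l.1 * sie T.G₁ x k.1 := by
        rw [sie_mul T.symm₁ h.two hxx k.2 l.2, sie_mul T.symm₁ h.two hxx l.2 k.2, add_comm]
      have e2 : sie T.G₁ x (-l.1) * sie T.G₁ x (-k.1) = sie T.G₁ x (-k.1) * sie T.G₁ x (-l.1) := by
        rw [sie_mul T.symm₁ h.two hxx (hneg _ l.2) (hneg _ k.2), sie_mul T.symm₁ h.two hxx (hneg _ k.2) (hneg _ l.2),
          add_comm]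
      simp only [Matrix.mul_sub, Matrix.sub_mul]
      simp only [Matrix.mul_assoc, e2]
      simp only [← Matrix.mul_assoc, e1]
      abel)
    (fun z => by
      obtain ⟨n, hn⟩ := conj_sub_nil (R := Matrix α α F) ⟨3, sie_cube T.symm₁ hxx z.2⟩
        ⟨3, sie_cube T.symm₁ hxx (hneg _ z.2)⟩
      refine ⟨n, fun Φ => funext fun w => ?_⟩
      have hi : ∀ m : ℕ, ((L z)^[m] Φ) w = (fun Y => sie T.G₁ x z.1 * Y * sie T.G₁ x (-z.1) - Y)^[m] (Φ w) := by
        intro m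
        induction m with
        | zero => rfl
        | succ m ih => rw [Function.iterate_succ_apply', Function.iterate_succ_apply', ← ih]; rfl
      rw [hi, hn]
      rfl)
    hne Finset.univ
  -- read off the functionals
  set G₀ : Matrix (α × β) (α × β) F := (g₀ : Matrix (α × β) (α × β) F)
  have hform : ∀ w, T.B₂ e w = 0 → T.comp f G₀ w = T.B₁ x (T.comp f G₀ w *ᵥ y) • (1 : Matrix α α F) +
      T.B₁ y (T.comp f G₀ w *ᵥ y) • vecMulVec x (T.G₁ *ᵥ x) := by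
    intro w hw
    refine fixed_form h.two h.card₁ hU hq hxp (comp_self_adj h hp hS hg₀ hr₀ hw) fun z hz => ?_
    obtain ⟨c, hc⟩ := hfix ⟨z, hz⟩ (Finset.mem_univ _) ⟨w, hw⟩
    refine ⟨c, ?_⟩
    rw [← eg₀ ⟨w, hw⟩]
    exact hc
  let za : β → F := ∑ k, T.B₁ x (T.comp f G₀ (T.us e f k) *ᵥ y) • T.us' e f k
  let zg : β → F := ∑ k, T.B₁ y (T.comp f G₀ (T.us e f k) *ᵥ y) • T.us' e f k
  have hlin : ∀ (q : α → F) w, T.B₂ e w = 0 →
      T.B₂ (∑ k, T.B₁ q (T.comp f G₀ (T.us e f k) *ᵥ y) • T.us' e f k) w = T.B₁ q (T.comp f G₀ w *ᵥ y) := by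
    intro q w hw
    let φ : (β → F) →ₗ[F] F :=
      { toFun := fun v => T.B₁ q (T.comp f G₀ v *ᵥ y)
        map_add' := fun v v' => by rw [comp_add, add_mulVec, B₁_add_right]
        map_smul' := fun c v => by rw [comp_smul, smul_mulVec, B₁_smul_right]; rfl }
    have hexp := congrArg φ (hp.expand w)
    rw [map_add, map_add, map_smul, map_smul, map_sum, hw, zero_smul, add_zero] at hexp
    have he0 : φ e = 0 := by
      show T.B₁ q (T.comp f G₀ e *ᵥ y) = 0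
      rw [comp, Matrix.mul_assoc, Matrix.sub_mul, Matrix.one_mul, hr₀.1, sub_self, Matrix.mul_zero, zero_mulVec,
        B₁_zero_right]
    rw [he0, smul_zero, zero_add] at hexp
    show _ = φ w
    rw [hexp, B₂, sum_dotProduct]
    refine Finset.sum_congr rfl fun k _ => ?_
    rw [map_smul, smul_dotProduct, smul_eq_mul, smul_eq_mul, mul_comm]
    rfl
  have hperp : ∀ q : α → F, T.B₂ e (∑ k, T.B₁ q (T.comp f G₀ (T.us e f k) *ᵥ y) • T.us' e f k) = 0 ∧
      T.B₂ f (∑ k, T.B₁ q (T.comp f G₀ (T.us e f k) *ᵥ y) • T.us' e f k) = 0 := fun q => by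
    simp only [B₂, mulVec_sum, dotProduct_sum, mulVec_smul, dotProduct_smul]
    exact ⟨Finset.sum_eq_zero fun k _ => by rw [show e ⬝ᵥ T.G₂ *ᵥ T.us' e f k = 0 from hp.us'_left k, smul_zero],
      Finset.sum_eq_zero fun k _ => by rw [show f ⬝ᵥ T.G₂ *ᵥ T.us' e f k = 0 from hp.us'_right k, smul_zero]⟩
  obtain ⟨haz, -⟩ := hperp x
  obtain ⟨hgz, hfgz⟩ := hperp y
  have hzg0 : zg ≠ 0 := by
    intro h0
    apply hΦN
    intro w
    refine ⟨T.B₁ x (T.comp f G₀ w.1 *ᵥ y), ?_⟩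
    conv_lhs => rw [eg₀, hform _ w.2, ← hlin y _ w.2, show ∑ k, T.B₁ y (T.comp f G₀ (T.us e f k) *ᵥ y) • T.us' e f k = 0 from h0,
      B₂_zero_left, zero_smul, add_zero]
  obtain ⟨t, ht, et⟩ := h.sie₂_mem hp.ee (show T.B₂ e za = 0 from haz)
  set g₁ := g₀ * t⁻¹
  have hti : T.IsIso ((1 : Matrix α α F) ⊗ₖ sie T.G₂ e za) := et ▸ h.isIso ht
  have hg₁X : g₁ ∈ X := mul_mem hg₀ (inv_mem ht)
  have hr₁ := hr₀.mul hp ((sie₂_rad (T := T) (α := α) hp haz).1.adj hp hti).1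
  have eg₁ : (g₁ : Matrix (α × β) (α × β) F) = G₀ * T.adjV ((1 : Matrix α α F) ⊗ₖ sie T.G₂ e za) := by
    rw [Units.val_mul, T.inv_val (h.isIso ht), et]
  obtain ⟨hPi, hPa⟩ := Pl_iso (x := x) (T := T) hxx hp.ee (show T.B₂ e zg = 0 from hgz)
  have hPr := Pl_rad (x := x) (T := T) hp (show T.B₂ e zg = 0 from hgz)
  have hr₂ := (hPr.1.adj hp hPi).1.mul hp hr₁.1
  have hi₂ : T.IsIso (T.adjV (T.Pl x e zg) * (G₀ * T.adjV ((1 : Matrix α α F) ⊗ₖ sie T.G₂ e za))) := by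
    refine IsIso.mul T ?_ (eg₁ ▸ h.isIso hg₁X)
    rw [hPa]
    exact (Pl_iso hxx hp.ee (show T.B₂ e (-zg) = 0 by rw [B₂_neg_right]; exact neg_eq_zero.mpr hgz)).1
  obtain ⟨K, -, hK⟩ := hr₂.1.central hp hi₂ fun w hw => by
    rw [hr₂.2 w hw, hr₁.2 w hw, (hPr.1.adj hp hPi).2 w hw, hPr.2 w hw,
      ((sie₂_rad (T := T) (α := α) hp haz).1.adj hp hti).2 w hw, (sie₂_rad (T := T) (α := α) hp haz).2 w hw,
      show T.B₂ za w = _ from hlin x w hw, show T.B₂ zg w = _ from hlin y w hw]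
    linear_combination (norm := abel) hform w hw
  refine no_singular_comp h hp hS hxp hgz hfgz hzg0 hg₁X (K := K) ?_
  rw [eg₁, ← hK, ← Matrix.mul_assoc, mul_eq_one_comm.mp hPi, Matrix.one_mul]

end TForm

end Cfsg.Lib.Classical.TensorOrth
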