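import Cfsg.Agent.Classical.TensorOrth.Group

/-!
# Hyperbolic pairs, central elements and the radical of the stabiliser of `U ⊗ e`
-/

set_option autoImplicit false
set_option linter.unusedSectionVars false
set_option linter.unusedSimpArgs false

namespace Cfsg.Lib.Classical.TensorOrth

open Matrix
open scoped Kronecker MatrixGroups
open Cfsg.Lib.Classical.TensorMax (pure IsKron isKron_of_mat)

universe u

variable {α β : Type} [Fintype α] [DecidableEq α] [Fintype β] [DecidableEq β] {F : Type u} [Field F]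

namespace TForm

variable (T : TForm α β F)

/-- A hyperbolic pair in the second factor. -/
structure Pair₂ (e f : β → F) : Prop where
  ee : T.B₂ e e = 0
  ff : T.B₂ f f = 0
  ef : T.B₂ e f = 1

/-- A hyperbolic pair in the first factor. -/
structure Pair₁ (x y : α → F) : Prop where
  xx : T.B₁ x x = 0
  yy : T.B₁ y y = 0
  xy : T.B₁ x y = 1

/-- The projection to the orthogonal complement of a pair. -/
def proj₂ (e f z : β → F) : β → F := z - T.B₂ f z • e - T.B₂ e z • f

/-- The projection to the orthogonal complement of a pair. -/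
def proj₁ (x y z : α → F) : α → F := z - T.B₁ y z • x - T.B₁ x z • y

/-- A spanning family of the complement. -/
def us (e f : β → F) (k : β) : β → F := T.proj₂ e f (Pi.single k 1)

/-- The dual spanning family of the complement. -/
noncomputable def us' (e f : β → F) (k : β) : β → F := T.proj₂ e f (T.G₂⁻¹ *ᵥ Pi.single k 1)

theorem sum_dual₂ (x : β → F) : ∑ k, T.B₂ (T.G₂⁻¹ *ᵥ Pi.single k 1) x • (Pi.single k (1 : F) : β → F) = x := by
  have h : ∀ k, T.B₂ (T.G₂⁻¹ *ᵥ Pi.single k 1) x = x k := fun k => by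
    rw [B₂_comm, B₂, mulVec_mulVec, T.mul_inv₂, one_mulVec, dotProduct_single, mul_one]
  simp only [h]
  funext i
  simp [Finset.sum_apply, Pi.single_apply]

variable {T}

theorem Pair₂.fe {e f : β → F} (hp : T.Pair₂ e f) : T.B₂ f e = 1 := by rw [B₂_comm]; exact hp.ef

theorem Pair₁.yx {x y : α → F} (hp : T.Pair₁ x y) : T.B₁ y x = 1 := by rw [B₁_comm]; exact hp.xy

theorem Pair₂.symm {e f : β → F} (hp : T.Pair₂ e f) : T.Pair₂ f e := ⟨hp.ff, hp.ee, hp.fe⟩

theorem Pair₁.symm {x y : α → F} (hp : T.Pair₁ x y) : T.Pair₁ y x := ⟨hp.yy, hp.xx, hp.yx⟩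

theorem Pair₂.ne {e f : β → F} (hp : T.Pair₂ e f) : e ≠ 0 := fun h => by
  have := hp.ef
  rw [h, T.B₂_zero_left] at this
  exact zero_ne_one this

theorem Pair₁.ne {x y : α → F} (hp : T.Pair₁ x y) : x ≠ 0 := fun h => by
  have := hp.xy
  rw [h, T.B₁_zero_left] at this
  exact zero_ne_one this

theorem Pair₂.proj_left {e f : β → F} (hp : T.Pair₂ e f) (z : β → F) : T.B₂ e (T.proj₂ e f z) = 0 := by
  rw [proj₂, B₂_sub_right, B₂_sub_right, B₂_smul_right, B₂_smul_right, hp.ee, hp.ef]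
  ring

theorem Pair₂.proj_right {e f : β → F} (hp : T.Pair₂ e f) (z : β → F) : T.B₂ f (T.proj₂ e f z) = 0 := by
  rw [proj₂, B₂_sub_right, B₂_sub_right, B₂_smul_right, B₂_smul_right, hp.fe, hp.ff]
  ring

theorem Pair₁.proj_left {x y : α → F} (hp : T.Pair₁ x y) (z : α → F) : T.B₁ x (T.proj₁ x y z) = 0 := by
  rw [proj₁, B₁_sub_right, B₁_sub_right, B₁_smul_right, B₁_smul_right, hp.xx, hp.xy]
  ring

theorem Pair₁.proj_right {x y : α → F} (hp : T.Pair₁ x y) (z : α → F) : T.B₁ y (T.proj₁ x y z) = 0 := by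
  rw [proj₁, B₁_sub_right, B₁_sub_right, B₁_smul_right, B₁_smul_right, hp.yx, hp.yy]
  ring

theorem Pair₁.decomp {x y : α → F} (_hp : T.Pair₁ x y) (z : α → F) :
    z = T.B₁ y z • x + T.B₁ x z • y + T.proj₁ x y z := by
  rw [proj₁]; abel

theorem Pair₂.sum_proj {e f : β → F} (_hp : T.Pair₂ e f) (x : β → F) :
    ∑ k, T.B₂ (T.G₂⁻¹ *ᵥ Pi.single k 1) x • T.us e f k = T.proj₂ e f x := by
  simp only [us, proj₂, smul_sub, Finset.sum_sub_distrib, smul_smul, ← Finset.sum_smul]
  rw [T.sum_dual₂]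
  have h : ∀ w, ∑ k, T.B₂ (T.G₂⁻¹ *ᵥ Pi.single k 1) x * T.B₂ w (Pi.single k 1) = T.B₂ w x := fun w => by
    conv_rhs => rw [← T.sum_dual₂ x]
    simp only [B₂, mulVec_sum, dotProduct_sum, mulVec_smul, dotProduct_smul, smul_eq_mul]
  rw [h, h]

theorem Pair₂.proj_self {e f : β → F} (hp : T.Pair₂ e f) : T.proj₂ e f e = 0 ∧ T.proj₂ e f f = 0 := by
  constructor
  · rw [proj₂, hp.fe, hp.ee, one_smul, zero_smul, sub_self, sub_zero]
  · rw [proj₂, hp.ef, hp.ff, one_smul, zero_smul, sub_zero, sub_self]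

/-- Every vector along the pair and its complement. -/
theorem Pair₂.expand {e f : β → F} (hp : T.Pair₂ e f) (z : β → F) :
    z = T.B₂ f z • e + T.B₂ e z • f + ∑ k, T.B₂ (T.us' e f k) z • T.us e f k := by
  have hsum : ∑ k, T.B₂ (T.us' e f k) z • T.us e f k = T.proj₂ e f z := by
    have h : ∀ k, T.B₂ (T.us' e f k) z = T.B₂ (T.G₂⁻¹ *ᵥ Pi.single k 1) z -
        T.B₂ e z * T.B₂ (T.G₂⁻¹ *ᵥ Pi.single k 1) f - T.B₂ f z * T.B₂ (T.G₂⁻¹ *ᵥ Pi.single k 1) e := fun k => by
      rw [us', proj₂, B₂_sub_left, B₂_sub_left, B₂_smul_left, B₂_smul_left, T.B₂_comm f (_ *ᵥ _),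
        T.B₂_comm e (_ *ᵥ _)]
      ring
    simp only [h, sub_smul, mul_smul, Finset.sum_sub_distrib, ← Finset.smul_sum]
    rw [hp.sum_proj, hp.sum_proj, hp.sum_proj, hp.proj_self.1, hp.proj_self.2, smul_zero, smul_zero, sub_zero,
      sub_zero]
  rw [hsum, proj₂]
  abel

theorem Pair₂.us_left {e f : β → F} (hp : T.Pair₂ e f) (k : β) : T.B₂ e (T.us e f k) = 0 := hp.proj_left _
theorem Pair₂.us_right {e f : β → F} (hp : T.Pair₂ e f) (k : β) : T.B₂ f (T.us e f k) = 0 := hp.proj_right _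
theorem Pair₂.us'_left {e f : β → F} (hp : T.Pair₂ e f) (k : β) : T.B₂ e (T.us' e f k) = 0 := hp.proj_left _
theorem Pair₂.us'_right {e f : β → F} (hp : T.Pair₂ e f) (k : β) : T.B₂ f (T.us' e f k) = 0 := hp.proj_right _

theorem inc_one_pr (w z : β → F) : inc α w * T.pr z = (1 : Matrix α α F) ⊗ₖ vecMulVec w (T.G₂ *ᵥ z) := by
  rw [pr, ← inc_mul_ev, Matrix.mul_one]

/-- The resolution of the identity along a pair. -/
theorem Pair₂.res {e f : β → F} (hp : T.Pair₂ e f) :
    (1 : Matrix (α × β) (α × β) F) =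
      inc α e * T.pr f + inc α f * T.pr e + ∑ k, inc α (T.us e f k) * T.pr (T.us' e f k) := by
  have hmat : (1 : Matrix β β F) = vecMulVec e (T.G₂ *ᵥ f) + vecMulVec f (T.G₂ *ᵥ e) +
      ∑ k, vecMulVec (T.us e f k) (T.G₂ *ᵥ T.us' e f k) := by
    refine Matrix.ext_of_mulVec_single fun j => ?_
    simp only [one_mulVec, add_mulVec, sum_mulVec, B₂_vec]
    exact hp.expand _
  simp only [inc_one_pr]
  conv_lhs => rw [← one_kronecker_one (m := α) (n := β), hmat]
  rw [kronecker_add, kronecker_add]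
  congr 1
  induction (Finset.univ : Finset β) using Finset.induction_on with
  | empty => simp
  | insert a s ha ih => rw [Finset.sum_insert ha, Finset.sum_insert ha, kronecker_add, ih]

variable (T)

theorem one_kron_sie (e z : β → F) :
    (1 : Matrix α α F) ⊗ₖ sie T.G₂ e z =
      1 + inc α e * T.pr z - inc α z * T.pr e - (T.B₂ z z / 2) • (inc α e * T.pr e) := by
  simp only [inc_one_pr]
  ext ⟨i, k⟩ ⟨l, n⟩
  simp only [sie, B₂, kroneckerMap_apply, Matrix.sub_apply, Matrix.add_apply, Matrix.smul_apply, one_apply,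
    Prod.mk.injEq, smul_eq_mul]
  by_cases h : i = l <;> by_cases h' : k = n <;> simp [h, h'] <;> ring

/-- The central element of the radical at `e` given by `K`. -/
def ZM (e : β → F) (K : Matrix α α F) : Matrix (α × β) (α × β) F := 1 + inc α e * K * T.pr e

theorem ZM_sub (e : β → F) (K : Matrix α α F) : T.ZM e K - 1 = inc α e * K * T.pr e := add_sub_cancel_left _ _

theorem ZM_zero (e : β → F) : T.ZM e (0 : Matrix α α F) = 1 := by simp [ZM]

variable {T}

theorem pr_inc_self {e : β → F} (he : T.B₂ e e = 0) : T.pr e * inc α e = 0 := by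
  rw [T.pr_mul_inc, he, zero_smul]

theorem ZM_mul {e : β → F} (he : T.B₂ e e = 0) (K L : Matrix α α F) : T.ZM e K * T.ZM e L = T.ZM e (K + L) := by
  have h : inc α e * K * T.pr e * (inc α e * L * T.pr e) = 0 := by
    simp only [Matrix.mul_assoc]
    rw [← Matrix.mul_assoc (T.pr e), pr_inc_self he, Matrix.zero_mul, Matrix.mul_zero, Matrix.mul_zero]
  rw [ZM, ZM, ZM, add_mul, one_mul, mul_add, mul_one, h, add_zero, Matrix.mul_add, Matrix.add_mul]
  abel

theorem ZM_adj (e : β → F) (K : Matrix α α F) : T.adjV (T.ZM e K) = T.ZM e (T.adjU K) := by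
  rw [ZM, adjV_add, adjV_one, adjV_inc_pr, ZM]

theorem ZM_iso {e : β → F} (he : T.B₂ e e = 0) {K : Matrix α α F} (hK : T.adjU K = -K) : T.IsIso (T.ZM e K) := by
  rw [IsIso, ZM_adj, ZM_mul he, hK, neg_add_cancel, ZM_zero]

theorem ZM_cube {e : β → F} (he : T.B₂ e e = 0) (K : Matrix α α F) : (T.ZM e K - 1) ^ 3 = 0 := by
  refine pow_eq_zero_of_le (m := 2) (by norm_num) ?_
  rw [ZM_sub, pow_two]
  simp only [Matrix.mul_assoc]
  rw [← Matrix.mul_assoc (T.pr e), pr_inc_self he, Matrix.zero_mul, Matrix.mul_zero, Matrix.mul_zero]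

theorem ZM_inj {e f : β → F} (hp : T.Pair₂ e f) {K L : Matrix α α F} (h : T.ZM e K = T.ZM e L) : K = L := by
  have := congrArg (fun M => T.pr f * (M - 1) * inc α f) h
  simp only [ZM_sub] at this
  simpa [← Matrix.mul_assoc, T.pr_mul_inc, hp.fe, hp.ef, Matrix.mul_assoc _ (T.pr e)] using this

variable [Fintype F] {X : Subgroup (GL (α × β) F)}

/-- The central parts at `e` of `X`. -/
def SK (h : T.Over X) (e : β → F) (he : T.B₂ e e = 0) : AddSubgroup (Matrix α α F) where
  carrier := {K | T.adjU K = -K ∧ ∃ g ∈ X, (g : Matrix (α × β) (α × β) F) = T.ZM e K}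
  zero_mem' := ⟨by simp [adjU], 1, one_mem X, by rw [Units.val_one, ZM_zero]⟩
  add_mem' := by
    rintro K L ⟨hK, g, hg, eg⟩ ⟨hL, g', hg', eg'⟩
    exact ⟨by rw [adjU_add, hK, hL, neg_add], g * g', mul_mem hg hg', by rw [Units.val_mul, eg, eg', ZM_mul he]⟩
  neg_mem' := by
    rintro K ⟨hK, g, hg, eg⟩
    refine ⟨?_, g⁻¹, inv_mem hg, ?_⟩
    · rw [neg_neg, show -K = T.adjU K from hK.symm, adjU_adjU]
    · rw [T.inv_val (h.isIso hg), eg, ZM_adj, hK]

theorem mem_SK {h : T.Over X} {e : β → F} {he : T.B₂ e e = 0} {K : Matrix α α F} :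
    K ∈ SK h e he ↔ T.adjU K = -K ∧ ∃ g ∈ X, (g : Matrix (α × β) (α × β) F) = T.ZM e K := Iff.rfl

/-- Membership in the radical of the stabiliser of `U ⊗ e`. -/
def IsRad (T : TForm α β F) (e : β → F) (g : Matrix (α × β) (α × β) F) : Prop :=
  g * inc α e = inc α e ∧ ∀ w, T.B₂ e w = 0 → ∃ Y : Matrix α α F, g * inc α w = inc α w + inc α e * Y

/-- The component of a radical element at `w`. -/
def comp (T : TForm α β F) (f : β → F) (g : Matrix (α × β) (α × β) F) (w : β → F) : Matrix α α F :=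
  T.pr f * (g - 1) * inc α w

theorem comp_add (f : β → F) (g : Matrix (α × β) (α × β) F) (w w' : β → F) :
    T.comp f g (w + w') = T.comp f g w + T.comp f g w' := by
  rw [comp, inc_add, Matrix.mul_add, comp, comp]

theorem comp_smul (f : β → F) (g : Matrix (α × β) (α × β) F) (c : F) (w : β → F) :
    T.comp f g (c • w) = c • T.comp f g w := by
  rw [comp, inc_smul, Matrix.mul_smul, comp]

theorem IsRad.eq {e f : β → F} (hp : T.Pair₂ e f) {g : Matrix (α × β) (α × β) F} (hg : T.IsRad e g) {w : β → F}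
    (hw : T.B₂ e w = 0) : g * inc α w = inc α w + inc α e * T.comp f g w := by
  obtain ⟨Y, hY⟩ := hg.2 w hw
  have : T.comp f g w = Y := by
    rw [comp, Matrix.mul_assoc, Matrix.sub_mul, Matrix.one_mul, hY, add_sub_cancel_left, ← Matrix.mul_assoc,
      T.pr_mul_inc, hp.fe, one_smul, Matrix.one_mul]
  rw [this, hY]

theorem IsRad.mul {e f : β → F} (hp : T.Pair₂ e f) {g g' : Matrix (α × β) (α × β) F} (hg : T.IsRad e g)
    (hg' : T.IsRad e g') : T.IsRad e (g * g') ∧
      ∀ w, T.B₂ e w = 0 → T.comp f (g * g') w = T.comp f g w + T.comp f g' w := by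
  have key : ∀ w, T.B₂ e w = 0 → g * g' * inc α w = inc α w + inc α e * (T.comp f g w + T.comp f g' w) := by
    intro w hw
    rw [Matrix.mul_assoc, hg'.eq hp hw, Matrix.mul_add, hg.eq hp hw, ← Matrix.mul_assoc, hg.1, Matrix.mul_add,
      add_assoc]
  refine ⟨⟨by rw [Matrix.mul_assoc, hg'.1, hg.1], fun w hw => ⟨_, key w hw⟩⟩, fun w hw => ?_⟩
  rw [comp, Matrix.mul_assoc, Matrix.sub_mul, Matrix.one_mul, key w hw, add_sub_cancel_left, ← Matrix.mul_assoc,
    T.pr_mul_inc, hp.fe, one_smul, Matrix.one_mul]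

theorem IsRad.adj {e f : β → F} (hp : T.Pair₂ e f) {g : Matrix (α × β) (α × β) F} (hg : T.IsRad e g)
    (hi : T.IsIso g) : T.IsRad e (T.adjV g) ∧ ∀ w, T.B₂ e w = 0 → T.comp f (T.adjV g) w = -T.comp f g w := by
  have hi' : T.adjV g * g = 1 := hi
  have h0 : T.adjV g * inc α e = inc α e := by
    conv_lhs => rw [← hg.1]
    rw [← Matrix.mul_assoc, hi', Matrix.one_mul]
  have key : ∀ w, T.B₂ e w = 0 → T.adjV g * inc α w = inc α w + inc α e * (-T.comp f g w) := by
    intro w hw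
    have := congrArg (T.adjV g * ·) (hg.eq hp hw)
    beta_reduce at this
    rw [← Matrix.mul_assoc, hi', Matrix.one_mul, Matrix.mul_add, ← Matrix.mul_assoc, h0] at this
    rw [Matrix.mul_neg]
    linear_combination (norm := abel) -this
  refine ⟨⟨h0, fun w hw => ⟨_, key w hw⟩⟩, fun w hw => ?_⟩
  rw [comp, Matrix.mul_assoc, Matrix.sub_mul, Matrix.one_mul, key w hw, add_sub_cancel_left, ← Matrix.mul_assoc,
    T.pr_mul_inc, hp.fe, one_smul, Matrix.one_mul]

/-- An isometry fixing `U ⊗ e` pointwise also fixes the contraction with `e`. -/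
theorem pr_fix {e : β → F} {g : Matrix (α × β) (α × β) F} (hi : T.IsIso g) (hg : g * inc α e = inc α e) :
    T.pr e * g = T.pr e := by
  have h := congrArg T.star hg
  rw [star_mul_left, star_inc] at h
  conv_lhs => rw [← h]
  rw [Matrix.mul_assoc, show T.adjV g * g = 1 from hi, Matrix.mul_one]

theorem IsRad.cube {e f : β → F} (hp : T.Pair₂ e f) {g : Matrix (α × β) (α × β) F} (hg : T.IsRad e g)
    (hi : T.IsIso g) : (g - 1) ^ 3 = 0 := by
  set D := g - 1 with hD
  have hDe : D * inc α e = 0 := by rw [hD, Matrix.sub_mul, Matrix.one_mul, hg.1, sub_self]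
  have heD : T.pr e * D = 0 := by rw [hD, Matrix.mul_sub, Matrix.mul_one, pr_fix hi hg.1, sub_self]
  have hDw : ∀ k, D * inc α (T.us e f k) = inc α e * T.comp f g (T.us e f k) := fun k => by
    rw [hD, Matrix.sub_mul, Matrix.one_mul, hg.eq hp (hp.us_left k), add_sub_cancel_left]
  have hD2 : D * D = ∑ k, inc α e * (T.comp f g (T.us e f k) * (T.pr (T.us' e f k) * D)) := by
    conv_lhs => rw [show D * D = D * (1 * D) by rw [Matrix.one_mul], hp.res]
    simp only [Matrix.add_mul, Matrix.mul_add, Matrix.sum_mul, Matrix.mul_sum, Matrix.mul_assoc, heD, Matrix.mul_zero,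
      add_zero]
    rw [← Matrix.mul_assoc D, hDe, Matrix.zero_mul, zero_add]
    refine Finset.sum_congr rfl fun k _ => ?_
    rw [← Matrix.mul_assoc D, hDw, Matrix.mul_assoc]
  rw [pow_succ, pow_two, Matrix.mul_assoc, hD2, Matrix.mul_sum]
  refine Finset.sum_eq_zero fun k _ => ?_
  rw [← Matrix.mul_assoc D, hDe, Matrix.zero_mul]

/-- A radical element without components is central. -/
theorem IsRad.central {e f : β → F} (hp : T.Pair₂ e f) {g : Matrix (α × β) (α × β) F} (hg : T.IsRad e g)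
    (hi : T.IsIso g) (h0 : ∀ w, T.B₂ e w = 0 → T.comp f g w = 0) :
    ∃ K, T.adjU K = -K ∧ g = T.ZM e K := by
  set D := g - 1 with hD
  have hDw : ∀ w, T.B₂ e w = 0 → g * inc α w = inc α w := fun w hw => by
    rw [hg.eq hp hw, h0 w hw, Matrix.mul_zero, add_zero]
  have heD : T.pr e * D = 0 := by rw [hD, Matrix.mul_sub, Matrix.mul_one, pr_fix hi hg.1, sub_self]
  have hwD : ∀ k, T.pr (T.us' e f k) * D = 0 := fun k => by
    rw [hD, Matrix.mul_sub, Matrix.mul_one, pr_fix hi (hDw _ (hp.us'_left k)), sub_self]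
  set K := T.pr f * (D * inc α f) with hK
  have hDf : D * inc α f = inc α e * K := by
    conv_lhs => rw [← Matrix.one_mul (D * inc α f), hp.res]
    simp only [Matrix.add_mul, Matrix.sum_mul, Matrix.mul_assoc]
    simp [← Matrix.mul_assoc, heD, hwD, hK]
  have hgeq : g = T.ZM e K := by
    rw [ZM, ← sub_eq_iff_eq_add']
    show D = _
    conv_lhs => rw [← Matrix.mul_one D, hp.res]
    simp only [Matrix.mul_add, Matrix.mul_sum, ← Matrix.mul_assoc, hDf]
    rw [show D * inc α e = 0 by rw [hD, Matrix.sub_mul, Matrix.one_mul, hg.1, sub_self]]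
    simp only [fun k => show D * inc α (T.us e f k) = 0 by
      rw [hD, Matrix.sub_mul, Matrix.one_mul, hDw _ (hp.us_left k), sub_self], Matrix.zero_mul, zero_add,
      Finset.sum_const_zero, add_zero]
  refine ⟨K, ?_, hgeq⟩
  have h := hi
  rw [hgeq, IsIso, ZM_adj, ZM_mul hp.ee, ← ZM_zero T e] at h
  exact eq_neg_of_add_eq_zero_left (ZM_inj hp h)

/-- The conjugate of a Siegel element by an element stabilising `U ⊗ e`. -/
theorem conj_sie {e : β → F} (z : β → F) {g : Matrix (α × β) (α × β) F} {A : Matrix α α F} (hi : T.IsIso g)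
    (hg : g * inc α e = inc α e * A) :
    g * ((1 : Matrix α α F) ⊗ₖ sie T.G₂ e z) * T.adjV g =
      1 + inc α e * A * T.star (g * inc α z) - g * inc α z * T.adjU A * T.pr e -
        (T.B₂ z z / 2) • (inc α e * A * T.adjU A * T.pr e) := by
  have h1 : T.pr e * T.adjV g = T.adjU A * T.pr e := by
    rw [← T.star_inc e, ← T.star_mul_left, hg, T.star_mul_right]
  have h2 : T.pr z * T.adjV g = T.star (g * inc α z) := by rw [T.star_mul_left, T.star_inc]
  rw [T.one_kron_sie]
  simp only [Matrix.mul_sub, Matrix.mul_add, Matrix.sub_mul, Matrix.add_mul, Matrix.mul_one, Matrix.mul_smul,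
    Matrix.smul_mul, mul_eq_one_comm.mp hi, ← Matrix.mul_assoc, hg]
  simp only [Matrix.mul_assoc, h1, h2]

end TForm

end Cfsg.Lib.Classical.TensorOrth
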