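import Cfsg.Agent.Classical.TensorOrth.Geom

/-!
# Frames and unipotent isometries of a three-dimensional orthogonal space
-/

set_option autoImplicit false
set_option linter.unusedSectionVars false
set_option linter.unusedSimpArgs false
set_option linter.style.haveILetI false

namespace Cfsg.Lib.Classical.TensorOrth

open Matrix
open scoped Kronecker MatrixGroups

universe u

variable {γ : Type} [Fintype γ] [DecidableEq γ] {F : Type u} [Field F]

/-- A symmetric non-degenerate form on a space of dimension three in odd characteristic. -/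
structure Three (G : Matrix γ γ F) : Prop where
  symm : Gᵀ = G
  det : G.det ≠ 0
  two : (2 : F) ≠ 0
  card : Fintype.card γ = 3

/-- A hyperbolic pair and an anisotropic vector orthogonal to it. -/
structure Frame (G : Matrix γ γ F) (e x f : γ → F) : Prop where
  ee : e ⬝ᵥ G *ᵥ e = 0
  ff : f ⬝ᵥ G *ᵥ f = 0
  ef : e ⬝ᵥ G *ᵥ f = 1
  ex : e ⬝ᵥ G *ᵥ x = 0
  fx : f ⬝ᵥ G *ᵥ x = 0
  xx : x ⬝ᵥ G *ᵥ x ≠ 0

/-- A unipotent isometry. -/
def Uni (G a : Matrix γ γ F) : Prop := aᵀ * G * a = G ∧ IsNilpotent (a - 1)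

variable {G : Matrix γ γ F}

theorem Uni.form {a : Matrix γ γ F} (ha : Uni G a) (u v : γ → F) : (a *ᵥ u) ⬝ᵥ G *ᵥ (a *ᵥ v) = u ⬝ᵥ G *ᵥ v := by
  rw [mulVec_mulVec, dotProduct_mulVec (a *ᵥ u), ← vecMul_transpose a u, vecMul_vecMul, ← Matrix.mul_assoc, ha.1,
    ← dotProduct_mulVec]

theorem Uni.one : Uni G (1 : Matrix γ γ F) :=
  ⟨by rw [transpose_one, Matrix.one_mul, Matrix.mul_one], by rw [sub_self]; exact IsNilpotent.zero⟩

/-- Conjugation by the symmetry of the form. -/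
theorem bf_zero_comm (hG : Gᵀ = G) {a b : γ → F} (h : a ⬝ᵥ G *ᵥ b = 0) : b ⬝ᵥ G *ᵥ a = 0 := by
  rw [bf_comm hG]; exact h

theorem nilp_eigen {N : Matrix γ γ F} (hN : IsNilpotent N) {v : γ → F} (hv : v ≠ 0) {c : F} (h : N *ᵥ v = c • v) :
    c = 0 := by
  obtain ⟨n, hn⟩ := hN
  have hp : ∀ j : ℕ, N ^ j *ᵥ v = c ^ j • v := fun j => by
    induction j with
    | zero => rw [pow_zero, pow_zero, one_mulVec, one_smul]
    | succ j ih => rw [pow_succ', ← mulVec_mulVec, ih, mulVec_smul, h, smul_smul, pow_succ]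
  have h1 := hp n
  rw [hn, zero_mulVec, eq_comm, smul_eq_zero] at h1
  exact eq_zero_of_pow_eq_zero (h1.resolve_right hv)

namespace Frame

variable {e x f : γ → F}

theorem symm (hF : Frame G e x f) (h3 : Three G) : Frame G f x e :=
  ⟨hF.ff, hF.ee, by rw [bf_comm h3.symm]; exact hF.ef, hF.fx, hF.ex, hF.xx⟩

theorem fe (hF : Frame G e x f) (h3 : Three G) : f ⬝ᵥ G *ᵥ e = 1 := by rw [bf_comm h3.symm]; exact hF.ef

theorem xe (hF : Frame G e x f) (h3 : Three G) : x ⬝ᵥ G *ᵥ e = 0 := bf_zero_comm h3.symm hF.ex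

theorem xf (hF : Frame G e x f) (h3 : Three G) : x ⬝ᵥ G *ᵥ f = 0 := bf_zero_comm h3.symm hF.fx

theorem ne (hF : Frame G e x f) : e ≠ 0 := fun h => by
  have := hF.ef
  rw [h, zero_dotProduct] at this
  exact zero_ne_one this

theorem x_ne (hF : Frame G e x f) : x ≠ 0 := fun h => hF.xx (by rw [h, zero_dotProduct])

theorem indep (hF : Frame G e x f) (h3 : Three G) : LinearIndependent F ![e, x, f] := by
  refine Fintype.linearIndependent_iff.mpr fun c hc => ?_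
  rw [Fin.sum_univ_three] at hc
  simp only [Matrix.cons_val_zero, Matrix.cons_val_one, Matrix.cons_val] at hc
  have hh : ∀ z : γ → F, z ⬝ᵥ G *ᵥ (c 0 • e + c 1 • x + c 2 • f) = 0 := fun z => by
    rw [hc, mulVec_zero, dotProduct_zero]
  have h0 := hh f
  have h1 := hh x
  have h2 := hh e
  simp only [mulVec_add, mulVec_smul, dotProduct_add, dotProduct_smul, smul_eq_mul, hF.ee, hF.ff, hF.ef, hF.ex,
    hF.fx, hF.fe h3, hF.xe h3, hF.xf h3] at h0 h1 h2
  intro i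
  fin_cases i
  · show c 0 = 0
    linear_combination h0
  · exact (mul_eq_zero.mp (by linear_combination h1 : c 1 * (x ⬝ᵥ G *ᵥ x) = 0)).resolve_right hF.xx
  · show c 2 = 0
    linear_combination h2

/-- Coordinates in a frame. -/
theorem expand (hF : Frame G e x f) (h3 : Three G) (v : γ → F) :
    v = (f ⬝ᵥ G *ᵥ v) • e + ((x ⬝ᵥ G *ᵥ v) / (x ⬝ᵥ G *ᵥ x)) • x + (e ⬝ᵥ G *ᵥ v) • f := by
  set d := v - ((f ⬝ᵥ G *ᵥ v) • e + ((x ⬝ᵥ G *ᵥ v) / (x ⬝ᵥ G *ᵥ x)) • x + (e ⬝ᵥ G *ᵥ v) • f) with hd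
  suffices h : d = 0 from sub_eq_zero.mp h
  have he : e ⬝ᵥ G *ᵥ d = 0 := by
    simp [hd, mulVec_sub, mulVec_add, mulVec_smul, hF.ee, hF.ex, hF.ef]
  have hx : x ⬝ᵥ G *ᵥ d = 0 := by
    simp [hd, mulVec_sub, mulVec_add, mulVec_smul, hF.xe h3, hF.xf h3, hF.xx]
  have hf : f ⬝ᵥ G *ᵥ d = 0 := by
    simp [hd, mulVec_sub, mulVec_add, mulVec_smul, hF.ff, hF.fx, hF.fe h3]
  refine bf_eq_zero h3.det fun z => ?_
  haveI : Nonempty γ := Fintype.card_pos_iff.mp (by rw [h3.card]; omega)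
  have htop := (hF.indep h3).span_eq_top_of_card_eq_finrank (by rw [Fintype.card_fin, Module.finrank_pi, h3.card])
  have hz : z ∈ Submodule.span F (Set.range ![e, x, f]) := htop ▸ Submodule.mem_top
  induction hz using Submodule.span_induction with
  | mem y hy =>
    obtain ⟨i, rfl⟩ := hy
    fin_cases i
    · exact he
    · exact hx
    · exact hf
  | zero => rw [zero_dotProduct]
  | add a b _ _ ha hb => rw [add_dotProduct, ha, hb, add_zero]
  | smul c a _ ha => rw [smul_dotProduct, ha, smul_zero]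

/-- Matrices agreeing on a frame are equal. -/
theorem ext (hF : Frame G e x f) (h3 : Three G) {a b : Matrix γ γ F} (he : a *ᵥ e = b *ᵥ e) (hx : a *ᵥ x = b *ᵥ x)
    (hf : a *ᵥ f = b *ᵥ f) : a = b := by
  refine Matrix.ext_of_mulVec_single fun j => ?_
  rw [hF.expand h3 (Pi.single j 1)]
  simp only [mulVec_add, mulVec_smul, he, hx, hf]

theorem sie_e (hF : Frame G e x f) (h3 : Three G) (s : F) : sie G e (s • x) *ᵥ e = e := by
  rw [sie_fix h3.symm hF.ee (by rw [smul_dotProduct, hF.xe h3, smul_zero])]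

theorem sie_x (hF : Frame G e x f) (h3 : Three G) (s : F) :
    sie G e (s • x) *ᵥ x = x + (s * (x ⬝ᵥ G *ᵥ x)) • e := by
  rw [sie_mulVec G h3.symm, hF.ex, smul_dotProduct, smul_eq_mul]
  simp

theorem sie_f (hF : Frame G e x f) (h3 : Three G) (s : F) :
    sie G e (s • x) *ᵥ f = f - s • x - (s * s * (x ⬝ᵥ G *ᵥ x) / 2) • e := by
  rw [sie_mulVec G h3.symm, hF.ef, mulVec_smul, dotProduct_smul, smul_dotProduct, smul_dotProduct, hF.xf h3]
  simp only [smul_eq_mul, mul_one, mul_zero, zero_smul, add_zero, one_smul, mul_assoc]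

theorem sie_uni (hF : Frame G e x f) (h3 : Three G) (s : F) : Uni G (sie G e (s • x)) := by
  have hz : e ⬝ᵥ G *ᵥ (s • x) = 0 := by rw [mulVec_smul, dotProduct_smul, hF.ex, smul_zero]
  exact ⟨sie_isom h3.symm h3.two hF.ee hz, ⟨3, sie_cube h3.symm hF.ee hz⟩⟩

theorem sie_add (hF : Frame G e x f) (h3 : Three G) (r s : F) :
    sie G e (r • x) * sie G e (s • x) = sie G e ((r + s) • x) := by
  rw [sie_mul h3.symm h3.two hF.ee (by rw [mulVec_smul, dotProduct_smul, hF.ex, smul_zero])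
    (by rw [mulVec_smul, dotProduct_smul, hF.ex, smul_zero]), add_smul]

theorem sie_comm (hF : Frame G e x f) (h3 : Three G) (r s : F) :
    sie G e (r • x) * sie G e (s • x) = sie G e (s • x) * sie G e (r • x) := by
  rw [hF.sie_add h3, hF.sie_add h3, add_comm]

theorem pair_x (hF : Frame G e x f) (h3 : Three G) (s : F) :
    x ⬝ᵥ G *ᵥ (sie G e (s • x) *ᵥ f) = -(s * (x ⬝ᵥ G *ᵥ x)) := by
  simp [hF.sie_f h3, mulVec_sub, mulVec_smul, hF.xf h3, hF.xe h3]

theorem pair_f (hF : Frame G e x f) (h3 : Three G) (s : F) :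
    f ⬝ᵥ G *ᵥ (sie G e (s • x) *ᵥ f) = -(s * s * (x ⬝ᵥ G *ᵥ x) / 2) := by
  simp [hF.sie_f h3, mulVec_sub, mulVec_smul, hF.ff, hF.fx, hF.fe h3]

theorem pair_e (hF : Frame G e x f) (h3 : Three G) (s : F) : e ⬝ᵥ G *ᵥ (sie G e (s • x) *ᵥ f) = 1 := by
  simp [hF.sie_f h3, mulVec_sub, mulVec_smul, hF.ef, hF.ex, hF.ee]

theorem sie_inj (hF : Frame G e x f) (h3 : Three G) {r s : F} (h : sie G e (r • x) = sie G e (s • x)) : r = s := by
  have h1 := hF.pair_x h3 r
  rw [h, hF.pair_x h3, neg_inj] at h1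
  exact (mul_right_cancel₀ hF.xx h1).symm

/-- A singular vector orthogonal to a singular vector is a multiple of it. -/
theorem sing_perp (hF : Frame G e x f) (h3 : Three G) {p : γ → F} (hp : p ⬝ᵥ G *ᵥ p = 0) (hep : e ⬝ᵥ G *ᵥ p = 0) :
    p = (f ⬝ᵥ G *ᵥ p) • e := by
  have h1 := hF.expand h3 p
  rw [hep, zero_smul, add_zero] at h1
  set b := (x ⬝ᵥ G *ᵥ p) / (x ⬝ᵥ G *ᵥ x)
  rw [h1] at hp
  simp [mulVec_add, mulVec_smul, hF.ee, hF.ex, hF.xe h3] at hp
  rw [hp.resolve_right hF.xx, zero_smul, add_zero] at h1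
  exact h1

/-- An isometry fixing `e` and unipotent is a Siegel element at `e`. -/
theorem of_fix (hF : Frame G e x f) (h3 : Three G) {a : Matrix γ γ F} (ha : Uni G a) (he : a *ᵥ e = e) :
    ∃ s : F, a = sie G e (s • x) := by
  have hex : e ⬝ᵥ G *ᵥ (a *ᵥ x) = 0 := by
    conv_lhs => rw [← he]
    rw [ha.form, hF.ex]
  have hax := hF.expand h3 (a *ᵥ x)
  rw [hex, zero_smul, add_zero] at hax
  set c := f ⬝ᵥ G *ᵥ (a *ᵥ x)
  set d := (x ⬝ᵥ G *ᵥ (a *ᵥ x)) / (x ⬝ᵥ G *ᵥ x)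
  have hd : d = 1 := by
    by_contra hd
    have hd0 : d - 1 ≠ 0 := sub_ne_zero.mpr hd
    have hv : x + (c / (d - 1)) • e ≠ 0 := fun h => hF.xx (by
      have := congrArg (fun v => x ⬝ᵥ G *ᵥ v) h
      simpa [mulVec_add, mulVec_smul, hF.xe h3] using this)
    refine hd0 (nilp_eigen ha.2 hv ?_)
    rw [sub_mulVec, one_mulVec, mulVec_add, mulVec_smul, he, hax, smul_add, smul_smul, mul_div_cancel₀ _ hd0,
      sub_smul, one_smul]
    abel
  rw [hd, one_smul] at hax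
  have hef : e ⬝ᵥ G *ᵥ (a *ᵥ f) = 1 := by
    conv_lhs => rw [← he]
    rw [ha.form, hF.ef]
  have haf := hF.expand h3 (a *ᵥ f)
  rw [hef, one_smul] at haf
  set A := f ⬝ᵥ G *ᵥ (a *ᵥ f)
  set B := (x ⬝ᵥ G *ᵥ (a *ᵥ f)) / (x ⬝ᵥ G *ᵥ x)
  have h1 := ha.form x f
  rw [hax, haf] at h1
  simp only [mulVec_add, mulVec_smul, dotProduct_add, add_dotProduct, dotProduct_smul, smul_dotProduct, smul_eq_mul,
    hF.ee, hF.ff, hF.ef, hF.ex, hF.fx, hF.fe h3, hF.xe h3, hF.xf h3] at h1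
  have h2 := ha.form f f
  rw [haf] at h2
  simp only [mulVec_add, mulVec_smul, dotProduct_add, add_dotProduct, dotProduct_smul, smul_dotProduct, smul_eq_mul,
    hF.ee, hF.ff, hF.ef, hF.ex, hF.fx, hF.fe h3, hF.xe h3, hF.xf h3] at h2
  refine ⟨-B, hF.ext h3 (by rw [he, hF.sie_e h3]) ?_ ?_⟩
  · rw [hax, hF.sie_x h3, add_comm x]
    congr 2
    linear_combination h1
  · rw [haf, hF.sie_f h3]
    have hA : A = -(-B * -B * (x ⬝ᵥ G *ᵥ x) / 2) := by
      field_simp [h3.two]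
      linear_combination h2
    rw [hA]
    simp only [neg_smul, sub_neg_eq_add]
    abel

/-- The only vectors fixed by a Siegel element are the multiples of `e`. -/
theorem fixed (hF : Frame G e x f) (h3 : Three G) {s : F} (hs : s ≠ 0) {v : γ → F}
    (hv : sie G e (s • x) *ᵥ v = v) : v = (f ⬝ᵥ G *ᵥ v) • e := by
  have h1 := hF.expand h3 v
  set a := f ⬝ᵥ G *ᵥ v
  set b := (x ⬝ᵥ G *ᵥ v) / (x ⬝ᵥ G *ᵥ x)
  set c := e ⬝ᵥ G *ᵥ v
  rw [h1] at hv
  simp only [mulVec_add, mulVec_smul, hF.sie_e h3, hF.sie_x h3, hF.sie_f h3] at hv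
  have e1 := congrArg (fun w => x ⬝ᵥ G *ᵥ w) hv
  simp [mulVec_add, mulVec_sub, mulVec_smul, hF.xe h3, hF.xf h3] at e1
  have hc : c = 0 := by
    rcases e1 with h | h | h
    · exact h
    · exact absurd h hs
    · exact absurd h hF.xx
  rw [hc] at hv
  have e2 := congrArg (fun w => f ⬝ᵥ G *ᵥ w) hv
  simp [mulVec_add, mulVec_sub, mulVec_smul, hF.ff, hF.fx, hF.fe h3] at e2
  have hb : b = 0 := by
    rcases e2 with h | h | h
    · exact h
    · exact absurd h hs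
    · exact absurd h hF.xx
  rwa [hb, hc, zero_smul, zero_smul, add_zero, add_zero] at h1

/-- A unipotent isometry commuting with a Siegel element at `e` is one. -/
theorem of_comm (hF : Frame G e x f) (h3 : Three G) {s : F} (hs : s ≠ 0) {a : Matrix γ γ F} (ha : Uni G a)
    (hc : a * sie G e (s • x) = sie G e (s • x) * a) : ∃ r : F, a = sie G e (r • x) := by
  have h1 : sie G e (s • x) *ᵥ (a *ᵥ e) = a *ᵥ e := by
    rw [mulVec_mulVec, ← hc, ← mulVec_mulVec, hF.sie_e h3]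
  have h2 := hF.fixed h3 hs h1
  have h4 : (f ⬝ᵥ G *ᵥ (a *ᵥ e)) - 1 = 0 := by
    refine nilp_eigen ha.2 hF.ne ?_
    conv_lhs => rw [sub_mulVec, one_mulVec, h2]
    rw [sub_smul, one_smul]
  rw [sub_eq_zero.mp h4, one_smul] at h2
  exact hF.of_fix h3 ha h2

end Frame

/-- A frame through a singular vector. -/
theorem exists_frame [Finite F] (h3 : Three G) {e : γ → F} (he0 : e ≠ 0) (he : e ⬝ᵥ G *ᵥ e = 0) :
    ∃ x f, Frame G e x f := by
  obtain ⟨f, hff, hef⟩ := exists_partner h3.symm h3.det h3.two he0 he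
  obtain ⟨x, hex, hfx, hxx⟩ := exists_aniso_pair h3.symm h3.det h3.two h3.card.ge he hff hef
  exact ⟨x, f, he, hff, hef, hex, hfx, hxx⟩

theorem exists_frame' [Finite F] (h3 : Three G) : ∃ e x f, Frame G e x f := by
  obtain ⟨e, f, he, hff, hef⟩ := exists_pair h3.symm h3.det h3.two h3.card.ge
  obtain ⟨x, hex, hfx, hxx⟩ := exists_aniso_pair h3.symm h3.det h3.two h3.card.ge he hff hef
  exact ⟨e, x, f, he, hff, hef, hex, hfx, hxx⟩

/-- A non-trivial unipotent isometry is a Siegel element. -/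
theorem Uni.eq_sie [Finite F] (h3 : Three G) {a : Matrix γ γ F} (ha : Uni G a) (h1 : a ≠ 1) :
    ∃ e x f, ∃ s : F, Frame G e x f ∧ s ≠ 0 ∧ a = sie G e (s • x) := by
  classical
  set N := a - 1 with hN
  have hex : ∃ n, N ^ n = 0 := ha.2
  have hn2 : 2 ≤ Nat.find hex := by
    by_contra hh
    refine sub_ne_zero.mpr h1 ?_
    have h := pow_eq_zero_of_le (show Nat.find hex ≤ 1 by omega) (Nat.find_spec hex)
    rwa [pow_one] at h
  obtain ⟨k, hk⟩ := Nat.exists_eq_add_of_le hn2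
  obtain ⟨u, hu⟩ : ∃ u, N ^ (k + 1) *ᵥ u ≠ 0 := by
    by_contra hh
    push Not at hh
    exact Nat.find_min hex (show k + 1 < Nat.find hex by omega)
      (Matrix.ext_of_mulVec_single fun j => by rw [hh, zero_mulVec])
  set w := N ^ (k + 1) *ᵥ u with hw
  have hNw : N *ᵥ w = 0 := by
    rw [hw, mulVec_mulVec, ← pow_succ', show k + 1 + 1 = Nat.find hex by omega, Nat.find_spec hex, zero_mulVec]
  have haw : a *ᵥ w = w := by rwa [hN, sub_mulVec, one_mulVec, sub_eq_zero] at hNw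
  have hww : w ⬝ᵥ G *ᵥ w = 0 := by
    have hh : ∀ u', (N *ᵥ u') ⬝ᵥ G *ᵥ w = 0 := fun u' => by
      have h := ha.form u' w
      rw [haw] at h
      rw [hN, sub_mulVec, one_mulVec, sub_dotProduct, h, sub_self]
    conv_lhs => arg 1; rw [hw, pow_succ', ← mulVec_mulVec]
    exact hh _
  obtain ⟨x, f, hF⟩ := exists_frame h3 hu hww
  obtain ⟨s, hs⟩ := hF.of_fix h3 ha haw
  refine ⟨w, x, f, s, hF, fun h0 => h1 ?_, hs⟩
  rw [hs, h0, zero_smul, sie_zero]

/-- Commuting unipotent isometries lie in one root group. -/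
theorem common_line [Finite F] (h3 : Three G) (S : Set (Matrix γ γ F)) (hU : ∀ a ∈ S, Uni G a)
    (hc : ∀ a ∈ S, ∀ b ∈ S, a * b = b * a) :
    ∃ e x f, Frame G e x f ∧ ∀ a ∈ S, ∃ r : F, a = sie G e (r • x) := by
  by_cases h : ∃ a ∈ S, a ≠ 1
  · obtain ⟨a, ha, ha1⟩ := h
    obtain ⟨e, x, f, s, hF, hs, rfl⟩ := (hU a ha).eq_sie h3 ha1
    exact ⟨e, x, f, hF, fun b hb => hF.of_comm h3 hs (hU b hb) (hc b hb _ ha)⟩
  · push Not at h
    obtain ⟨e, x, f, hF⟩ := exists_frame' h3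
    exact ⟨e, x, f, hF, fun b hb => ⟨0, by rw [h b hb, zero_smul, sie_zero]⟩⟩

end Cfsg.Lib.Classical.TensorOrth
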