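import Cfsg.Agent.Classical.TensorOrth.Frame

/-!
# The quartic invariant of a Kronecker product of orthogonal groups, and sums over free orbits
-/

set_option autoImplicit false
set_option linter.unusedSectionVars false
set_option linter.unusedSimpArgs false

namespace Cfsg.Lib.Classical.TensorOrth

open Matrix
open scoped Kronecker MatrixGroups
open Cfsg.Lib.Classical.TensorMax (pure IsKron)

universe u

variable {α β : Type} [Fintype α] [DecidableEq α] [Fintype β] [DecidableEq β] {F : Type u} [Field F]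

/-- A vector of the product as a matrix. -/
def toM {R : Type*} (y : α × β → R) : Matrix α β R := Matrix.of fun i k => y (i, k)

theorem toM_apply {R : Type*} (y : α × β → R) (i : α) (k : β) : toM y i k = y (i, k) := rfl

theorem toM_kron {R : Type*} [CommRing R] (a : Matrix α α R) (b : Matrix β β R) (y : α × β → R) :
    toM ((a ⊗ₖ b) *ᵥ y) = a * toM y * bᵀ := by
  ext i k
  simp only [toM_apply, Matrix.mulVec, dotProduct, Fintype.sum_prod_type, kroneckerMap_apply, Matrix.mul_apply,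
    Matrix.transpose_apply, Finset.sum_mul]
  rw [Finset.sum_comm]
  exact Finset.sum_congr rfl fun j _ => Finset.sum_congr rfl fun l _ => by ring

/-- The quartic `tr (Y₁ G₂ Y₂ᵀ G₁ Y₃ G₂ Y₄ᵀ G₁)`. -/
def quartic {R : Type*} [CommRing R] (A : Matrix α α R) (B : Matrix β β R) (y : Fin 4 → α × β → R) : R :=
  ((toM (y 0) * B * (toM (y 1))ᵀ * A) * (toM (y 2) * B * (toM (y 3))ᵀ * A)).trace

theorem quartic_map {R S : Type*} [CommRing R] [CommRing S] (φ : R →+* S) (A : Matrix α α R) (B : Matrix β β R)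
    (y : Fin 4 → α × β → R) : φ (quartic A B y) = quartic (A.map φ) (B.map φ) (fun j x => φ (y j x)) := by
  have h : ∀ j, (toM (y j)).map φ = toM (fun x => φ (y j x)) := fun j => rfl
  have ht : ∀ M : Matrix α α R, φ M.trace = (M.map φ).trace := fun M => by simp [Matrix.trace, map_sum]
  simp only [quartic, ht, Matrix.map_mul, Matrix.transpose_map, h]

theorem quartic_add (A : Matrix α α F) (B : Matrix β β F) (j : Fin 4) (y : Fin 4 → α × β → F) (u v : α × β → F) :
    quartic A B (Function.update y j (u + v)) =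
      quartic A B (Function.update y j u) + quartic A B (Function.update y j v) := by
  have h : toM (u + v) = toM u + toM v := rfl
  fin_cases j <;>
    simp [quartic, Function.update, h, Matrix.add_mul, Matrix.mul_add, Matrix.transpose_add, Matrix.trace_add]

namespace TForm

variable (T : TForm α β F)

/-- The quartic form of the two forms. -/
def mu (y : Fin 4 → α × β → F) : F := quartic T.G₁ T.G₂ y

theorem mu_kron {g : Matrix (α × β) (α × β) F} (hg : T.IsIso g) {a : Matrix α α F} {b : Matrix β β F}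
    (hab : g = a ⊗ₖ b) [Nonempty α] [Nonempty β] (y : Fin 4 → α × β → F) : T.mu (fun j => g *ᵥ y j) = T.mu y := by
  rw [hab, IsIso, adjV_kron, ← mul_kronecker_mul] at hg
  obtain ⟨l, hl, hla, hlb⟩ := TensorMax.exists_scalar_of_kron_eq_one hg
  have ha : aᵀ * T.G₁ * a = l • T.G₁ := by
    have := congrArg (T.G₁ * ·) hla
    beta_reduce at this
    rw [adjU, ← Matrix.mul_assoc, ← Matrix.mul_assoc, ← Matrix.mul_assoc, T.mul_inv₁, Matrix.one_mul,
      Matrix.mul_smul, Matrix.mul_one] at this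
    exact this
  have hb : bᵀ * T.G₂ * b = l⁻¹ • T.G₂ := by
    have := congrArg (T.G₂ * ·) hlb
    beta_reduce at this
    rwa [← Matrix.mul_assoc, ← Matrix.mul_assoc, ← Matrix.mul_assoc, T.mul_inv₂, Matrix.one_mul, Matrix.mul_smul,
      Matrix.mul_one] at this
  simp only [mu, quartic, hab, toM_kron, transpose_mul, transpose_transpose]
  generalize toM (y 0) = Y₀
  generalize toM (y 1) = Y₁
  generalize toM (y 2) = Y₂
  generalize toM (y 3) = Y₃
  calc _ = (a * (Y₀ * (bᵀ * T.G₂ * b) * Y₁ᵀ * (aᵀ * T.G₁ * a) * Y₂ * (bᵀ * T.G₂ * b) * Y₃ᵀ * aᵀ * T.G₁)).trace := by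
        simp only [Matrix.mul_assoc]
    _ = (Y₀ * (bᵀ * T.G₂ * b) * Y₁ᵀ * (aᵀ * T.G₁ * a) * Y₂ * (bᵀ * T.G₂ * b) * Y₃ᵀ * (aᵀ * T.G₁ * a)).trace := by
        rw [trace_mul_comm a]
        simp only [Matrix.mul_assoc]
    _ = _ := by
        rw [ha, hb]
        simp only [Matrix.mul_smul, Matrix.smul_mul, trace_smul, smul_smul, smul_eq_mul, Matrix.mul_assoc]
        field_simp

theorem mu_pure (x Y : α × β → F) (w : α × β → F) {v : α → F} {z : β → F} (hx : x = pure v z) :
    T.mu ![x, Y, x, w] = (x ⬝ᵥ T.G *ᵥ Y) * (x ⬝ᵥ T.G *ᵥ w) := by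
  subst hx
  have hG : ∀ y : α × β → F, pure v z ⬝ᵥ T.G *ᵥ y = v ⬝ᵥ (T.G₁ * toM y * T.G₂) *ᵥ z := by
    intro y
    have h1 : toM (T.G *ᵥ y) = T.G₁ * toM y * T.G₂ := by rw [G, toM_kron, T.symm₂]
    rw [← h1]
    simp only [dotProduct, Fintype.sum_prod_type, TensorMax.pure_apply, Matrix.mulVec, toM_apply, Finset.mul_sum,
      Finset.sum_mul]
    exact Finset.sum_congr rfl fun i _ => Finset.sum_congr rfl fun k _ => Finset.sum_congr rfl fun x _ =>
      Finset.sum_congr rfl fun l _ => by ring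
  have hzv : ∀ y : α × β → F, (z ᵥ* (T.G₂ * (toM y)ᵀ * T.G₁)) ⬝ᵥ v = v ⬝ᵥ (T.G₁ * toM y * T.G₂) *ᵥ z := by
    intro y
    rw [← mulVec_transpose, transpose_mul, transpose_mul, transpose_transpose, T.symm₁, T.symm₂, dotProduct_comm,
      Matrix.mul_assoc]
  have hx : toM (pure v z) = vecMulVec v z := rfl
  have key : ∀ y : α × β → F, vecMulVec v z * T.G₂ * (toM y)ᵀ * T.G₁ * vecMulVec v z =
      (pure v z ⬝ᵥ T.G *ᵥ y) • vecMulVec v z := by
    intro y
    rw [hG y, ← hzv y, Matrix.mul_assoc (vecMulVec v z) T.G₂, Matrix.mul_assoc (vecMulVec v z) (T.G₂ * _) T.G₁,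
      vecMulVec_mul, vecMulVec_mul_vecMulVec, vecMulVec_smul]
  simp only [mu, quartic, Matrix.cons_val_zero, Matrix.cons_val_one, Matrix.cons_val, hx]
  calc _ = ((vecMulVec v z * T.G₂ * (toM Y)ᵀ * T.G₁ * vecMulVec v z) * (T.G₂ * (toM w)ᵀ * T.G₁)).trace := by
        simp only [Matrix.mul_assoc]
    _ = _ := by
        rw [key, Matrix.smul_mul, trace_smul, smul_eq_mul, hG w]
        congr 1
        rw [vecMulVec_mul, trace_vecMulVec, dotProduct_comm, hzv]

theorem pure_of_mu {x : α × β → F} (hx : ∀ Y w, T.mu ![x, Y, x, w] = (x ⬝ᵥ T.G *ᵥ Y) * (x ⬝ᵥ T.G *ᵥ w)) :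
    ∀ i i' k k', x (i, k) * x (i', k') = x (i', k) * x (i, k') := by
  intro i i' k k'
  let dual : α → β → (α × β → F) := fun j l x => (T.G₁⁻¹ * (Matrix.single j l 1 : Matrix α β F) * T.G₂⁻¹ : Matrix α β F) x.1 x.2
  have hd : ∀ j l, toM (dual j l) = T.G₁⁻¹ * (Matrix.single j l 1 : Matrix α β F) * T.G₂⁻¹ := fun j l => rfl
  have hT₁ : (T.G₁⁻¹)ᵀ = T.G₁⁻¹ := by rw [transpose_nonsing_inv, T.symm₁]
  have hT₂ : (T.G₂⁻¹)ᵀ = T.G₂⁻¹ := by rw [transpose_nonsing_inv, T.symm₂]
  have hpair : ∀ j l, x ⬝ᵥ T.G *ᵥ dual j l = x (j, l) := by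
    intro j l
    have h1 : T.G *ᵥ dual j l = fun x => (Matrix.single j l (1 : F)) x.1 x.2 := by
      funext ⟨m, n⟩
      have := congrFun (congrFun (toM_kron T.G₁ T.G₂ (dual j l)) m) n
      rw [toM_apply, hd, T.symm₂, ← Matrix.mul_assoc, ← Matrix.mul_assoc, T.mul_inv₁, Matrix.one_mul,
        Matrix.mul_assoc, T.inv_mul₂, Matrix.mul_one] at this
      exact this
    rw [h1, dotProduct, Fintype.sum_eq_single (j, l)]
    · simp
    · rintro ⟨m, n⟩ hmn
      rw [Matrix.single_apply, if_neg (fun h => hmn (by rw [h.1, h.2])), mul_zero]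
  have h := hx (dual i' k) (dual i k')
  rw [hpair, hpair] at h
  simp only [mu, quartic, Matrix.cons_val_zero, Matrix.cons_val_one, Matrix.cons_val, hd, transpose_mul, hT₁, hT₂,
    Matrix.transpose_single] at h
  rw [show toM x * T.G₂ * (T.G₂⁻¹ * ((Matrix.single k i' 1 : Matrix β α F) * T.G₁⁻¹)) * T.G₁ = toM x * (Matrix.single k i' 1 : Matrix β α F) by
      rw [← Matrix.mul_assoc, Matrix.mul_assoc (toM x), T.mul_inv₂, Matrix.mul_one, Matrix.mul_assoc _ _ T.G₁,
        Matrix.mul_assoc (Matrix.single k i' (1 : F)), T.inv_mul₁, Matrix.mul_one],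
    show toM x * T.G₂ * (T.G₂⁻¹ * ((Matrix.single k' i 1 : Matrix β α F) * T.G₁⁻¹)) * T.G₁ = toM x * (Matrix.single k' i 1 : Matrix β α F) by
      rw [← Matrix.mul_assoc, Matrix.mul_assoc (toM x), T.mul_inv₂, Matrix.mul_one, Matrix.mul_assoc _ _ T.G₁,
        Matrix.mul_assoc (Matrix.single k' i (1 : F)), T.inv_mul₁, Matrix.mul_one]] at h
  simp only [Matrix.trace, Matrix.diag, Matrix.mul_apply, Matrix.single_apply, toM_apply, ite_and, mul_ite, mul_one,
    mul_zero, Finset.sum_ite_eq, Finset.sum_ite_eq', Finset.mem_univ, if_true, Finset.sum_const_zero,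
    Finset.sum_ite_irrel, ite_mul, zero_mul] at h
  linear_combination h

end TForm

section Degree

variable {σ : Type} [Fintype σ] [DecidableEq σ]

open MvPolynomial (totalDegree)

theorem deg_mul_mat {l m n : Type} [Fintype m] {A : Matrix l m (MvPolynomial σ F)} {B : Matrix m n (MvPolynomial σ F)}
    {d d' : ℕ} (hA : ∀ i j, totalDegree (A i j) ≤ d) (hB : ∀ i j, totalDegree (B i j) ≤ d') (i : l) (j : n) :
    totalDegree ((A * B) i j) ≤ d + d' := by
  rw [Matrix.mul_apply]
  exact MvPolynomial.totalDegree_finsetSum_le fun k _ =>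
    (MvPolynomial.totalDegree_mul _ _).trans (Nat.add_le_add (hA i k) (hB k j))

theorem quartic_deg {A : Matrix α α F} {B : Matrix β β F} {y : Fin 4 → α × β → MvPolynomial σ F} {d : Fin 4 → ℕ}
    (hy : ∀ j x, totalDegree (y j x) ≤ d j) :
    totalDegree (quartic (A.map MvPolynomial.C) (B.map MvPolynomial.C) y) ≤ ∑ j, d j := by
  have hA : ∀ i j, totalDegree ((A.map MvPolynomial.C : Matrix α α (MvPolynomial σ F)) i j) ≤ 0 := fun i j => by simp
  have hB : ∀ i j, totalDegree ((B.map MvPolynomial.C : Matrix β β (MvPolynomial σ F)) i j) ≤ 0 := fun i j => by simp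
  have h : ∀ p q : Fin 4, ∀ i j : α, totalDegree
      (((toM (y p) : Matrix α β (MvPolynomial σ F)) * (B.map MvPolynomial.C : Matrix β β (MvPolynomial σ F)) *
        (toM (y q) : Matrix α β (MvPolynomial σ F))ᵀ * (A.map MvPolynomial.C : Matrix α α (MvPolynomial σ F)) :
          Matrix α α (MvPolynomial σ F)) i j) ≤ d p + d q := fun p q =>
    deg_mul_mat (d := d p + d q) (d' := 0) (deg_mul_mat (d := d p) (d' := d q)
      (deg_mul_mat (d := d p) (d' := 0) (fun i k => hy p (i, k)) hB) (fun k i => hy q (i, k))) hA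
  rw [quartic, Matrix.trace, Fin.sum_univ_four, add_assoc (d 0 + d 1)]
  exact MvPolynomial.totalDegree_finsetSum_le fun i _ => deg_mul_mat (h 0 1) (h 2 3) i i

theorem sum_quartic [Fintype F] {A : Matrix α α F} {B : Matrix β β F}
    {y : Fin 4 → α × β → MvPolynomial σ F} {d : Fin 4 → ℕ} (hy : ∀ j x, totalDegree (y j x) ≤ d j)
    (hd : ∑ j, d j < (Fintype.card F - 1) * Fintype.card σ) :
    ∑ t : σ → F, quartic A B (fun j x => MvPolynomial.eval t (y j x)) = 0 := by
  have h0 := MvPolynomial.sum_eval_eq_zero (quartic (A.map MvPolynomial.C) (B.map MvPolynomial.C) y)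
    (lt_of_le_of_lt (quartic_deg hy) hd)
  refine Eq.trans (Finset.sum_congr rfl fun t _ => ?_) h0
  rw [quartic_map]
  congr 1 <;> · ext; simp

end Degree

end Cfsg.Lib.Classical.TensorOrth
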