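import Cfsg.Agent.Classical.TensorOrth.Roots
import Cfsg.Agent.Classical.TensorOrth.Quartic

/-!
# The quartic invariant is fixed by a group in which root elements act freely on the non-trivial cosets

If `X` contains the Kronecker stabiliser `H` and the root group `R = {1 ⊗ sie e z : z ⊥ e, f}` fixes no coset
of `H` other than `H` itself, then the sum of `μ` over the cosets is `μ` plus sums over free `R`-orbits.  Each
of these is the sum over `F ^ k` of a polynomial of degree at most `4 < (q - 1) k`, so it vanishes.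
-/

set_option autoImplicit false
set_option linter.unusedSectionVars false
set_option linter.unusedSimpArgs false
set_option linter.style.haveILetI false

namespace Cfsg.Lib.Classical.TensorOrth

open Matrix
open scoped Kronecker MatrixGroups
open Cfsg.Lib.Classical.TensorMax (pure IsKron isKron_of_mat)

universe u

/-- A sum over an invariant set with free action vanishes if the orbit sums do. -/
theorem sum_zero_of_free {R Ω A : Type*} [Group R] [Fintype R] [MulAction R Ω] [AddCommMonoid A] (Φ : Ω → A)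
    (s : Finset Ω) (hinv : ∀ r : R, ∀ c ∈ s, r • c ∈ s) (hfree : ∀ r : R, ∀ c ∈ s, r • c = c → r = 1)
    (horb : ∀ c ∈ s, ∑ r : R, Φ (r • c) = 0) : ∑ c ∈ s, Φ c = 0 := by
  classical
  induction s using Finset.strongInduction with
  | _ s ih =>
    rcases s.eq_empty_or_nonempty with rfl | ⟨c, hc⟩
    · simp
    set O := Finset.univ.image (fun r : R => r • c) with hO
    have hOs : O ⊆ s := fun x hx => by
      obtain ⟨r, -, rfl⟩ := Finset.mem_image.mp hx
      exact hinv r c hc
    have hsum : ∑ x ∈ O, Φ x = 0 := by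
      rw [hO, Finset.sum_image]
      · exact horb c hc
      · intro r _ r' _ hrr
        have := hfree (r'⁻¹ * r) c hc (by rw [mul_smul, show r • c = r' • c from hrr, inv_smul_smul])
        exact (inv_mul_eq_one.mp this).symm
    rw [← Finset.sum_sdiff hOs, hsum, add_zero]
    have hcO : c ∈ O := Finset.mem_image.mpr ⟨1, Finset.mem_univ _, one_smul _ _⟩
    refine ih _ (Finset.sdiff_ssubset hOs ⟨c, hcO⟩) ?_ (fun r x hx => hfree r x (Finset.mem_sdiff.mp hx).1)
      (fun x hx => horb x (Finset.mem_sdiff.mp hx).1)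
    intro r x hx
    obtain ⟨hxs, hxO⟩ := Finset.mem_sdiff.mp hx
    refine Finset.mem_sdiff.mpr ⟨hinv r x hxs, fun h => hxO ?_⟩
    obtain ⟨r', -, hr'⟩ := Finset.mem_image.mp h
    refine Finset.mem_image.mpr ⟨r⁻¹ * r', Finset.mem_univ _, ?_⟩
    rw [mul_smul, show r' • c = r • x from hr', inv_smul_smul]

/-- A function additive in each of four slots vanishes if it vanishes on a generating set. -/
theorem multi_zero {V A : Type*} [AddCommMonoid V] [AddCommGroup A] (Φ : (Fin 4 → V) → A)
    (hadd : ∀ j y u v, Φ (Function.update y j (u + v)) = Φ (Function.update y j u) + Φ (Function.update y j v))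
    (S : Set V) (hS : AddSubmonoid.closure S = ⊤) (h0 : ∀ y, (∀ j, y j ∈ S) → Φ y = 0) (y : Fin 4 → V) :
    Φ y = 0 := by
  classical
  suffices h : ∀ s : Finset (Fin 4), ∀ y, (∀ j ∉ s, y j ∈ S) → Φ y = 0 from
    h Finset.univ y fun j hj => absurd (Finset.mem_univ j) hj
  intro s
  induction s using Finset.induction_on with
  | empty => exact fun y hy => h0 y fun j => hy j (Finset.notMem_empty j)
  | insert a s _ ih =>
    intro y hy
    have hz : Φ (Function.update y a 0) = 0 := by
      have := hadd a y 0 0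
      rw [add_zero] at this
      exact left_eq_add.mp this
    have key : ∀ v ∈ AddSubmonoid.closure S, Φ (Function.update y a v) = 0 := by
      intro v hv
      induction hv using AddSubmonoid.closure_induction with
      | mem v hv =>
        refine ih _ fun j hj => ?_
        by_cases hja : j = a
        · subst hja; rw [Function.update_self]; exact hv
        · rw [Function.update_of_ne hja]; exact hy j (by simp [hja, hj])
      | zero => exact hz
      | add u v _ _ hu hv => rw [hadd, hu, hv, add_zero]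
    have := key (y a) (by rw [hS]; exact AddSubmonoid.mem_top _)
    rwa [Function.update_eq_self] at this

variable {α β : Type} [Fintype α] [DecidableEq α] [Fintype β] [DecidableEq β] {F : Type u} [Field F]

section Poly

open MvPolynomial (totalDegree)

variable {k : ℕ}

/-- The coordinates of `1 ⊗ sie e (∑ tᵢ uᵢ)` applied to `v ⊗ w`, as polynomials in `t`. -/
noncomputable def siePoly (T : TForm α β F) (u : Fin k → β → F) (e : β → F) (v : α → F) (w : β → F) (x : α × β) :
    MvPolynomial (Fin k) F :=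
  MvPolynomial.C (v x.1) *
    (MvPolynomial.C (w x.2) + (∑ i, MvPolynomial.X i * MvPolynomial.C (T.B₂ (u i) w)) * MvPolynomial.C (e x.2)
      - MvPolynomial.C (T.B₂ e w) * (∑ i, MvPolynomial.X i * MvPolynomial.C (u i x.2))
      - MvPolynomial.C (T.B₂ e w / 2) *
          ((∑ i, ∑ l, MvPolynomial.X i * MvPolynomial.X l * MvPolynomial.C (T.B₂ (u i) (u l))) *
            MvPolynomial.C (e x.2)))

theorem siePoly_eval (T : TForm α β F) (u : Fin k → β → F) (e : β → F) (v : α → F) (w : β → F) (x : α × β)
    (t : Fin k → F) :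
    MvPolynomial.eval t (siePoly T u e v w x) =
      (((1 : Matrix α α F) ⊗ₖ sie T.G₂ e (∑ i, t i • u i)) *ᵥ pure v w) x := by
  have h1 : (∑ i, t i • u i) ⬝ᵥ T.G₂ *ᵥ w = ∑ i, t i * T.B₂ (u i) w := by
    simp [sum_dotProduct, TForm.B₂]
  have h2 : (∑ i, t i • u i) ⬝ᵥ T.G₂ *ᵥ (∑ i, t i • u i) = ∑ i, ∑ l, t i * t l * T.B₂ (u i) (u l) := by
    simp [sum_dotProduct, mulVec_sum, dotProduct_sum, mulVec_smul, TForm.B₂, Finset.mul_sum, mul_assoc]
    exact Finset.sum_congr rfl fun i _ => Finset.sum_congr rfl fun l _ => by rw [bf_comm T.symm₂]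
  obtain ⟨a, b⟩ := x
  rw [TensorMax.kron_mulVec_pure, one_mulVec, TensorMax.pure_apply, sie_mulVec _ T.symm₂, h1, h2]
  simp only [siePoly, map_mul, map_add, map_sub, map_sum, MvPolynomial.eval_C, MvPolynomial.eval_X, Pi.add_apply,
    Pi.sub_apply, Pi.smul_apply, smul_eq_mul, Finset.sum_apply, show e ⬝ᵥ T.G₂ *ᵥ w = T.B₂ e w from rfl]
  ring

theorem deg_C_mul (c : F) {p : MvPolynomial (Fin k) F} {d : ℕ} (hp : totalDegree p ≤ d) :
    totalDegree (MvPolynomial.C c * p) ≤ d :=
  (MvPolynomial.totalDegree_mul _ _).trans (by rw [MvPolynomial.totalDegree_C, zero_add]; exact hp)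

theorem deg_mul_C (c : F) {p : MvPolynomial (Fin k) F} {d : ℕ} (hp : totalDegree p ≤ d) :
    totalDegree (p * MvPolynomial.C c) ≤ d := by rw [mul_comm]; exact deg_C_mul c hp

theorem deg_sum_X (c : Fin k → F) : totalDegree (∑ i, MvPolynomial.X i * MvPolynomial.C (c i)) ≤ 1 :=
  MvPolynomial.totalDegree_finsetSum_le fun i _ => deg_mul_C _ (by rw [MvPolynomial.totalDegree_X])

theorem siePoly_deg (T : TForm α β F) {u : Fin k → β → F} {e : β → F} (v : α → F) {w : β → F} (x : α × β)
    (he : T.B₂ e e = 0) (hu : ∀ i, T.B₂ e (u i) = 0) {d : ℕ}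
    (hd : (w = e ∧ d = 0) ∨ (T.B₂ e w = 0 ∧ d = 1) ∨ d = 2) :
    totalDegree (siePoly T u e v w x) ≤ d := by
  refine deg_C_mul _ ?_
  rcases hd with ⟨rfl, rfl⟩ | ⟨hw, rfl⟩ | rfl
  · have : ∀ i, T.B₂ (u i) w = 0 := fun i => by rw [T.B₂_comm]; exact hu i
    simp [he, this]
  · rw [hw, zero_div, map_zero, zero_mul, zero_mul, sub_zero, sub_zero]
    refine (MvPolynomial.totalDegree_add _ _).trans (max_le ?_ (deg_mul_C _ (deg_sum_X _)))
    rw [MvPolynomial.totalDegree_C]; exact zero_le_one
  · refine (MvPolynomial.totalDegree_sub _ _).trans (max_le ((MvPolynomial.totalDegree_sub _ _).trans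
      (max_le ((MvPolynomial.totalDegree_add _ _).trans (max_le ?_ ?_)) ?_)) ?_)
    · rw [MvPolynomial.totalDegree_C]; exact Nat.zero_le _
    · exact (deg_mul_C _ (deg_sum_X _)).trans (by norm_num)
    · exact (deg_C_mul _ (deg_sum_X _)).trans (by norm_num)
    · refine deg_C_mul _ (deg_mul_C _ (MvPolynomial.totalDegree_finsetSum_le fun i _ =>
        MvPolynomial.totalDegree_finsetSum_le fun l _ => deg_mul_C _ ?_))
      exact (MvPolynomial.totalDegree_mul _ _).trans (by rw [MvPolynomial.totalDegree_X, MvPolynomial.totalDegree_X])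

/-- The sum over the root group of the quartic at pure tensors. -/
theorem orbit_sum_zero [Fintype F] (T : TForm α β F) {u : Fin k → β → F} {e : β → F} (he : T.B₂ e e = 0)
    (hu : ∀ i, T.B₂ e (u i) = 0) (M : Matrix (α × β) (α × β) F) (v : Fin 4 → α → F) (w : Fin 4 → β → F)
    (d : Fin 4 → ℕ) (hd : ∀ j, (w j = e ∧ d j = 0) ∨ (T.B₂ e (w j) = 0 ∧ d j = 1) ∨ d j = 2)
    (hsum : ∑ j, d j < (Fintype.card F - 1) * k) :
    ∑ t : Fin k → F,
      T.mu (fun j => M *ᵥ (((1 : Matrix α α F) ⊗ₖ sie T.G₂ e (∑ i, t i • u i)) *ᵥ pure (v j) (w j))) = 0 := by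
  have h0 := sum_quartic (σ := Fin k) (A := T.G₁) (B := T.G₂)
    (y := fun j x => ∑ x', MvPolynomial.C (M x x') * siePoly T u e (v j) (w j) x') (d := d)
    (fun j x => MvPolynomial.totalDegree_finsetSum_le fun x' _ => deg_C_mul _ (siePoly_deg T _ _ he hu (hd j)))
    (by rw [Fintype.card_fin]; exact hsum)
  refine Eq.trans (Finset.sum_congr rfl fun t _ => ?_) h0
  rw [TForm.mu]
  congr 1
  funext j x
  simp only [map_sum, map_mul, MvPolynomial.eval_C, siePoly_eval]
  rfl

end Poly

namespace TForm

variable {T : TForm α β F} [Fintype F] {X : Subgroup (GL (α × β) F)}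

/-- The quartic is invariant under a group in which stabilisers of the `U ⊗ e` are Kronecker products. -/
theorem mu_invariant (h : T.Over X) (hK : T.StabKron X) (hlt : Fintype.card α < Fintype.card β) {g : GL (α × β) F}
    (hg : g ∈ X) (y : Fin 4 → α × β → F) :
    T.mu (fun j => (g : Matrix (α × β) (α × β) F) *ᵥ y j) = T.mu y := by
  classical
  haveI : Nonempty α := Fintype.card_pos_iff.mp (by have := h.card₁; omega)
  haveI : Nonempty β := Fintype.card_pos_iff.mp (by have := h.card₂; omega)
  let H : Subgroup X :=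
    { carrier := {a | IsKron (a : GL (α × β) F)}
      one_mem' := isKron_of_mat _ 1 1 (by rw [one_kronecker_one]; rfl)
      mul_mem' := fun ha hb => IsKron.mul ha hb
      inv_mem' := fun {a} ha => by
        obtain ⟨A, B, hAB⟩ := ha
        exact isKron_of_mat _ (T.adjU A) (T.G₂⁻¹ * (B : Matrix β β F)ᵀ * T.G₂)
          (by rw [show ((a⁻¹ : X) : GL (α × β) F) = (a : GL (α × β) F)⁻¹ from rfl, T.inv_val (h.isIso a.2), hAB,
            adjV_kron]) }
  letI : Fintype (X ⧸ H) := Fintype.ofFinite _
  have hmu : ∀ a : X, a ∈ H → ∀ y : Fin 4 → α × β → F,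
      T.mu (fun j => ((a : GL (α × β) F) : Matrix (α × β) (α × β) F) *ᵥ y j) = T.mu y := by
    rintro a ⟨A, B, hAB⟩ y
    exact T.mu_kron (h.isIso a.2) hAB y
  let act : X → (Fin 4 → α × β → F) → Fin 4 → α × β → F := fun a y j =>
    ((a : GL (α × β) F) : Matrix (α × β) (α × β) F) *ᵥ y j
  have hact : ∀ a b : X, ∀ y, act (a * b) y = act a (act b y) := fun a b y => funext fun j => by
    simp only [act, Subgroup.coe_mul, Units.val_mul, mulVec_mulVec]
  let Φ : (Fin 4 → α × β → F) → X ⧸ H → F := fun y c => T.mu (act (Quotient.out c)⁻¹ y)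
  have hΦ : ∀ y (a : X), Φ y (a : X ⧸ H) = T.mu (act a⁻¹ y) := by
    intro y a
    obtain ⟨k, hk⟩ := QuotientGroup.mk_out_eq_mul H a
    show T.mu (act (Quotient.out (a : X ⧸ H))⁻¹ y) = _
    rw [hk, _root_.mul_inv_rev, hact]
    exact hmu _ (H.inv_mem k.2) _
  have hD : ∀ (x : X) y, ∑ c, Φ (act x y) c = ∑ c, Φ y c := by
    intro x y
    refine Fintype.sum_equiv (MulAction.toPerm (x⁻¹ : X)) _ _ fun c => ?_
    induction c using QuotientGroup.induction_on with
    | H a =>
      show _ = Φ y ((x⁻¹ * a : X) : X ⧸ H)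
      rw [hΦ, hΦ, _root_.mul_inv_rev, inv_inv, hact]
  let c₀ : X ⧸ H := ((1 : X) : X ⧸ H)
  have hq : 3 ≤ Fintype.card F := by
    have h1 : 1 < Fintype.card F := Fintype.one_lt_card
    by_contra hh
    refine h.two ?_
    have h2 := FiniteField.cast_card_eq_zero F
    rw [show Fintype.card F = 2 by omega] at h2
    exact_mod_cast h2
  -- the sum over the other cosets vanishes
  have hZ : ∀ y, ∑ c ∈ Finset.univ.erase c₀, Φ y c = 0 := by
    obtain ⟨e, f, hee, hff, hef⟩ := exists_pair T.symm₂ T.det₂ h.two (by have := h.card₂; omega)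
    have hp : T.Pair₂ e f := ⟨hee, hff, hef⟩
    refine multi_zero (fun y => ∑ c ∈ Finset.univ.erase c₀, Φ y c) ?_
      {x | ∃ (v : α → F) (w : β → F), x = pure v w ∧ (w = e ∨ w = f ∨ (T.B₂ e w = 0 ∧ T.B₂ f w = 0))} ?_ ?_
    · intro j y a b
      rw [← Finset.sum_add_distrib]
      refine Finset.sum_congr rfl fun c _ => ?_
      have : ∀ a : α × β → F, act (Quotient.out c)⁻¹ (Function.update y j a) = Function.update (act (Quotient.out c)⁻¹ y)
          j ((((Quotient.out c)⁻¹ : X) : GL (α × β) F).1 *ᵥ a) := fun a => by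
        funext i
        exact Function.apply_update (fun _ z => (((Quotient.out c)⁻¹ : X) : GL (α × β) F).1 *ᵥ z) y j a i
      simp only [Φ, this, mulVec_add, mu, quartic_add]
    · refine eq_top_iff.mpr fun x _ => ?_
      rw [← one_mulVec x, hp.res]
      simp only [add_mulVec, sum_mulVec, ← mulVec_mulVec, inc_mulVec]
      exact add_mem (add_mem (AddSubmonoid.subset_closure ⟨_, e, rfl, Or.inl rfl⟩)
        (AddSubmonoid.subset_closure ⟨_, f, rfl, Or.inr (Or.inl rfl)⟩))
        (sum_mem fun i _ => AddSubmonoid.subset_closure ⟨_, _, rfl, Or.inr (Or.inr ⟨hp.us_left i, hp.us_right i⟩)⟩)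
    intro y hy
    choose v w hvw hw using hy
    have key : ∀ (e f : β → F), T.Pair₂ e f → ∀ d : Fin 4 → ℕ,
        (∀ j, (w j = e ∧ d j = 0) ∨ (T.B₂ e (w j) = 0 ∧ d j = 1) ∨ d j = 2) → ∑ j, d j ≤ 4 →
        ∑ c ∈ Finset.univ.erase c₀, Φ y c = 0 := by
      intro e f hp d hd hsum
      let L : (β → F) →ₗ[F] Fin 2 → F :=
        { toFun := fun z => ![T.B₂ e z, T.B₂ f z]
          map_add' := fun a b => by simp [T.B₂_add_right]
          map_smul' := fun c a => by simp [T.B₂_smul_right] }
      set K := LinearMap.ker L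
      have hk3 : 4 < (Fintype.card F - 1) * Module.finrank F K := by
        have h1 := L.finrank_range_add_finrank_ker
        have h2 := Submodule.finrank_le (LinearMap.range L)
        rw [Module.finrank_pi, Fintype.card_fin] at h2
        rw [Module.finrank_pi] at h1
        show 4 < (Fintype.card F - 1) * Module.finrank F (LinearMap.ker L)
        rcases h.small₂ with h5 | ⟨h5, -⟩
        · exact lt_of_lt_of_le (by norm_num : 4 < 2 * 3) (Nat.mul_le_mul (by omega) (by omega))
        · have := h.card₁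
          exact lt_of_lt_of_le (by norm_num : 4 < 4 * 2) (Nat.mul_le_mul (by omega) (by omega))
      set k := Module.finrank F K
      let bK := Module.finBasis F K
      let u : Fin k → β → F := fun i => (bK i : β → F)
      have hu : ∀ i, T.B₂ e (u i) = 0 ∧ T.B₂ f (u i) = 0 := fun i => by
        have := LinearMap.mem_ker.mp (bK i).2
        exact ⟨congrFun this 0, congrFun this 1⟩
      let z : (Fin k → F) → β → F := fun t => ∑ i, t i • u i
      have hz : ∀ t, T.B₂ e (z t) = 0 ∧ T.B₂ f (z t) = 0 := fun t => by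
        constructor <;> simp [z, B₂, mulVec_sum, dotProduct_sum, mulVec_smul] <;>
          refine Finset.sum_eq_zero fun i _ => ?_
        · rw [← B₂, (hu i).1, mul_zero]
        · rw [← B₂, (hu i).2, mul_zero]
      have hz0 : ∀ t, z t = 0 → t = 0 := fun t ht => funext fun i => by
        have hli : LinearIndependent F u := bK.linearIndependent.map' K.subtype K.ker_subtype
        exact Fintype.linearIndependent_iff.mp hli t ht i
      choose r hrX hr using fun t => h.sie₂_mem hp.ee (hz t).1
      let φ : Multiplicative (Fin k → F) →* X := MonoidHom.mk' (fun t => ⟨r t.toAdd, hrX _⟩) fun s t => by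
        refine Subtype.ext (Units.ext ?_)
        show ((r (s * t).toAdd : GL (α × β) F) : Matrix (α × β) (α × β) F) =
          (r s.toAdd : Matrix (α × β) (α × β) F) * (r t.toAdd : Matrix (α × β) (α × β) F)
        rw [hr, hr, hr, ← mul_kronecker_mul, Matrix.one_mul, sie_mul T.symm₂ h.two hp.ee (hz _).1 (hz _).1,
          toAdd_mul]
        simp only [z, Pi.add_apply, add_smul, Finset.sum_add_distrib]
      have hφH : ∀ t, φ t ∈ H := fun t => isKron_of_mat _ _ _ (hr t.toAdd)
      letI : MulAction (Multiplicative (Fin k → F)) (X ⧸ H) := MulAction.compHom _ φ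
      have hsmul : ∀ (t : Multiplicative (Fin k → F)) (a : X), t • (a : X ⧸ H) = ((φ t * a : X) : X ⧸ H) :=
        fun t a => rfl
      refine sum_zero_of_free (R := Multiplicative (Fin k → F)) (Φ y) _ ?_ ?_ ?_
      · intro t c hc
        refine Finset.mem_erase.mpr ⟨fun h0 => (Finset.mem_erase.mp hc).1 ?_, Finset.mem_univ _⟩
        rw [eq_inv_smul_iff.mpr h0, hsmul, QuotientGroup.eq, mul_one]
        exact H.inv_mem (H.mul_mem (hφH _) H.one_mem)
      · intro t c hc hfix
        induction c using QuotientGroup.induction_on with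
        | H a =>
          by_contra ht
          refine (Finset.mem_erase.mp hc).1 (QuotientGroup.eq.mpr ?_)
          rw [hsmul, QuotientGroup.eq, _root_.mul_inv_rev] at hfix
          have hk : IsKron (((a⁻¹ * (φ t)⁻¹ * a : X)) : GL (α × β) F) := hfix
          have h1 : IsKron ((a : GL (α × β) F)⁻¹ * r t.toAdd * ((a : GL (α × β) F)⁻¹)⁻¹) := by
            have h3 : IsKron (((a⁻¹ * (φ t)⁻¹ * a : X)⁻¹ : X) : GL (α × β) F) := H.inv_mem hk
            simpa [φ, mul_assoc] using h3
          have h2 : IsKron (a : GL (α × β) F)⁻¹ := kron_of_root_conj h hK hlt hp (hz _).1 (hz _).2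
            (fun h0 => ht (Multiplicative.toAdd.injective (by rw [hz0 _ h0, toAdd_one]))) (hrX _) (hr _)
            (inv_mem a.2) h1
          rw [mul_one]
          exact h2
      · intro c _
        induction c using QuotientGroup.induction_on with
        | H a =>
          refine Eq.trans ?_ (orbit_sum_zero T (u := u) hp.ee (fun i => (hu i).1)
            (((a⁻¹ : X) : GL (α × β) F) : Matrix (α × β) (α × β) F) v w d hd
            (lt_of_le_of_lt hsum hk3))
          refine Fintype.sum_equiv (Multiplicative.toAdd.trans (Equiv.neg _)) _ _ fun t => ?_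
          rw [hsmul, hΦ, _root_.mul_inv_rev, hact, ← map_inv]
          congr 1
          funext j
          show _ *ᵥ ((r (t⁻¹).toAdd : Matrix (α × β) (α × β) F) *ᵥ y j) = _
          rw [hvw j, hr]
          rfl
    let d : Fin 4 → ℕ := fun j => if w j = e then 0 else if w j = f then 2 else 1
    let d' : Fin 4 → ℕ := fun j => 2 - d j
    have hd : ∀ j, (w j = e ∧ d j = 0) ∨ (T.B₂ e (w j) = 0 ∧ d j = 1) ∨ d j = 2 := by
      intro j
      by_cases h1 : w j = e
      · exact Or.inl ⟨h1, if_pos h1⟩
      by_cases h2 : w j = f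
      · exact Or.inr (Or.inr ((if_neg h1).trans (if_pos h2)))
      exact Or.inr (Or.inl ⟨((hw j).resolve_left h1).resolve_left h2 |>.1, (if_neg h1).trans (if_neg h2)⟩)
    have hd' : ∀ j, (w j = f ∧ d' j = 0) ∨ (T.B₂ f (w j) = 0 ∧ d' j = 1) ∨ d' j = 2 := by
      intro j
      by_cases h1 : w j = e
      · exact Or.inr (Or.inr (by simp [d', d, h1]))
      by_cases h2 : w j = f
      · exact Or.inl ⟨h2, show 2 - d j = 0 by rw [show d j = 2 from (if_neg h1).trans (if_pos h2)]⟩
      exact Or.inr (Or.inl ⟨((hw j).resolve_left h1).resolve_left h2 |>.2,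
        show 2 - d j = 1 by rw [show d j = 1 from (if_neg h1).trans (if_neg h2)]⟩)
    by_cases hsum : ∑ j, d j ≤ 4
    · exact key e f hp d hd hsum
    · refine key f e hp.symm d' hd' ?_
      have h8 : ∑ j, d j + ∑ j, d' j = 8 := by
        rw [← Finset.sum_add_distrib, Finset.sum_congr rfl fun j _ => show d j + d' j = 2 by
          simp only [d', d]; split_ifs <;> rfl]
        simp
      omega
  have hDy : ∀ y, ∑ c, Φ y c = T.mu y := by
    intro y
    rw [← Finset.add_sum_erase _ _ (Finset.mem_univ c₀), hZ, add_zero, hΦ, inv_one]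
    exact congrArg T.mu (funext fun j => by simp [act])
  rw [← hDy y, ← hD ⟨g, hg⟩ y, hDy]

end TForm

end Cfsg.Lib.Classical.TensorOrth
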