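import Cfsg.Agent.Classical.TensorOrth.Group
import Cfsg.Agent.Classical.Orth.OmegaGen

/-!
# Elementary geometry of one factor, and common fixed points of commuting nilpotent maps
-/

set_option autoImplicit false
set_option linter.unusedSectionVars false
set_option linter.unusedSimpArgs false

namespace Cfsg.Lib.Classical.TensorOrth

open Matrix
open scoped Kronecker MatrixGroups

universe u

section Form

variable {γ : Type} [Fintype γ] [DecidableEq γ] {F : Type u} [Field F] {G : Matrix γ γ F}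

theorem bf_comm (hG : Gᵀ = G) (a b : γ → F) : a ⬝ᵥ G *ᵥ b = b ⬝ᵥ G *ᵥ a := by
  rw [dotProduct_mulVec, ← mulVec_transpose, hG, dotProduct_comm]

theorem bf_eq_zero (hd : G.det ≠ 0) {w : γ → F} (h : ∀ z, z ⬝ᵥ G *ᵥ w = 0) : w = 0 :=
  Matrix.eq_zero_of_mulVec_eq_zero hd (dotProduct_eq_zero _ fun z => by rw [dotProduct_comm]; exact h z)

/-- An anisotropic vector orthogonal to fewer than `card γ` vectors spanning a non-degenerate space. -/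
theorem exists_aniso (hG : Gᵀ = G) (hd : G.det ≠ 0) (h2 : (2 : F) ≠ 0) {k : ℕ} (v : Fin k → γ → F)
    (hk : k < Fintype.card γ)
    (hc : ∀ z : γ → F, ∃ c : Fin k → F, ∀ j, v j ⬝ᵥ G *ᵥ (z - ∑ i, c i • v i) = 0) :
    ∃ z : γ → F, (∀ j, v j ⬝ᵥ G *ᵥ z = 0) ∧ z ⬝ᵥ G *ᵥ z ≠ 0 := by
  classical
  by_contra hh
  push Not at hh
  have hperp : ∀ a b : γ → F, (∀ j, v j ⬝ᵥ G *ᵥ a = 0) → (∀ j, v j ⬝ᵥ G *ᵥ b = 0) → a ⬝ᵥ G *ᵥ b = 0 := by
    intro a b ha hb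
    have h := hh (a + b) fun j => by rw [mulVec_add, dotProduct_add, ha, hb, add_zero]
    rw [mulVec_add, dotProduct_add, add_dotProduct, add_dotProduct, hh a ha, hh b hb, bf_comm hG b a, zero_add,
      add_zero, ← two_mul] at h
    exact (mul_eq_zero.mp h).resolve_left h2
  have hmem : ∀ z : γ → F, z ∈ Submodule.span F (Set.range v) := by
    intro z
    obtain ⟨c, hcz⟩ := hc z
    have h0 : z - ∑ i, c i • v i = 0 := by
      refine bf_eq_zero hd fun w => ?_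
      obtain ⟨d, hdw⟩ := hc w
      have h1 := hperp _ _ hdw hcz
      rw [sub_dotProduct, sum_dotProduct, sub_eq_zero] at h1
      rw [h1]
      exact Finset.sum_eq_zero fun i _ => by rw [smul_dotProduct, hcz, smul_zero]
    rw [sub_eq_zero.mp h0]
    exact Submodule.sum_mem _ fun i _ => Submodule.smul_mem _ _ (Submodule.subset_span ⟨i, rfl⟩)
  have h1 := (Submodule.finrank_mono (show (⊤ : Submodule F (γ → F)) ≤ Submodule.span F (Set.range v) from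
    fun z _ => hmem z)).trans (finrank_range_le_card v)
  rw [finrank_top, Module.finrank_pi, Fintype.card_fin] at h1
  omega

/-- An anisotropic vector orthogonal to a hyperbolic pair. -/
theorem exists_aniso_pair (hG : Gᵀ = G) (hd : G.det ≠ 0) (h2 : (2 : F) ≠ 0) (h3 : 3 ≤ Fintype.card γ) {e f : γ → F}
    (hee : e ⬝ᵥ G *ᵥ e = 0) (hff : f ⬝ᵥ G *ᵥ f = 0) (hef : e ⬝ᵥ G *ᵥ f = 1) :
    ∃ z : γ → F, e ⬝ᵥ G *ᵥ z = 0 ∧ f ⬝ᵥ G *ᵥ z = 0 ∧ z ⬝ᵥ G *ᵥ z ≠ 0 := by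
  have hfe : f ⬝ᵥ G *ᵥ e = 1 := by rw [bf_comm hG]; exact hef
  obtain ⟨z, hz, hzz⟩ := exists_aniso hG hd h2 ![e, f] (by omega) fun z => ⟨![f ⬝ᵥ G *ᵥ z, e ⬝ᵥ G *ᵥ z],
    Fin.forall_fin_two.mpr ⟨by simp [Fin.sum_univ_two, mulVec_sub, mulVec_add, mulVec_smul, hee, hef],
      by simp [Fin.sum_univ_two, mulVec_sub, mulVec_add, mulVec_smul, hfe, hff]⟩⟩
  exact ⟨z, hz 0, hz 1, hzz⟩

/-- An anisotropic vector orthogonal to a hyperbolic pair and an anisotropic vector orthogonal to it. -/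
theorem exists_aniso_three (hG : Gᵀ = G) (hd : G.det ≠ 0) (h2 : (2 : F) ≠ 0) (h4 : 4 ≤ Fintype.card γ) {e f v : γ → F}
    (hee : e ⬝ᵥ G *ᵥ e = 0) (hff : f ⬝ᵥ G *ᵥ f = 0) (hef : e ⬝ᵥ G *ᵥ f = 1)
    (hev : e ⬝ᵥ G *ᵥ v = 0) (hfv : f ⬝ᵥ G *ᵥ v = 0) (hvv : v ⬝ᵥ G *ᵥ v ≠ 0) :
    ∃ z : γ → F, e ⬝ᵥ G *ᵥ z = 0 ∧ f ⬝ᵥ G *ᵥ z = 0 ∧ v ⬝ᵥ G *ᵥ z = 0 ∧ z ⬝ᵥ G *ᵥ z ≠ 0 := by
  have hfe : f ⬝ᵥ G *ᵥ e = 1 := by rw [bf_comm hG]; exact hef
  have hve : v ⬝ᵥ G *ᵥ e = 0 := by rw [bf_comm hG]; exact hev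
  have hvf : v ⬝ᵥ G *ᵥ f = 0 := by rw [bf_comm hG]; exact hfv
  obtain ⟨z, hz, hzz⟩ := exists_aniso hG hd h2 ![e, f, v] (by omega)
    fun z => ⟨![f ⬝ᵥ G *ᵥ z, e ⬝ᵥ G *ᵥ z, (v ⬝ᵥ G *ᵥ z) / (v ⬝ᵥ G *ᵥ v)], fun j => by
      fin_cases j <;> simp [Fin.sum_univ_three, mulVec_sub, mulVec_add, mulVec_smul, hee, hef, hfe, hff, hev, hfv,
        hve, hvf, hvv]⟩
  exact ⟨z, hz 0, hz 1, hz 2, hzz⟩

/-- An anisotropic vector orthogonal to two orthogonal hyperbolic pairs. -/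
theorem exists_aniso_four (hG : Gᵀ = G) (hd : G.det ≠ 0) (h2 : (2 : F) ≠ 0) (h5 : 5 ≤ Fintype.card γ)
    {e f a b : γ → F} (hee : e ⬝ᵥ G *ᵥ e = 0) (hff : f ⬝ᵥ G *ᵥ f = 0) (hef : e ⬝ᵥ G *ᵥ f = 1)
    (haa : a ⬝ᵥ G *ᵥ a = 0) (hbb : b ⬝ᵥ G *ᵥ b = 0) (hab : a ⬝ᵥ G *ᵥ b = 1)
    (hea : e ⬝ᵥ G *ᵥ a = 0) (heb : e ⬝ᵥ G *ᵥ b = 0) (hfa : f ⬝ᵥ G *ᵥ a = 0) (hfb : f ⬝ᵥ G *ᵥ b = 0) :
    ∃ z : γ → F, e ⬝ᵥ G *ᵥ z = 0 ∧ f ⬝ᵥ G *ᵥ z = 0 ∧ a ⬝ᵥ G *ᵥ z = 0 ∧ b ⬝ᵥ G *ᵥ z = 0 ∧ z ⬝ᵥ G *ᵥ z ≠ 0 := by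
  have hfe : f ⬝ᵥ G *ᵥ e = 1 := by rw [bf_comm hG]; exact hef
  have hba : b ⬝ᵥ G *ᵥ a = 1 := by rw [bf_comm hG]; exact hab
  have hae : a ⬝ᵥ G *ᵥ e = 0 := by rw [bf_comm hG]; exact hea
  have haf : a ⬝ᵥ G *ᵥ f = 0 := by rw [bf_comm hG]; exact hfa
  have hbe : b ⬝ᵥ G *ᵥ e = 0 := by rw [bf_comm hG]; exact heb
  have hbf : b ⬝ᵥ G *ᵥ f = 0 := by rw [bf_comm hG]; exact hfb
  obtain ⟨z, hz, hzz⟩ := exists_aniso hG hd h2 ![e, f, a, b] (by omega)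
    fun z => ⟨![f ⬝ᵥ G *ᵥ z, e ⬝ᵥ G *ᵥ z, b ⬝ᵥ G *ᵥ z, a ⬝ᵥ G *ᵥ z], fun j => by
      fin_cases j <;> simp [Fin.sum_univ_four, mulVec_sub, mulVec_add, mulVec_smul, hee, hef, hfe, hff, hea, heb, hfa,
        hfb, haa, hab, hba, hbb, hae, haf, hbe, hbf]⟩
  exact ⟨z, hz 0, hz 1, hz 2, hz 3, hzz⟩

/-- An isotropic vector and its partner, orthogonal to a given subspace of small dimension. -/
theorem exists_pair [Finite F] (hG : Gᵀ = G) (hd : G.det ≠ 0) (h2 : (2 : F) ≠ 0) (h3 : 3 ≤ Fintype.card γ) :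
    ∃ e f : γ → F, e ⬝ᵥ G *ᵥ e = 0 ∧ f ⬝ᵥ G *ᵥ f = 0 ∧ e ⬝ᵥ G *ᵥ f = 1 := by
  obtain ⟨e, -, he0, he⟩ := Refl.exists_singular
    (LinearMap.BilinMap.toQuadraticMap (Matrix.toLinearMap₂' F G : LinearMap.BilinMap F (γ → F) F)) ⊤
    (by rw [finrank_top, Module.finrank_pi]; exact h3)
  rw [LinearMap.BilinMap.toQuadraticMap_apply, Matrix.toLinearMap₂'_apply'] at he
  obtain ⟨z, hz⟩ : ∃ z, z ⬝ᵥ G *ᵥ e ≠ 0 := by
    by_contra hh
    push Not at hh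
    exact he0 (bf_eq_zero hd hh)
  set c := z ⬝ᵥ G *ᵥ e with hc
  refine ⟨e, c⁻¹ • z - (c⁻¹ * c⁻¹ * (z ⬝ᵥ G *ᵥ z) / 2) • e, he, ?_, ?_⟩
  · simp only [mulVec_sub, mulVec_smul, sub_dotProduct, dotProduct_sub, smul_dotProduct, dotProduct_smul, smul_eq_mul,
      bf_comm hG e z, ← hc, he]
    field_simp
    ring
  · simp only [mulVec_sub, mulVec_smul, dotProduct_sub, dotProduct_smul, smul_eq_mul, bf_comm hG e z, ← hc, he,
      mul_zero, sub_zero]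
    exact inv_mul_cancel₀ hz

/-- The partner of an isotropic vector. -/
theorem exists_partner (hG : Gᵀ = G) (hd : G.det ≠ 0) (h2 : (2 : F) ≠ 0) {e : γ → F} (he0 : e ≠ 0)
    (he : e ⬝ᵥ G *ᵥ e = 0) : ∃ f : γ → F, f ⬝ᵥ G *ᵥ f = 0 ∧ e ⬝ᵥ G *ᵥ f = 1 := by
  obtain ⟨z, hz⟩ : ∃ z, z ⬝ᵥ G *ᵥ e ≠ 0 := by
    by_contra hh
    push Not at hh
    exact he0 (bf_eq_zero hd hh)
  set c := z ⬝ᵥ G *ᵥ e with hc
  refine ⟨c⁻¹ • z - (c⁻¹ * c⁻¹ * (z ⬝ᵥ G *ᵥ z) / 2) • e, ?_, ?_⟩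
  · simp only [mulVec_sub, mulVec_smul, sub_dotProduct, dotProduct_sub, smul_dotProduct, dotProduct_smul, smul_eq_mul,
      bf_comm hG e z, ← hc, he]
    field_simp
    ring
  · simp only [mulVec_sub, mulVec_smul, dotProduct_sub, dotProduct_smul, smul_eq_mul, bf_comm hG e z, ← hc, he,
      mul_zero, sub_zero]
    exact inv_mul_cancel₀ hz

/-- A partner inside the orthogonal complement of a pair. -/
theorem exists_partner_perp (hG : Gᵀ = G) (hd : G.det ≠ 0) (h2 : (2 : F) ≠ 0) {e f a : γ → F}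
    (hee : e ⬝ᵥ G *ᵥ e = 0) (hff : f ⬝ᵥ G *ᵥ f = 0) (hef : e ⬝ᵥ G *ᵥ f = 1) (ha0 : a ≠ 0)
    (ha : a ⬝ᵥ G *ᵥ a = 0) (hea : e ⬝ᵥ G *ᵥ a = 0) (hfa : f ⬝ᵥ G *ᵥ a = 0) :
    ∃ b : γ → F, b ⬝ᵥ G *ᵥ b = 0 ∧ a ⬝ᵥ G *ᵥ b = 1 ∧ e ⬝ᵥ G *ᵥ b = 0 ∧ f ⬝ᵥ G *ᵥ b = 0 := by
  obtain ⟨z₁, hz₁⟩ : ∃ z, z ⬝ᵥ G *ᵥ a ≠ 0 := by
    by_contra hh
    push Not at hh
    exact ha0 (bf_eq_zero hd hh)
  have hfe : f ⬝ᵥ G *ᵥ e = 1 := by rw [bf_comm hG]; exact hef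
  obtain ⟨z, hez, hfz, hza⟩ : ∃ z, e ⬝ᵥ G *ᵥ z = 0 ∧ f ⬝ᵥ G *ᵥ z = 0 ∧ z ⬝ᵥ G *ᵥ a ≠ 0 :=
    ⟨z₁ - (f ⬝ᵥ G *ᵥ z₁) • e - (e ⬝ᵥ G *ᵥ z₁) • f, by simp [mulVec_sub, mulVec_smul, hee, hef],
      by simp [mulVec_sub, mulVec_smul, hfe, hff], by simpa [hea, hfa] using hz₁⟩
  set c := z ⬝ᵥ G *ᵥ a with hc
  refine ⟨c⁻¹ • z - (c⁻¹ * c⁻¹ * (z ⬝ᵥ G *ᵥ z) / 2) • a, ?_, ?_, ?_, ?_⟩
  · simp only [mulVec_sub, mulVec_smul, sub_dotProduct, dotProduct_sub, smul_dotProduct, dotProduct_smul, smul_eq_mul,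
      bf_comm hG a z, ← hc, ha]
    field_simp
    ring
  · simp only [mulVec_sub, mulVec_smul, dotProduct_sub, dotProduct_smul, smul_eq_mul, bf_comm hG a z, ← hc, ha,
      mul_zero, sub_zero]
    exact inv_mul_cancel₀ hza
  · simp [mulVec_sub, mulVec_smul, hez, hea]
  · simp [mulVec_sub, mulVec_smul, hfz, hfa]

end Form

/-- Commuting nilpotent maps on a group outside an invariant subgroup have a common fixed point modulo it. -/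
theorem exists_common {M : Type*} [AddCommGroup M] {κ : Type*} (S N : AddSubgroup M) (L : κ → M →+ M)
    (hS : ∀ k, ∀ y ∈ S, L k y ∈ S) (hN : ∀ k, ∀ y ∈ N, L k y ∈ N) (hcomm : ∀ k l y, L k (L l y) = L l (L k y))
    (hnil : ∀ k, ∃ n : ℕ, ∀ y, (L k)^[n] y = 0) (hne : ∃ y ∈ S, y ∉ N) (s : Finset κ) :
    ∃ y ∈ S, y ∉ N ∧ ∀ k ∈ s, L k y ∈ N := by
  classical
  induction s using Finset.induction_on with
  | empty =>
    obtain ⟨y, hy, hyN⟩ := hne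
    exact ⟨y, hy, hyN, by simp⟩
  | insert a s _ ih =>
    obtain ⟨y, hy, hyN, hys⟩ := ih
    have hex : ∃ n, (L a)^[n] y ∈ N := by
      obtain ⟨n, hn⟩ := hnil a
      exact ⟨n, by rw [hn]; exact N.zero_mem⟩
    have hpos : 0 < Nat.find hex := Nat.pos_of_ne_zero fun h => hyN (by
      have := Nat.find_spec hex
      rwa [h] at this)
    obtain ⟨j, hj⟩ := Nat.exists_eq_succ_of_ne_zero hpos.ne'
    have hiter : ∀ i z, z ∈ S → (L a)^[i] z ∈ S := fun i => by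
      induction i with
      | zero => exact fun z hz => hz
      | succ i ih => exact fun z hz => by rw [Function.iterate_succ_apply']; exact hS a _ (ih z hz)
    refine ⟨(L a)^[j] y, hiter j y hy, Nat.find_min hex (by omega), fun k hk => ?_⟩
    rcases Finset.mem_insert.mp hk with rfl | hk
    · have := Nat.find_spec hex
      rw [hj, Function.iterate_succ_apply'] at this
      exact this
    · have hc : ∀ i z, L k ((L a)^[i] z) = (L a)^[i] (L k z) := fun i => by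
        induction i with
        | zero => exact fun z => rfl
        | succ i ih => exact fun z => by rw [Function.iterate_succ_apply', Function.iterate_succ_apply', hcomm, ih]
      rw [hc]
      have hNi : ∀ i z, z ∈ N → (L a)^[i] z ∈ N := fun i => by
        induction i with
        | zero => exact fun z hz => hz
        | succ i ih => exact fun z hz => by rw [Function.iterate_succ_apply']; exact hN a _ (ih z hz)
      exact hNi j _ (hys k hk)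

/-- Conjugation minus the identity by a unipotent element is nilpotent. -/
theorem conj_sub_nil {R : Type*} [Ring R] {s s' : R} (hs : IsNilpotent (s - 1)) (hs' : IsNilpotent (s' - 1)) :
    ∃ n : ℕ, ∀ y : R, (fun z => s * z * s' - z)^[n] y = 0 := by
  set a : Module.End ℤ R := LinearMap.mulLeft ℤ (s - 1) with ha
  set b : Module.End ℤ R := LinearMap.mulRight ℤ (s' - 1) with hb
  have hab : Commute a b := LinearMap.commute_mulLeft_right _ _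
  have hna : IsNilpotent a := (LinearMap.isNilpotent_mulLeft_iff ℤ _).mpr hs
  have hnb : IsNilpotent b := (LinearMap.isNilpotent_mulRight_iff ℤ _).mpr hs'
  obtain ⟨n, hn⟩ : IsNilpotent (a + b + a * b) :=
    Commute.isNilpotent_add (((Commute.refl a).add_left hab.symm).mul_right (hab.add_left (Commute.refl b)))
      (Commute.isNilpotent_add hab hna hnb) (hab.isNilpotent_mul_right hna)
  refine ⟨n, fun y => ?_⟩
  have hf : (fun z => s * z * s' - z) = ⇑(a + b + a * b) := funext fun z => by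
    show _ = (s - 1) * z + z * (s' - 1) + (s - 1) * (z * (s' - 1))
    noncomm_ring
  rw [hf, ← Module.End.pow_apply, hn]
  rfl

end Cfsg.Lib.Classical.TensorOrth
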