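import Cfsg.Agent.Classical.TensorOrth.Comp

/-!
# The stabiliser of `U ⊗ e` when the centre is trivial
-/

set_option autoImplicit false
set_option linter.unusedSectionVars false
set_option linter.unusedSimpArgs false

namespace Cfsg.Lib.Classical.TensorOrth

open Matrix
open scoped Kronecker MatrixGroups
open Cfsg.Lib.Classical.TensorMax (pure IsKron isKron_of_mat)

universe u

variable {α β : Type} [Fintype α] [DecidableEq α] [Fintype β] [DecidableEq β] {F : Type u} [Field F]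

namespace TForm

set_option maxHeartbeats 1000000

variable {T : TForm α β F}

/-- The vector representing a functional on the complement of a pair. -/
theorem exists_dual_vec {e f : β → F} (hp : T.Pair₂ e f) (φ : (β → F) →ₗ[F] F) (he : φ e = 0) :
    ∃ z, T.B₂ e z = 0 ∧ T.B₂ f z = 0 ∧ ∀ w, T.B₂ e w = 0 → T.B₂ z w = φ w := by
  refine ⟨∑ k, φ (T.us e f k) • T.us' e f k, ?_, ?_, fun w hw => ?_⟩
  · simp only [B₂, mulVec_sum, dotProduct_sum, mulVec_smul, dotProduct_smul]
    exact Finset.sum_eq_zero fun k _ => by rw [show e ⬝ᵥ T.G₂ *ᵥ T.us' e f k = 0 from hp.us'_left k, smul_zero]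
  · simp only [B₂, mulVec_sum, dotProduct_sum, mulVec_smul, dotProduct_smul]
    exact Finset.sum_eq_zero fun k _ => by rw [show f ⬝ᵥ T.G₂ *ᵥ T.us' e f k = 0 from hp.us'_right k, smul_zero]
  · have hexp := congrArg φ (hp.expand w)
    rw [map_add, map_add, map_smul, map_smul, map_sum, hw, he, zero_smul, add_zero, smul_zero, zero_add] at hexp
    rw [hexp, B₂, sum_dotProduct]
    refine Finset.sum_congr rfl fun k _ => ?_
    rw [map_smul, smul_dotProduct, smul_eq_mul, smul_eq_mul, mul_comm]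
    rfl

theorem B₁_sim {A : Matrix α α F} {μ : F} (h : T.adjU A * A = μ • 1) : Aᵀ * T.G₁ * A = μ • T.G₁ := by
  have := congrArg (T.G₁ * ·) h
  beta_reduce at this
  rw [adjU, ← Matrix.mul_assoc, ← Matrix.mul_assoc, ← Matrix.mul_assoc, T.mul_inv₁, Matrix.one_mul,
    Matrix.mul_smul, Matrix.mul_one] at this
  exact this

variable [Fintype F] {X : Subgroup (GL (α × β) F)}

/-- Without centre the stabiliser of `U ⊗ e` consists of Kronecker products. -/
theorem kron_of_stab (h : T.Over X) (hU : T.Small₁) (hq : Fintype.card α = 3 → Fintype.card F ≠ 3) {e f : β → F}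
    (hp : T.Pair₂ e f) (hS : SK h e hp.ee = ⊥) {g : GL (α × β) F} (hg : g ∈ X) {A : Matrix α α F}
    (hA : (g : Matrix (α × β) (α × β) F) * inc α e = inc α e * A) : IsKron g := by
  classical
  haveI : Nonempty α := Fintype.card_pos_iff.mp (by have := h.card₁; omega)
  haveI : Nonempty β := Fintype.card_pos_iff.mp (by have := h.card₂; omega)
  set H : Matrix (α × β) (α × β) F := (g : Matrix (α × β) (α × β) F) with hH
  have hi : T.IsIso H := h.isIso hg
  set H' : Matrix (α × β) (α × β) F := ((g⁻¹ : GL (α × β) F) : Matrix (α × β) (α × β) F) with hH'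
  have hi' : T.IsIso H' := h.isIso (inv_mem hg)
  have hH'H : H' * H = 1 := by rw [hH', hH, ← Units.val_mul, inv_mul_cancel, Units.val_one]
  have hadj' : T.adjV H' = H := by rw [hH, ← inv_inv g, T.inv_val hi']
  have hAdet : A.det ≠ 0 := by
    intro hd
    obtain ⟨v, hv0, hv⟩ := Matrix.exists_mulVec_eq_zero_iff.mpr hd
    refine hv0 ?_
    have h1 := congrArg (fun M => M *ᵥ v) hA
    beta_reduce at h1
    rw [← mulVec_mulVec, ← mulVec_mulVec, hv, mulVec_zero, inc_mulVec] at h1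
    have h2 : pure v e = 0 := by
      rw [← one_mulVec (pure v e), ← hH'H, ← mulVec_mulVec, h1, mulVec_zero]
    exact (TensorMax.pure_eq_zero h2).resolve_right hp.ne
  have hAA : A * A⁻¹ = 1 := Matrix.mul_nonsing_inv _ (isUnit_iff_ne_zero.mpr hAdet)
  have hAA' : A⁻¹ * A = 1 := Matrix.nonsing_inv_mul _ (isUnit_iff_ne_zero.mpr hAdet)
  have hA' : H' * inc α e = inc α e * A⁻¹ := by
    calc H' * inc α e = H' * (H * inc α e) * A⁻¹ := by
          rw [hA, Matrix.mul_assoc H', Matrix.mul_assoc (inc α e), hAA, Matrix.mul_one]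
      _ = inc α e * A⁻¹ := by rw [← Matrix.mul_assoc, hH'H, Matrix.one_mul]
  have heH : T.pr e * H = T.adjU A⁻¹ * T.pr e := by
    rw [← hadj', ← T.star_inc e, ← T.star_mul_left, hA', T.star_mul_right]
  -- the middle block is a multiple of `A`
  have hmid : ∀ z w, T.B₂ e z = 0 → T.B₂ e w = 0 → ∃ c : F, T.pr z * H * inc α w = c • A := by
    intro z w hz hw
    obtain ⟨t, ht, et⟩ := h.sie₂_mem hp.ee hz
    have hm : g⁻¹ * t * g ∈ X := mul_mem (mul_mem (inv_mem hg) ht) hg
    have ev : ((g⁻¹ * t * g : GL (α × β) F) : Matrix (α × β) (α × β) F) =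
        H' * ((1 : Matrix α α F) ⊗ₖ sie T.G₂ e z) * T.adjV H' := by
      rw [hadj', Units.val_mul, Units.val_mul, et]
    have hst : T.star (H' * inc α z) = T.pr z * H := by rw [T.star_mul_left, T.star_inc, hadj']
    have key : ∀ v, T.B₂ e v = 0 → ((g⁻¹ * t * g : GL (α × β) F) : Matrix (α × β) (α × β) F) * inc α v =
        inc α v + inc α e * (A⁻¹ * (T.pr z * H * inc α v)) := by
      intro v hv
      rw [ev, T.conj_sie z hi' hA', hst]
      simp only [Matrix.sub_mul, Matrix.add_mul, Matrix.smul_mul, Matrix.one_mul, Matrix.mul_assoc,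
        T.pr_mul_inc, hv, zero_smul, Matrix.mul_zero, smul_zero, sub_zero]
    have hrad : T.IsRad e ((g⁻¹ * t * g : GL (α × β) F) : Matrix (α × β) (α × β) F) := by
      refine ⟨?_, fun v hv => ⟨_, key v hv⟩⟩
      rw [key e hp.ee, Matrix.mul_assoc (T.pr z), hA, ← Matrix.mul_assoc (T.pr z), T.pr_mul_inc,
        show T.B₂ z e = 0 by rw [B₂_comm]; exact hz, zero_smul, Matrix.zero_mul, Matrix.mul_zero, Matrix.mul_zero,
        add_zero]
    obtain ⟨c, hc⟩ := comp_scalar h hU hq hp hS hm hrad w hw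
    refine ⟨c, ?_⟩
    rw [comp, Matrix.mul_assoc, Matrix.sub_mul, Matrix.one_mul, key w hw, add_sub_cancel_left, ← Matrix.mul_assoc,
      T.pr_mul_inc, hp.fe, one_smul, Matrix.one_mul] at hc
    rw [← Matrix.one_mul (T.pr z * H * inc α w), ← hAA, Matrix.mul_assoc A, hc, Matrix.mul_smul, Matrix.mul_one]
  obtain ⟨i₀, j₀, hij⟩ : ∃ i j, A i j ≠ 0 := by
    by_contra hh
    push Not at hh
    exact hAdet (by rw [show A = 0 from Matrix.ext hh, det_zero])
  set cf : (β → F) → (β → F) → F := fun z w => (T.pr z * H * inc α w) i₀ j₀ / A i₀ j₀ with hcf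
  have hcf' : ∀ z w, T.B₂ e z = 0 → T.B₂ e w = 0 → T.pr z * H * inc α w = cf z w • A := by
    intro z w hz hw
    obtain ⟨c, hc⟩ := hmid z w hz hw
    rw [hc, hcf]
    congr 1
    simp only [hc, Matrix.smul_apply, smul_eq_mul, mul_div_assoc, div_self hij, mul_one]
  let D : (β → F) →ₗ[F] (β → F) :=
    { toFun := fun w => ∑ k, cf (T.us' e f k) w • T.us e f k
      map_add' := fun v w => by
        simp only [hcf, inc_add, Matrix.mul_add, Matrix.add_apply, add_div, add_smul, Finset.sum_add_distrib]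
      map_smul' := fun c w => by
        simp only [hcf, inc_smul, Matrix.mul_smul, Matrix.smul_apply, smul_eq_mul, mul_div_assoc, mul_smul,
          Finset.smul_sum, RingHom.id_apply] }
  have heD : ∀ w, T.B₂ e (D w) = 0 := fun w => by
    show T.B₂ e (∑ k, cf (T.us' e f k) w • T.us e f k) = 0
    rw [B₂, mulVec_sum, dotProduct_sum]
    exact Finset.sum_eq_zero fun k _ => by
      rw [mulVec_smul, dotProduct_smul, show e ⬝ᵥ T.G₂ *ᵥ T.us e f k = 0 from hp.us_left k, smul_zero]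
  have hfD : ∀ w, T.B₂ f (D w) = 0 := fun w => by
    show T.B₂ f (∑ k, cf (T.us' e f k) w • T.us e f k) = 0
    rw [B₂, mulVec_sum, dotProduct_sum]
    exact Finset.sum_eq_zero fun k _ => by
      rw [mulVec_smul, dotProduct_smul, show f ⬝ᵥ T.G₂ *ᵥ T.us e f k = 0 from hp.us_right k, smul_zero]
  have hHw : ∀ w, T.B₂ e w = 0 → ∃ Y : Matrix α α F, H * inc α w = inc α e * Y + inc α (D w) * A := by
    intro w hw
    refine ⟨T.pr f * (H * inc α w), ?_⟩
    conv_lhs => rw [← Matrix.one_mul (H * inc α w), hp.res]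
    rw [Matrix.add_mul, Matrix.add_mul, Matrix.sum_mul]
    have h1 : inc α f * T.pr e * (H * inc α w) = 0 := by
      rw [Matrix.mul_assoc, ← Matrix.mul_assoc (T.pr e), heH, Matrix.mul_assoc, T.pr_mul_inc, hw, zero_smul,
        Matrix.mul_zero, Matrix.mul_zero]
    rw [h1, add_zero, Matrix.mul_assoc]
    congr 1
    show _ = inc α (∑ k, cf (T.us' e f k) w • T.us e f k) * A
    rw [inc_sum, Matrix.sum_mul]
    refine Finset.sum_congr rfl fun k _ => ?_
    rw [Matrix.mul_assoc, ← Matrix.mul_assoc (T.pr _), hcf' _ _ (hp.us'_left k) hw, inc_smul, Matrix.smul_mul,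
      Matrix.mul_smul]
  have hrel : ∀ w w', T.B₂ e w = 0 → T.B₂ e w' = 0 →
      T.B₂ (D w) (D w') • (T.adjU A * A) = T.B₂ w w' • (1 : Matrix α α F) := by
    intro w w' hw hw'
    obtain ⟨Y, hY⟩ := hHw w hw
    obtain ⟨Y', hY'⟩ := hHw w' hw'
    have h1 : T.star (H * inc α w) * (H * inc α w') = T.B₂ w w' • (1 : Matrix α α F) := by
      rw [T.star_mul_left, T.star_inc, Matrix.mul_assoc, ← Matrix.mul_assoc (T.adjV H), show T.adjV H * H = 1 from hi,
        Matrix.one_mul, T.pr_mul_inc]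
    rw [hY, hY'] at h1
    rw [← h1]
    have hst : T.star (inc α e * Y + inc α (D w) * A) = T.adjU Y * T.pr e + T.adjU A * T.pr (D w) := by
      rw [← T.star_inc e, ← T.star_inc (D w), ← T.star_mul_right, ← T.star_mul_right, star, star, star, transpose_add,
        Matrix.mul_add, Matrix.add_mul]
    rw [hst]
    simp only [Matrix.add_mul, Matrix.mul_add, Matrix.mul_assoc]
    simp only [← Matrix.mul_assoc (T.pr _) (inc α _), T.pr_mul_inc, hp.ee, heD, T.B₂_comm (D w) e, zero_smul,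
      Matrix.zero_mul, Matrix.mul_zero, zero_add, Matrix.smul_mul, Matrix.one_mul, Matrix.mul_smul]
  obtain ⟨z₀, hez₀, hfz₀, hz₀⟩ := exists_aniso_pair T.symm₂ T.det₂ h.two (by have := h.card₂; omega) hp.ee hp.ff hp.ef
  have hz₀' : T.B₂ z₀ z₀ ≠ 0 := hz₀
  have hD0 : T.B₂ (D z₀) (D z₀) ≠ 0 := by
    intro h0
    have h1 := hrel z₀ z₀ hez₀ hez₀
    rw [h0, zero_smul] at h1
    exact smul_ne_zero hz₀' one_ne_zero h1.symm
  set μ := T.B₂ z₀ z₀ / T.B₂ (D z₀) (D z₀) with hμ
  have hμ0 : μ ≠ 0 := div_ne_zero hz₀' hD0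
  have hAμ : T.adjU A * A = μ • (1 : Matrix α α F) := by
    refine smul_right_injective (Matrix α α F) hD0 ?_
    show T.B₂ (D z₀) (D z₀) • (T.adjU A * A) = _
    rw [hrel z₀ z₀ hez₀ hez₀]
    beta_reduce
    rw [smul_smul, hμ, mul_div_cancel₀ _ hD0]
  have hDrel : ∀ w w', T.B₂ e w = 0 → T.B₂ e w' = 0 → μ * T.B₂ (D w) (D w') = T.B₂ w w' := by
    intro w w' hw hw'
    have h1 := hrel w w' hw hw'
    rw [hAμ, smul_smul] at h1
    rw [mul_comm]
    exact smul_left_injective F (one_ne_zero (α := Matrix α α F)) h1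
  -- the Levi element
  let bL : (β → F) →ₗ[F] (β → F) :=
    { toFun := fun v => T.B₂ f v • e + (μ⁻¹ * T.B₂ e v) • f + D (T.proj₂ e f v)
      map_add' := fun v w => by
        have hpr : T.proj₂ e f (v + w) = T.proj₂ e f v + T.proj₂ e f w := by
          simp only [proj₂, B₂_add_right, add_smul]; abel
        rw [hpr, map_add, B₂_add_right, B₂_add_right, mul_add, add_smul, add_smul]; abel
      map_smul' := fun c v => by
        have hpr : T.proj₂ e f (c • v) = c • T.proj₂ e f v := by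
          simp only [proj₂, B₂_smul_right, mul_smul, smul_sub]
        rw [hpr, map_smul, B₂_smul_right, B₂_smul_right, RingHom.id_apply, smul_add, smul_add, smul_smul, smul_smul,
          mul_left_comm c μ⁻¹] }
  set b := LinearMap.toMatrix' bL with hb
  have hbv : ∀ v, b *ᵥ v = T.B₂ f v • e + (μ⁻¹ * T.B₂ e v) • f + D (T.proj₂ e f v) := fun v => by
    rw [hb, LinearMap.toMatrix'_mulVec]; rfl
  have hproj : ∀ v w : β → F, T.B₂ v w =
      T.B₂ f v * T.B₂ e w + T.B₂ e v * T.B₂ f w + T.B₂ (T.proj₂ e f v) (T.proj₂ e f w) := by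
    intro v w
    simp only [proj₂, B₂_sub_left, B₂_sub_right, B₂_smul_left, B₂_smul_right, hp.ee, hp.ff, hp.ef, hp.fe,
      T.B₂_comm v f, T.B₂_comm v e]
    ring
  have hbsim : bᵀ * T.G₂ * b = μ⁻¹ • T.G₂ := by
    refine Matrix.ext_of_mulVec_single fun j => ?_
    refine dotProduct_eq _ _ fun u => ?_
    rw [dotProduct_comm _ u, dotProduct_comm _ u, ← mulVec_mulVec, ← mulVec_mulVec, dotProduct_mulVec u bᵀ,
      vecMul_transpose, smul_mulVec, dotProduct_smul, smul_eq_mul]
    show T.B₂ (b *ᵥ u) (b *ᵥ Pi.single j 1) = μ⁻¹ * T.B₂ u (Pi.single j 1)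
    rw [hbv, hbv, hproj u (Pi.single j 1), ← hDrel _ _ (hp.proj_left u) (hp.proj_left (Pi.single j 1))]
    simp only [B₂_add_left, B₂_add_right, B₂_smul_left, B₂_smul_right, hp.ee, hp.ff, hp.ef, hp.fe, heD, hfD,
      T.B₂_comm (D _) e, T.B₂_comm (D _) f]
    field_simp
    ring
  have hbe : b *ᵥ e = e := by
    rw [hbv, hp.fe, hp.ee, hp.proj_self.1, map_zero, one_smul, mul_zero, zero_smul, add_zero, add_zero]
  have hℓ : T.IsIso (A ⊗ₖ b) := by
    rw [isIso_iff, ← kroneckerMap_transpose, G, ← mul_kronecker_mul, ← mul_kronecker_mul, B₁_sim hAμ, hbsim,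
      smul_kronecker, kronecker_smul, smul_smul, mul_inv_cancel₀ hμ0, one_smul]
  set L := A ⊗ₖ b with hL
  have hLi : T.adjV L * L = 1 := hℓ
  have hLi' : L * T.adjV L = 1 := mul_eq_one_comm.mp hℓ
  have hLe : T.adjV L * inc α e = inc α e * A⁻¹ := by
    calc T.adjV L * inc α e = T.adjV L * (L * inc α e) * A⁻¹ := by
          rw [hL, kron_mul_inc, hbe, Matrix.mul_assoc (T.adjV _), Matrix.mul_assoc (inc α e), hAA, Matrix.mul_one]
      _ = inc α e * A⁻¹ := by rw [← Matrix.mul_assoc, hLi, Matrix.one_mul]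
  set u := T.adjV L * H with hu
  have hLadj : T.IsIso (T.adjV L) := by
    rw [IsIso]
    have : T.adjV (T.adjV L) = L := by
      calc T.adjV (T.adjV L) = T.adjV (T.adjV L) * (T.adjV L * L) := by rw [hLi, Matrix.mul_one]
        _ = L := by rw [← Matrix.mul_assoc, ← adjV_mul, hLi', adjV_one, Matrix.one_mul]
    rw [this, hLi']
  have hui : T.IsIso u := IsIso.mul T hLadj hi
  have hurad : T.IsRad e u := by
    refine ⟨?_, fun w hw => ?_⟩
    · rw [hu, Matrix.mul_assoc, hA, ← Matrix.mul_assoc, hLe, Matrix.mul_assoc, hAA', Matrix.mul_one]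
    · obtain ⟨Y, hY⟩ := hHw (T.proj₂ e f w) (hp.proj_left w)
      have hwe : w = T.B₂ f w • e + T.proj₂ e f w := by rw [proj₂, hw, zero_smul, sub_zero, add_sub_cancel]
      have hLw : L * inc α w = inc α e * (T.B₂ f w • A) + inc α (D (T.proj₂ e f w)) * A := by
        rw [hL, kron_mul_inc, hbv, hw, mul_zero, zero_smul, add_zero, inc_add, inc_smul, Matrix.add_mul,
          Matrix.smul_mul, Matrix.mul_smul]
      have hH : H * inc α w = L * inc α w + inc α e * Y := by
        rw [hLw]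
        conv_lhs => rw [hwe, inc_add, inc_smul, Matrix.mul_add, Matrix.mul_smul, hA, hY]
        rw [Matrix.mul_smul]
        abel
      refine ⟨A⁻¹ * Y, ?_⟩
      rw [hu, Matrix.mul_assoc, hH, Matrix.mul_add, ← Matrix.mul_assoc, hLi, Matrix.one_mul, ← Matrix.mul_assoc, hLe,
        Matrix.mul_assoc]
  set ug := T.toGL u hui with hug
  have hugΩ : ug ∈ Cfsg.Geo.omegaGL (⇑T.qf) :=
    T.unip_mem_omega h.two h.card_six (by rw [hug, toGL_val]; exact hui)
      (by rw [hug, toGL_val]; exact hurad.cube hp hui)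
  have hLg : ((g * ug⁻¹ : GL (α × β) F) : Matrix (α × β) (α × β) F) = L := by
    have h1 : (g * ug⁻¹ : GL (α × β) F) = T.toGL L hℓ := by
      rw [mul_inv_eq_iff_eq_mul]
      refine Units.ext ?_
      rw [Units.val_mul, hug, toGL_val, toGL_val, hu, ← Matrix.mul_assoc, hLi', Matrix.one_mul]
    rw [h1, toGL_val]
  have hkron : IsKron (g * ug⁻¹) := isKron_of_mat _ _ _ hLg
  have hX : g * ug⁻¹ ∈ X := h.kron _ hkron (mul_mem (h.le hg) (inv_mem hugΩ))
  have hugX : ug ∈ X := by
    have := mul_mem (inv_mem hX) hg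
    rwa [_root_.mul_inv_rev, inv_inv, inv_mul_cancel_right] at this
  -- the unipotent part is scalar, so it is a Siegel element
  have hsc := comp_scalar h hU hq hp hS hugX (by rw [hug, toGL_val]; exact hurad)
  rw [hug, toGL_val] at hsc
  obtain ⟨i₁⟩ := ‹Nonempty α›
  let φ : (β → F) →ₗ[F] F :=
    { toFun := fun w => T.comp f u w i₁ i₁
      map_add' := fun v w => by rw [comp_add, Matrix.add_apply]
      map_smul' := fun c v => by rw [comp_smul, Matrix.smul_apply]; rfl }
  obtain ⟨z, hez, -, hz⟩ := exists_dual_vec hp φ (by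
    show T.comp f u e i₁ i₁ = 0
    rw [comp, Matrix.mul_assoc, Matrix.sub_mul, Matrix.one_mul, hurad.1, sub_self, Matrix.mul_zero, Matrix.zero_apply])
  have hφ : ∀ w, T.B₂ e w = 0 → T.comp f u w = T.B₂ z w • (1 : Matrix α α F) := by
    intro w hw
    obtain ⟨c, hc⟩ := hsc w hw
    rw [hz w hw, hc]
    show c • (1 : Matrix α α F) = (T.comp f u w) i₁ i₁ • 1
    rw [hc, Matrix.smul_apply, one_apply_eq, smul_eq_mul, mul_one]
  obtain ⟨t, ht, et⟩ := h.sie₂_mem hp.ee hez
  have hti : T.IsIso ((1 : Matrix α α F) ⊗ₖ sie T.G₂ e z) := et ▸ h.isIso ht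
  have htr := sie₂_rad (T := T) (α := α) hp hez
  have hr₂ := hurad.mul hp (htr.1.adj hp hti).1
  have he₂ : ((ug * t⁻¹ : GL (α × β) F) : Matrix (α × β) (α × β) F) =
      u * T.adjV ((1 : Matrix α α F) ⊗ₖ sie T.G₂ e z) := by
    rw [Units.val_mul, T.inv_val (h.isIso ht), et, hug, toGL_val]
  have hmem₂ : ug * t⁻¹ ∈ X := mul_mem hugX (inv_mem ht)
  obtain ⟨K, hK, hKe⟩ := hr₂.1.central hp (he₂ ▸ h.isIso hmem₂) fun w hw => by
    rw [hr₂.2 w hw, (htr.1.adj hp hti).2 w hw, htr.2 w hw, hφ w hw, add_neg_cancel]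
  have hKS : K ∈ SK h e hp.ee := ⟨hK, ug * t⁻¹, hmem₂, he₂.trans hKe⟩
  rw [hS, AddSubgroup.mem_bot] at hKS
  rw [hKS, ZM_zero, ← he₂, ← Units.val_one] at hKe
  have hut : ug = t := mul_inv_eq_one.mp (Units.ext hKe)
  have hgt : g = (g * ug⁻¹) * t := by rw [← hut, inv_mul_cancel_right]
  rw [hgt]
  exact hkron.mul (isKron_of_mat _ _ _ et)

end TForm

end Cfsg.Lib.Classical.TensorOrth
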