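import Cfsg.Agent.Classical.TensorMax.Pure
import Cfsg.Agent.Classical.OrthElusive.Bridge

/-!
# The tensor product of two symmetric forms

`V = U ⊗ W` as functions on `α × β`.  The maps `inc w : U → V`, `v ↦ v ⊗ w`, and `ev φ : V → U`, with
`ev φ (v ⊗ w) = φ(w) v`, carry all computations.
-/

set_option autoImplicit false
set_option linter.unusedSectionVars false
set_option linter.unusedSimpArgs false

namespace Cfsg.Lib.Classical.TensorOrth

open Matrix
open scoped Kronecker MatrixGroups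
open Cfsg.Lib.Classical.TensorMax (pure IsKron)

universe u

variable {α β : Type} [Fintype α] [DecidableEq α] [Fintype β] [DecidableEq β] {F : Type u} [Field F]

/-- Two non-degenerate symmetric forms, by their matrices. -/
structure TForm (α β : Type) [Fintype α] [DecidableEq α] [Fintype β] [DecidableEq β] (F : Type u) [Field F] where
  G₁ : Matrix α α F
  G₂ : Matrix β β F
  symm₁ : G₁ᵀ = G₁
  symm₂ : G₂ᵀ = G₂
  det₁ : G₁.det ≠ 0
  det₂ : G₂.det ≠ 0

/-- The map `v ↦ v ⊗ w`. -/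
def inc (α : Type) [DecidableEq α] (w : β → F) : Matrix (α × β) α F := Matrix.of fun x l => if x.1 = l then w x.2 else 0

/-- The map contracting the second factor with `φ`. -/
def ev (α : Type) [DecidableEq α] (φ : β → F) : Matrix α (α × β) F := Matrix.of fun i y => if i = y.1 then φ y.2 else 0

theorem inc_apply (w : β → F) (i l : α) (k : β) : inc α w (i, k) l = if i = l then w k else 0 := rfl

theorem ev_apply (φ : β → F) (i l : α) (k : β) : ev α φ i (l, k) = if i = l then φ k else 0 := rfl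

theorem inc_mul_apply {n : Type} (w : β → F) (M : Matrix α n F) (i : α) (k : β) (j : n) :
    (inc α w * M : Matrix (α × β) n F) (i, k) j = w k * M i j := by
  simp [Matrix.mul_apply, inc_apply]

theorem mul_ev_apply {n : Type} (M : Matrix n α F) (φ : β → F) (j : n) (l : α) (k : β) :
    (M * ev α φ : Matrix n (α × β) F) j (l, k) = M j l * φ k := by
  simp [Matrix.mul_apply, ev_apply]

theorem ev_mul_inc (φ w : β → F) : ev α φ * inc α w = (φ ⬝ᵥ w) • (1 : Matrix α α F) := by
  ext i l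
  rw [Matrix.mul_apply, Fintype.sum_prod_type, Matrix.smul_apply, one_apply, smul_eq_mul]
  by_cases h : i = l
  · subst h
    simp [ev_apply, inc_apply, dotProduct]
  · rw [if_neg h, mul_zero]
    refine Finset.sum_eq_zero fun j _ => Finset.sum_eq_zero fun k _ => ?_
    by_cases hj : i = j
    · subst hj; simp [inc_apply, h]
    · simp [ev_apply, hj]

theorem inc_mul_ev (w φ : β → F) (a : Matrix α α F) : inc α w * a * ev α φ = a ⊗ₖ vecMulVec w φ := by
  ext ⟨i, k⟩ ⟨l, n⟩
  rw [mul_ev_apply, inc_mul_apply, kroneckerMap_apply, vecMulVec_apply]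
  ring

theorem kron_mul_inc (a : Matrix α α F) (b : Matrix β β F) (w : β → F) :
    (a ⊗ₖ b) * inc α w = inc α (b *ᵥ w) * a := by
  ext ⟨i, k⟩ l
  rw [inc_mul_apply, Matrix.mul_apply, Fintype.sum_prod_type,
    Finset.sum_eq_single l (fun j _ hj => by simp [inc_apply, hj]) (fun h => absurd (Finset.mem_univ l) h),
    Matrix.mulVec, dotProduct, Finset.sum_mul]
  refine Finset.sum_congr rfl fun n _ => ?_
  rw [kroneckerMap_apply, inc_apply, if_pos rfl]
  ring

theorem ev_mul_kron (φ : β → F) (a : Matrix α α F) (b : Matrix β β F) :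
    ev α φ * (a ⊗ₖ b) = a * ev α (φ ᵥ* b) := by
  ext i ⟨l, n⟩
  rw [mul_ev_apply, Matrix.mul_apply, Fintype.sum_prod_type,
    Finset.sum_eq_single i (fun j _ hj => by simp [ev_apply, Ne.symm hj]) (fun h => absurd (Finset.mem_univ i) h),
    Matrix.vecMul, dotProduct, Finset.mul_sum]
  refine Finset.sum_congr rfl fun k _ => ?_
  rw [kroneckerMap_apply, ev_apply, if_pos rfl]
  ring

theorem inc_add (w w' : β → F) : inc α (w + w') = inc α w + inc α w' := by
  ext ⟨i, k⟩ l; simp only [inc_apply, Matrix.add_apply, Pi.add_apply]; split <;> simp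

theorem inc_smul (c : F) (w : β → F) : inc α (c • w) = c • inc α w := by
  ext ⟨i, k⟩ l; simp only [inc_apply, Matrix.smul_apply, Pi.smul_apply, smul_eq_mul]; split <;> simp

theorem ev_add (w w' : β → F) : ev α (w + w') = ev α w + ev α w' := by
  ext i ⟨l, k⟩; simp only [ev_apply, Matrix.add_apply, Pi.add_apply]; split <;> simp

theorem ev_smul (c : F) (w : β → F) : ev α (c • w) = c • ev α w := by
  ext i ⟨l, k⟩; simp only [ev_apply, Matrix.smul_apply, Pi.smul_apply, smul_eq_mul]; split <;> simp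

theorem inc_zero : inc α (0 : β → F) = 0 := by
  ext ⟨i, k⟩ l; simp [inc_apply]

theorem ev_zero : ev α (0 : β → F) = 0 := by
  ext i ⟨l, k⟩; simp [ev_apply]

/-- The linear map `w ↦ inc w`. -/
def incL (α : Type) [Fintype α] [DecidableEq α] : (β → F) →ₗ[F] Matrix (α × β) α F where
  toFun := inc α
  map_add' := inc_add
  map_smul' := inc_smul

/-- The linear map `φ ↦ ev φ`. -/
def evL (α : Type) [Fintype α] [DecidableEq α] : (β → F) →ₗ[F] Matrix α (α × β) F where
  toFun := ev α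
  map_add' := ev_add
  map_smul' := ev_smul

theorem inc_sub (w w' : β → F) : inc α (w - w') = inc α w - inc α w' := (incL α).map_sub w w'

theorem inc_neg (w : β → F) : inc α (-w) = -inc α w := (incL α).map_neg w

theorem inc_sum {κ : Type} (s : Finset κ) (w : κ → β → F) :
    inc α (∑ k ∈ s, w k) = ∑ k ∈ s, inc α (w k) := map_sum (incL α) w s

theorem inc_mulVec (w : β → F) (v : α → F) : inc α w *ᵥ v = pure v w := by
  ext ⟨i, k⟩
  simp [Matrix.mulVec, dotProduct, inc_apply, TensorMax.pure_apply, mul_comm]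

theorem ev_mulVec_pure (φ : β → F) (v : α → F) (w : β → F) : ev α φ *ᵥ pure v w = (φ ⬝ᵥ w) • v := by
  rw [← inc_mulVec, mulVec_mulVec, ev_mul_inc, smul_mulVec, one_mulVec]

namespace TForm

variable (T : TForm α β F)

/-- The form on the first factor. -/
def B₁ (v v' : α → F) : F := v ⬝ᵥ T.G₁ *ᵥ v'

/-- The form on the second factor. -/
def B₂ (w w' : β → F) : F := w ⬝ᵥ T.G₂ *ᵥ w'

/-- The matrix of the form of the tensor product. -/
def G : Matrix (α × β) (α × β) F := T.G₁ ⊗ₖ T.G₂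

/-- Contraction with `w`. -/
def pr (w : β → F) : Matrix α (α × β) F := ev α (T.G₂ *ᵥ w)

theorem G_symm : T.Gᵀ = T.G := by rw [G, ← kroneckerMap_transpose, T.symm₁, T.symm₂]

theorem G_det : T.G.det ≠ 0 := by
  rw [G, det_kronecker]
  exact mul_ne_zero (pow_ne_zero _ T.det₁) (pow_ne_zero _ T.det₂)

theorem inv_mul₁ : T.G₁⁻¹ * T.G₁ = 1 := Matrix.nonsing_inv_mul _ (isUnit_iff_ne_zero.mpr T.det₁)
theorem mul_inv₁ : T.G₁ * T.G₁⁻¹ = 1 := Matrix.mul_nonsing_inv _ (isUnit_iff_ne_zero.mpr T.det₁)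
theorem inv_mul₂ : T.G₂⁻¹ * T.G₂ = 1 := Matrix.nonsing_inv_mul _ (isUnit_iff_ne_zero.mpr T.det₂)
theorem mul_inv₂ : T.G₂ * T.G₂⁻¹ = 1 := Matrix.mul_nonsing_inv _ (isUnit_iff_ne_zero.mpr T.det₂)
theorem inv_mul : T.G⁻¹ * T.G = 1 := Matrix.nonsing_inv_mul _ (isUnit_iff_ne_zero.mpr T.G_det)
theorem mul_inv : T.G * T.G⁻¹ = 1 := Matrix.mul_nonsing_inv _ (isUnit_iff_ne_zero.mpr T.G_det)

theorem B₂_comm (w w' : β → F) : T.B₂ w w' = T.B₂ w' w := by
  rw [B₂, B₂, dotProduct_mulVec, ← mulVec_transpose, T.symm₂, dotProduct_comm]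

theorem B₁_comm (w w' : α → F) : T.B₁ w w' = T.B₁ w' w := by
  rw [B₁, B₁, dotProduct_mulVec, ← mulVec_transpose, T.symm₁, dotProduct_comm]

theorem B₂_add_left (a b w : β → F) : T.B₂ (a + b) w = T.B₂ a w + T.B₂ b w := add_dotProduct _ _ _
theorem B₂_add_right (w a b : β → F) : T.B₂ w (a + b) = T.B₂ w a + T.B₂ w b := by
  rw [B₂, mulVec_add, dotProduct_add, B₂, B₂]
theorem B₂_smul_left (c : F) (a w : β → F) : T.B₂ (c • a) w = c * T.B₂ a w := smul_dotProduct _ _ _
theorem B₂_smul_right (c : F) (w a : β → F) : T.B₂ w (c • a) = c * T.B₂ w a := by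
  rw [B₂, mulVec_smul, dotProduct_smul, B₂, smul_eq_mul]
theorem B₂_neg_left (a w : β → F) : T.B₂ (-a) w = -T.B₂ a w := neg_dotProduct _ _
theorem B₂_neg_right (w a : β → F) : T.B₂ w (-a) = -T.B₂ w a := by
  rw [B₂, mulVec_neg, dotProduct_neg, B₂]
theorem B₂_sub_left (a b w : β → F) : T.B₂ (a - b) w = T.B₂ a w - T.B₂ b w := sub_dotProduct _ _ _
theorem B₂_sub_right (w a b : β → F) : T.B₂ w (a - b) = T.B₂ w a - T.B₂ w b := by
  rw [B₂, mulVec_sub, dotProduct_sub, B₂, B₂]
theorem B₂_zero_left (w : β → F) : T.B₂ 0 w = 0 := zero_dotProduct _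
theorem B₂_zero_right (w : β → F) : T.B₂ w 0 = 0 := by rw [B₂, mulVec_zero, dotProduct_zero]

theorem B₁_add_left (a b w : α → F) : T.B₁ (a + b) w = T.B₁ a w + T.B₁ b w := add_dotProduct _ _ _
theorem B₁_add_right (w a b : α → F) : T.B₁ w (a + b) = T.B₁ w a + T.B₁ w b := by
  rw [B₁, mulVec_add, dotProduct_add, B₁, B₁]
theorem B₁_smul_left (c : F) (a w : α → F) : T.B₁ (c • a) w = c * T.B₁ a w := smul_dotProduct _ _ _
theorem B₁_smul_right (c : F) (w a : α → F) : T.B₁ w (c • a) = c * T.B₁ w a := by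
  rw [B₁, mulVec_smul, dotProduct_smul, B₁, smul_eq_mul]
theorem B₁_neg_left (a w : α → F) : T.B₁ (-a) w = -T.B₁ a w := neg_dotProduct _ _
theorem B₁_neg_right (w a : α → F) : T.B₁ w (-a) = -T.B₁ w a := by
  rw [B₁, mulVec_neg, dotProduct_neg, B₁]
theorem B₁_sub_left (a b w : α → F) : T.B₁ (a - b) w = T.B₁ a w - T.B₁ b w := sub_dotProduct _ _ _
theorem B₁_sub_right (w a b : α → F) : T.B₁ w (a - b) = T.B₁ w a - T.B₁ w b := by
  rw [B₁, mulVec_sub, dotProduct_sub, B₁, B₁]
theorem B₁_zero_left (w : α → F) : T.B₁ 0 w = 0 := zero_dotProduct _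
theorem B₁_zero_right (w : α → F) : T.B₁ w 0 = 0 := by rw [B₁, mulVec_zero, dotProduct_zero]

theorem eq_zero₂ {w : β → F} (h : ∀ z, T.B₂ z w = 0) : w = 0 :=
  Matrix.eq_zero_of_mulVec_eq_zero T.det₂ (dotProduct_eq_zero _ fun z => by rw [dotProduct_comm]; exact h z)

theorem eq_zero₁ {w : α → F} (h : ∀ z, T.B₁ z w = 0) : w = 0 :=
  Matrix.eq_zero_of_mulVec_eq_zero T.det₁ (dotProduct_eq_zero _ fun z => by rw [dotProduct_comm]; exact h z)

theorem pr_mul_inc (z w : β → F) : T.pr z * inc α w = T.B₂ z w • (1 : Matrix α α F) := by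
  rw [pr, ev_mul_inc, B₂_comm, B₂, dotProduct_comm]

theorem pr_add (w w' : β → F) : T.pr (w + w') = T.pr w + T.pr w' := by rw [pr, mulVec_add, ev_add]; rfl

theorem pr_smul (c : F) (w : β → F) : T.pr (c • w) = c • T.pr w := by rw [pr, mulVec_smul, ev_smul]; rfl

theorem pr_zero : T.pr (0 : β → F) = 0 := by rw [pr, mulVec_zero, ev_zero]

theorem pr_neg (w : β → F) : T.pr (-w) = -T.pr w := by
  rw [← neg_one_smul F w, pr_smul, neg_one_smul]

theorem pr_sub (w w' : β → F) : T.pr (w - w') = T.pr w - T.pr w' := by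
  rw [sub_eq_add_neg, pr_add, pr_neg, sub_eq_add_neg]

/-- The adjoint of an operator on the first factor. -/
noncomputable def adjU (Y : Matrix α α F) : Matrix α α F := T.G₁⁻¹ * Yᵀ * T.G₁

/-- The adjoint of a map from the first factor to the product. -/
noncomputable def star (M : Matrix (α × β) α F) : Matrix α (α × β) F := T.G₁⁻¹ * Mᵀ * T.G

/-- The adjoint of an operator on the product. -/
noncomputable def adjV (g : Matrix (α × β) (α × β) F) : Matrix (α × β) (α × β) F := T.G⁻¹ * gᵀ * T.G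

theorem star_mul_right (M : Matrix (α × β) α F) (Y : Matrix α α F) : T.star (M * Y) = T.adjU Y * T.star M := by
  simp only [star, adjU, transpose_mul, Matrix.mul_assoc]
  rw [← Matrix.mul_assoc T.G₁ T.G₁⁻¹, T.mul_inv₁, Matrix.one_mul]

theorem star_mul_left (g : Matrix (α × β) (α × β) F) (M : Matrix (α × β) α F) :
    T.star (g * M) = T.star M * T.adjV g := by
  simp only [star, adjV, transpose_mul, Matrix.mul_assoc]
  rw [← Matrix.mul_assoc T.G T.G⁻¹, T.mul_inv, Matrix.one_mul]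

theorem star_inc (w : β → F) : T.star (inc α w) = T.pr w := by
  have h : (inc α w)ᵀ = ev α w := by
    ext i ⟨l, k⟩
    simp [inc_apply, ev_apply, eq_comm]
  rw [star, h, G, Matrix.mul_assoc, ev_mul_kron, ← Matrix.mul_assoc, T.inv_mul₁, Matrix.one_mul, pr, ← vecMul_transpose,
    T.symm₂]

theorem adjV_mul (g h : Matrix (α × β) (α × β) F) : T.adjV (g * h) = T.adjV h * T.adjV g := by
  simp only [adjV, transpose_mul, Matrix.mul_assoc]
  rw [← Matrix.mul_assoc T.G T.G⁻¹, T.mul_inv, Matrix.one_mul]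

theorem adjV_add (g h : Matrix (α × β) (α × β) F) : T.adjV (g + h) = T.adjV g + T.adjV h := by
  simp only [adjV, transpose_add, Matrix.mul_add, Matrix.add_mul]

theorem adjV_sub (g h : Matrix (α × β) (α × β) F) : T.adjV (g - h) = T.adjV g - T.adjV h := by
  simp only [adjV, transpose_sub, Matrix.mul_sub, Matrix.sub_mul]

theorem adjV_smul (c : F) (g : Matrix (α × β) (α × β) F) : T.adjV (c • g) = c • T.adjV g := by
  simp only [adjV, transpose_smul, Matrix.mul_smul, Matrix.smul_mul]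

theorem adjV_one : T.adjV 1 = 1 := by rw [adjV, transpose_one, Matrix.mul_one, T.inv_mul]

theorem adjU_one : T.adjU 1 = 1 := by rw [adjU, transpose_one, Matrix.mul_one, T.inv_mul₁]

theorem adjU_mul (g h : Matrix α α F) : T.adjU (g * h) = T.adjU h * T.adjU g := by
  simp only [adjU, transpose_mul, Matrix.mul_assoc]
  rw [← Matrix.mul_assoc T.G₁ T.G₁⁻¹, T.mul_inv₁, Matrix.one_mul]

theorem adjU_add (g h : Matrix α α F) : T.adjU (g + h) = T.adjU g + T.adjU h := by
  simp only [adjU, transpose_add, Matrix.mul_add, Matrix.add_mul]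

theorem adjU_sub (g h : Matrix α α F) : T.adjU (g - h) = T.adjU g - T.adjU h := by
  simp only [adjU, transpose_sub, Matrix.mul_sub, Matrix.sub_mul]

theorem adjU_smul (c : F) (g : Matrix α α F) : T.adjU (c • g) = c • T.adjU g := by
  simp only [adjU, transpose_smul, Matrix.mul_smul, Matrix.smul_mul]

theorem adjU_adjU (g : Matrix α α F) : T.adjU (T.adjU g) = g := by
  simp only [adjU, transpose_mul, transpose_transpose, transpose_nonsing_inv, T.symm₁]
  rw [Matrix.mul_assoc, Matrix.mul_assoc, Matrix.mul_assoc, T.inv_mul₁, Matrix.mul_one, ← Matrix.mul_assoc,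
    T.inv_mul₁, Matrix.one_mul]

theorem B₁_adjU (g : Matrix α α F) (v v' : α → F) : T.B₁ v (g *ᵥ v') = T.B₁ (T.adjU g *ᵥ v) v' := by
  rw [B₁_comm, T.B₁_comm (T.adjU g *ᵥ v), B₁, B₁, adjU, mulVec_mulVec, ← Matrix.mul_assoc, ← Matrix.mul_assoc,
    T.mul_inv₁, Matrix.one_mul, ← mulVec_mulVec, dotProduct_mulVec v', vecMul_transpose]

theorem B₁_vec (x y v : α → F) : vecMulVec x (T.G₁ *ᵥ y) *ᵥ v = T.B₁ y v • x := by
  rw [vecMulVec_mulVec, op_smul_eq_smul, B₁_comm, B₁, dotProduct_comm]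

theorem B₂_vec (x y v : β → F) : vecMulVec x (T.G₂ *ᵥ y) *ᵥ v = T.B₂ y v • x := by
  rw [vecMulVec_mulVec, op_smul_eq_smul, B₂_comm, B₂, dotProduct_comm]

theorem adjV_inc_pr (w z : β → F) (a : Matrix α α F) :
    T.adjV (inc α w * a * T.pr z) = inc α z * T.adjU a * T.pr w := by
  rw [pr, pr, inc_mul_ev, inc_mul_ev, adjV, adjU, G, inv_kronecker, ← kroneckerMap_transpose, ← mul_kronecker_mul,
    ← mul_kronecker_mul]
  congr 1
  rw [transpose_vecMulVec, mul_vecMulVec, mulVec_mulVec, T.inv_mul₂, one_mulVec, vecMulVec_mul, ← mulVec_transpose,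
    T.symm₂]

theorem adjU_vecMulVec (x y : α → F) :
    T.adjU (vecMulVec x (T.G₁ *ᵥ y)) = vecMulVec y (T.G₁ *ᵥ x) := by
  rw [adjU, transpose_vecMulVec, mul_vecMulVec, mulVec_mulVec, T.inv_mul₁, one_mulVec, vecMulVec_mul,
    ← mulVec_transpose, T.symm₁]

theorem adjV_kron (a : Matrix α α F) (b : Matrix β β F) :
    T.adjV (a ⊗ₖ b) = T.adjU a ⊗ₖ (T.G₂⁻¹ * bᵀ * T.G₂) := by
  rw [adjV, adjU, G, inv_kronecker, ← kroneckerMap_transpose, ← mul_kronecker_mul, ← mul_kronecker_mul]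

/-- Isometries of the tensor product form. -/
def IsIso (g : Matrix (α × β) (α × β) F) : Prop := T.adjV g * g = 1

theorem IsIso.mul {g h : Matrix (α × β) (α × β) F} (hg : T.IsIso g) (hh : T.IsIso h) : T.IsIso (g * h) := by
  rw [IsIso, adjV_mul, Matrix.mul_assoc, ← Matrix.mul_assoc (T.adjV g), show T.adjV g * g = 1 from hg,
    Matrix.one_mul]
  exact hh

theorem isIso_iff (g : Matrix (α × β) (α × β) F) : T.IsIso g ↔ gᵀ * T.G * g = T.G := by
  rw [IsIso, adjV]
  constructor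
  · intro h
    have := congrArg (T.G * ·) h
    beta_reduce at this
    rwa [← Matrix.mul_assoc, ← Matrix.mul_assoc, ← Matrix.mul_assoc, T.mul_inv, Matrix.one_mul, Matrix.mul_one] at this
  · intro h
    rw [Matrix.mul_assoc, Matrix.mul_assoc, ← Matrix.mul_assoc gᵀ, h, T.inv_mul]

end TForm

end Cfsg.Lib.Classical.TensorOrth
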