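import Cfsg.Agent.Classical.TensorOrth.Centre
import Cfsg.Agent.Classical.Orth.DecompGen.Root

/-!
# A group with a non-trivial centre is everything
-/

set_option autoImplicit false
set_option linter.unusedSectionVars false
set_option linter.unusedSimpArgs false

namespace Cfsg.Lib.Classical.TensorOrth

open Matrix
open scoped Kronecker MatrixGroups
open Cfsg.Lib.Classical.TensorMax (pure IsKron)

universe u

variable {α β : Type} [Fintype α] [DecidableEq α] [Fintype β] [DecidableEq β] {F : Type u} [Field F]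

namespace TForm

set_option maxHeartbeats 1000000

variable {T : TForm α β F}

theorem pure_dot (x : α → F) (w : β → F) (v : α × β → F) :
    pure x w ⬝ᵥ T.G *ᵥ v = T.B₁ x (T.pr w *ᵥ v) := by
  rw [← inc_mulVec, B₁, ← T.star_inc w, star, ← mulVec_mulVec, ← mulVec_mulVec, mulVec_mulVec _ T.G₁ T.G₁⁻¹,
    T.mul_inv₁, one_mulVec, dotProduct_mulVec x (inc α w)ᵀ, vecMul_transpose]

theorem pure_dot_pure (x y : α → F) (w z : β → F) :
    pure x w ⬝ᵥ T.G *ᵥ pure y z = T.B₁ x y * T.B₂ w z := by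
  rw [pure_dot, pr, ev_mulVec_pure, B₁_smul_right, mul_comm, B₂_comm T w z, B₂, dotProduct_comm (T.G₂ *ᵥ w) z]

/-- An isotropic vector seeing two given isotropic vectors. -/
theorem exists_seeing (h2 : (2 : F) ≠ 0) (h3 : 3 ≤ Fintype.card β) {e w : β → F} (he0 : e ≠ 0)
    (he : T.B₂ e e = 0) (hw0 : w ≠ 0) (hw : T.B₂ w w = 0) :
    ∃ f, T.B₂ f f = 0 ∧ T.B₂ f e ≠ 0 ∧ T.B₂ f w ≠ 0 := by
  by_cases hew : T.B₂ e w = 0
  swap
  · set w' := (T.B₂ e w)⁻¹ • w with hw'
    have hew' : T.B₂ e w' = 1 := by rw [hw', B₂_smul_right, inv_mul_cancel₀ hew]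
    have hw'w' : T.B₂ w' w' = 0 := by rw [hw', B₂_smul_right, B₂_smul_left, hw, mul_zero, mul_zero]
    have hw'e : T.B₂ w' e = 1 := by rw [B₂_comm]; exact hew'
    obtain ⟨z, hez, hwz, hzz⟩ := exists_aniso_pair T.symm₂ T.det₂ h2 h3 he hw'w' hew'
    have hze : T.B₂ z e = 0 := by rw [B₂_comm]; exact hez
    have hzw : T.B₂ z w' = 0 := by rw [B₂_comm]; exact hwz
    set r := -(T.B₂ z z / 2) with hr
    refine ⟨e + r • w' + z, ?_, ?_, ?_⟩
    · simp only [B₂_add_left, B₂_add_right, B₂_smul_left, B₂_smul_right, he, hw'w', hew', hw'e,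
        show T.B₂ e z = 0 from hez, show T.B₂ w' z = 0 from hwz, hze, hzw, hr]
      field_simp
      ring
    · simp only [B₂_add_left, B₂_smul_left, he, hw'e, hze, hr]
      simpa using div_ne_zero (show T.B₂ z z ≠ 0 from hzz) h2
    · have hwz' : T.B₂ z w = 0 := by
        have : w = T.B₂ e w • w' := by rw [hw', smul_smul, mul_inv_cancel₀ hew, one_smul]
        rw [this, B₂_smul_right, hzw, mul_zero]
      simp only [B₂_add_left, B₂_smul_left, hwz', hw', hw, mul_zero, add_zero]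
      exact hew
  · obtain ⟨f, hff, hef⟩ := exists_partner T.symm₂ T.det₂ h2 he0 he
    have hef' : T.B₂ e f = 1 := hef
    by_cases hfw : T.B₂ f w = 0
    swap
    · exact ⟨f, hff, by rw [B₂_comm, hef']; exact one_ne_zero, hfw⟩
    obtain ⟨w', hw'w', hww', hew', hfw'⟩ := exists_partner_perp T.symm₂ T.det₂ h2 he hff hef hw0 hw hew hfw
    refine ⟨f + w', ?_, ?_, ?_⟩
    · simp only [B₂_add_left, B₂_add_right, show T.B₂ f f = 0 from hff, show T.B₂ w' w' = 0 from hw'w',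
        show T.B₂ f w' = 0 from hfw', T.B₂_comm w' f, add_zero]
    · rw [B₂_add_left, T.B₂_comm f e, hef', T.B₂_comm w' e, show T.B₂ e w' = 0 from hew', add_zero]
      exact one_ne_zero
    · rw [B₂_add_left, hfw, zero_add, T.B₂_comm w' w, show T.B₂ w w' = 1 from hww']
      exact one_ne_zero

variable [Fintype F] {X : Subgroup (GL (α × β) F)}

/-- Isotropic lines of the second factor are permuted transitively inside `X`. -/
theorem exists_moving (h : T.Over X) {e w : β → F} (he0 : e ≠ 0) (he : T.B₂ e e = 0) (hw0 : w ≠ 0)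
    (hw : T.B₂ w w = 0) :
    ∃ (b : Matrix β β F) (t : F), t ≠ 0 ∧ b *ᵥ e = t • w ∧
      ∃ k ∈ X, (k : Matrix (α × β) (α × β) F) = (1 : Matrix α α F) ⊗ₖ b := by
  obtain ⟨f, hff, hfe, hfw⟩ := exists_seeing h.two (by have := h.card₂; omega) he0 he hw0 hw
  set t := T.B₂ f e / T.B₂ f w with ht
  have ht0 : t ≠ 0 := div_ne_zero hfe hfw
  set z := (T.B₂ f e)⁻¹ • (e - t • w) with hz
  have hfz : T.B₂ f z = 0 := by
    rw [hz, B₂_smul_right, B₂_sub_right, B₂_smul_right, ht, div_mul_cancel₀ _ hfw, sub_self, mul_zero]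
  refine ⟨sie T.G₂ f z, t, ht0, ?_, h.sie₂_mem hff hfz⟩
  rw [sie_mulVec T.G₂ T.symm₂, ← TForm.B₂, ← TForm.B₂, ← TForm.B₂]
  have hsm : T.B₂ f e • z = e - t • w := by rw [hz, smul_smul, mul_inv_cancel₀ hfe, one_smul]
  have hcoef : T.B₂ z e = T.B₂ z z / 2 * T.B₂ f e := by
    have h2 := h.two
    simp only [hz, B₂_smul_left, B₂_smul_right, B₂_sub_left, B₂_sub_right, he, hw, T.B₂_comm w e]
    field_simp
    ring
  rw [hsm, hcoef]
  abel

/-- A non-trivial centre at one point gives all centres at all points. -/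
theorem centre_all (h : T.Over X) (hU : T.Small₁) {e : β → F} (he0 : e ≠ 0) (he : T.B₂ e e = 0)
    (hne : SK h e he ≠ ⊥) {w : β → F} (hw : T.B₂ w w = 0) {K : Matrix α α F} (hK : T.adjU K = -K) :
    ∃ g ∈ X, (g : Matrix (α × β) (α × β) F) = T.ZM w K := by
  by_cases hw0 : w = 0
  · exact ⟨1, one_mem X, by rw [hw0, ZM, inc_zero, Matrix.zero_mul, Matrix.zero_mul, add_zero, Units.val_one]⟩
  obtain ⟨b, t, ht, hbe, k, hk, ek⟩ := exists_moving h he0 he hw0 hw
  have hK' : (t ^ 2)⁻¹ • K ∈ SK h e he := SK.all hU hne (by rw [adjU_smul, hK, smul_neg])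
  obtain ⟨-, g, hg, eg⟩ := hK'
  refine ⟨k * g * k⁻¹, mul_mem (mul_mem hk hg) (inv_mem hk), ?_⟩
  have hki : T.IsIso ((1 : Matrix α α F) ⊗ₖ b) := ek ▸ h.isIso hk
  have hpr : T.pr e * T.adjV ((1 : Matrix α α F) ⊗ₖ b) = T.pr (b *ᵥ e) := by
    rw [← T.star_inc e, ← T.star_mul_left, kron_mul_inc, Matrix.mul_one, T.star_inc]
  rw [Units.val_mul, Units.val_mul, T.inv_val (h.isIso hk), ek, eg, ZM, Matrix.mul_add, Matrix.add_mul,
    Matrix.mul_one, mul_eq_one_comm.mp hki, ← Matrix.mul_assoc, ← Matrix.mul_assoc, kron_mul_inc, Matrix.mul_one,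
    Matrix.mul_assoc, hpr, hbe, inc_smul, pr_smul, ZM]
  congr 1
  simp only [Matrix.smul_mul, Matrix.mul_smul, smul_smul]
  rw [show t * ((t ^ 2)⁻¹ * t) = 1 by field_simp, one_smul]

/-- All centres generate `Ω`. -/
theorem omega_le_of_centres (h : T.Over X)
    (hall : ∀ w, T.B₂ w w = 0 → ∀ K, T.adjU K = -K → ∃ g ∈ X, (g : Matrix (α × β) (α × β) F) = T.ZM w K) :
    Cfsg.Geo.omegaGL (⇑T.qf) ≤ X := by
  classical
  have hn : 5 ≤ Fintype.card (α × β) := le_trans (by norm_num) h.card_six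
  set K₀ := X.comap (Cfsg.isometryGroup F (⇑T.qf)).subtype with hK₀
  have hpol := T.qf_polar h.two
  have hwsk : ∀ a c, T.adjU (T.wedge a c) = -T.wedge a c := fun a c => T.adjU_wedge a c
  have hwap : ∀ a c v, T.wedge a c *ᵥ v = T.B₁ c v • a - T.B₁ a v • c := fun a c v => T.wedge_mulVec a c v
  -- vectors sharing the second factor
  have hsame : ∀ (x y : α → F) (e : β → F), T.B₂ e e = 0 → pure y e ∈ Refl.zset T.qf K₀ (pure x e) := by
    intro x y e he
    have hq0 : ∀ v, T.qf (pure v e) = 0 := fun v => by rw [qf_apply, pure_dot_pure, he, mul_zero, mul_zero]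
    refine ⟨by rw [hpol, pure_dot_pure, he, mul_zero], fun hu c hc => ?_⟩
    obtain ⟨g, hg, eg⟩ := hall e he (T.wedge (c • y) x) (hwsk _ _)
    show ((Refl.siegelG T.qf hu hc : Cfsg.isometryGroup F (⇑T.qf)) : GL (α × β) F) ∈ X
    rw [show ((Refl.siegelG T.qf hu hc : Cfsg.isometryGroup F (⇑T.qf)) : GL (α × β) F) = g from Units.ext ?_]
    · exact hg
    refine Matrix.ext_of_mulVec_single fun j => ?_
    rw [eg]
    show Refl.mat T.qf (Refl.siegelG T.qf hu hc) *ᵥ _ = _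
    rw [Refl.mat_siegelG, Refl.siegelMap]
    simp only [← TensorMax.pure_smul_left, hq0, hpol, pure_dot, zero_mul, sub_zero]
    rw [ZM, add_mulVec, one_mulVec, ← mulVec_mulVec, ← mulVec_mulVec, hwap, inc_mulVec, sub_eq_add_neg,
      TensorMax.pure_add_left, ← neg_smul, TensorMax.pure_smul_left, TensorMax.pure_smul_left, add_assoc,
      TensorMax.pure_smul_left]
  -- the orthogonal complement of `x` times the whole second factor
  have hperp : ∀ (x r : α → F) (e f : β → F), T.Pair₂ e f → T.B₁ x r = 0 →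
      pure r f ∈ Refl.zset T.qf K₀ (pure x e) := by
    intro x r e f hp hxr
    by_cases hr0 : r = 0
    · rw [hr0, TensorMax.pure_zero_left]; exact zero_mem _
    obtain ⟨s, hxs, hrs⟩ : ∃ s, T.B₁ x s = 0 ∧ ∀ c : F, s ≠ c • r := by
      by_contra hh
      push Not at hh
      have hle : LinearMap.ker (dotProductBilin F F (T.G₁ *ᵥ x)) ≤ Submodule.span F {r} := fun s hs => by
        obtain ⟨c, hc⟩ := hh s (by rw [B₁_comm, B₁, dotProduct_comm]; exact hs)
        exact Submodule.mem_span_singleton.mpr ⟨c, hc.symm⟩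
      have h1 := Submodule.finrank_mono hle
      have h2 := (dotProductBilin F F (T.G₁ *ᵥ x)).finrank_range_add_finrank_ker
      have h3 := (LinearMap.range (dotProductBilin F F (T.G₁ *ᵥ x))).finrank_le
      rw [finrank_span_singleton hr0] at h1
      rw [Module.finrank_self] at h3
      rw [Module.finrank_pi] at h2
      have := h.card₁
      omega
    obtain ⟨y, hry, hsy⟩ : ∃ y, T.B₁ r y = 0 ∧ T.B₁ s y = 1 := by
      have hli : LinearIndependent F ![T.G₁ *ᵥ r, T.G₁ *ᵥ s] := by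
        rw [LinearIndependent.pair_iff]
        intro a c hac
        rw [← mulVec_smul, ← mulVec_smul, ← mulVec_add] at hac
        have h0 := Matrix.eq_zero_of_mulVec_eq_zero T.det₁ hac
        by_cases hc : c = 0
        · rw [hc, zero_smul, add_zero] at h0
          exact ⟨(smul_eq_zero.mp h0).resolve_right hr0, hc⟩
        · exact absurd (show s = (-(c⁻¹ * a)) • r by
            rw [neg_smul, mul_smul, eq_neg_of_add_eq_zero_left h0, smul_neg, neg_neg, smul_smul, inv_mul_cancel₀ hc,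
              one_smul]) (hrs _)
      let M : Matrix (Fin 2) α F := Matrix.of ![T.G₁ *ᵥ r, T.G₁ *ᵥ s]
      have hrk : M.rank = 2 := by rw [(show LinearIndependent F M.row from hli).rank_matrix, Fintype.card_fin]
      have hsurj : Function.Surjective M.mulVecLin := by
        rw [← LinearMap.range_eq_top]
        exact Submodule.eq_top_of_finrank_eq (by rw [Module.finrank_fin_fun]; exact hrk)
      obtain ⟨y, hy⟩ := hsurj ![0, 1]
      refine ⟨y, ?_, ?_⟩
      · rw [B₁_comm, B₁, dotProduct_comm]; exact congrFun hy 0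
      · rw [B₁_comm, B₁, dotProduct_comm]; exact congrFun hy 1
    obtain ⟨g, hg, eg⟩ := hall f hp.ff (T.wedge r s) (hwsk _ _)
    let gI : Cfsg.isometryGroup F (⇑T.qf) :=
      ⟨g, (Refl.mem_iff T.qf).mpr ((T.isIso_iff_qf h.two _).mp (h.isIso hg))⟩
    have hgK : gI ∈ K₀ := hg
    have h1 := Refl.zset_map (hsame x y e hp.ee) hgK
    have hmap : ∀ v, Refl.mat T.qf gI *ᵥ pure v e = pure v e + pure (T.wedge r s *ᵥ v) f := fun v => by
      show (g : Matrix (α × β) (α × β) F) *ᵥ _ = _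
      rw [eg, ZM, add_mulVec, one_mulVec, ← mulVec_mulVec, ← mulVec_mulVec, pr, ev_mulVec_pure, inc_mulVec,
        dotProduct_comm, ← TForm.B₂, T.B₂_comm, hp.fe, one_smul]
    have hx0 : T.wedge r s *ᵥ x = 0 := by
      rw [hwap, T.B₁_comm s x, hxs, T.B₁_comm r x, hxr, zero_smul, zero_smul, sub_zero]
    rw [hmap, hmap, hx0, TensorMax.pure_zero_left, add_zero, hwap, hry, hsy, one_smul, zero_smul, sub_zero] at h1
    have h2 := sub_mem h1 (hsame x y e hp.ee)
    rwa [add_sub_cancel_left] at h2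
  have hperp' : ∀ (x r : α → F) (e f : β → F), T.Pair₂ e f → T.B₁ x r = 0 → ∀ w : β → F,
      pure r w ∈ Refl.zset T.qf K₀ (pure x e) := by
    intro x r e f hp hxr w
    have hperpw : ∀ z, T.B₂ e z = 0 → T.B₂ f z = 0 → pure r z ∈ Refl.zset T.qf K₀ (pure x e) := by
      intro z hez hfz
      set c := T.B₂ z z / 2 with hc
      have hze : T.B₂ z e = 0 := by rw [B₂_comm]; exact hez
      have hzf : T.B₂ z f = 0 := by rw [B₂_comm]; exact hfz
      have hp' : T.Pair₂ e (f + z - c • e) := by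
        refine ⟨hp.ee, ?_, ?_⟩
        · simp only [B₂_add_left, B₂_add_right, B₂_sub_left, B₂_sub_right, B₂_smul_left, B₂_smul_right, hp.ff, hp.ef,
            hp.fe, hp.ee, hfz, hzf, hez, hze, hc]
          have h2 := h.two
          field_simp
          ring
        · simp only [B₂_add_right, B₂_sub_right, B₂_smul_right, hp.ef, hp.ee, hez, mul_zero, add_zero, sub_zero]
      have h1 := hperp x r e _ hp' hxr
      have h2 := (hperp x r e f hp hxr)
      have h3 := (hsame x (c • r) e hp.ee)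
      rw [TensorMax.pure_smul_left] at h3
      have h4 := add_mem (sub_mem h1 h2) h3
      have hc' : pure r (f + z - c • e) - pure r f + c • pure r e = pure r z := by
        ext ⟨i, k⟩
        simp [TensorMax.pure_apply]
        ring
      rwa [hc'] at h4
    have hw : w = T.B₂ f w • e + T.B₂ e w • f + T.proj₂ e f w := by rw [proj₂]; abel
    rw [hw, TensorMax.pure_add_right, TensorMax.pure_add_right, TensorMax.pure_smul_right, TensorMax.pure_smul_right]
    exact add_mem (add_mem (Submodule.smul_mem _ _ (hsame x r e hp.ee)) (Submodule.smul_mem _ _ (hperp x r e f hp hxr)))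
      (hperpw _ (hp.proj_left w) (hp.proj_right w))
  -- moving the first factor while fixing the complement of the pair
  have hmove : ∀ (x x₁ : α → F) (e f : β → F), T.Pair₂ e f → x ≠ 0 → x₁ ≠ 0 →
      ∃ gI ∈ K₀, Refl.mat T.qf gI *ᵥ pure x₁ e = pure x e ∧
        ∀ r w, T.B₂ e w = 0 → T.B₂ f w = 0 → Refl.mat T.qf gI *ᵥ pure r w = pure r w := by
    intro x x₁ e f hp hx hx₁
    have hskew : ∀ p q : α → F, p ≠ 0 → T.B₁ q p = 0 → ∃ K, T.adjU K = -K ∧ K *ᵥ p = q := by
      intro p q hp0 hqp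
      obtain ⟨s, hs⟩ : ∃ s, T.B₁ s p ≠ 0 := by
        by_contra hh
        push Not at hh
        exact hp0 (T.eq_zero₁ hh)
      refine ⟨T.wedge q ((T.B₁ s p)⁻¹ • s), hwsk _ _, ?_⟩
      rw [hwap, B₁_smul_left, inv_mul_cancel₀ hs, one_smul, hqp, zero_smul, sub_zero]
    obtain ⟨r, hr0, hxr, hx₁r⟩ : ∃ r, r ≠ 0 ∧ T.B₁ r x = 0 ∧ T.B₁ r x₁ = 0 := by
      let M : Matrix (Fin 2) α F := Matrix.of ![T.G₁ *ᵥ x, T.G₁ *ᵥ x₁]
      obtain ⟨r, hr, hr0⟩ := Submodule.exists_mem_ne_zero_of_ne_bot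
        (LinearMap.ker_ne_bot_of_finrank_lt (f := M.mulVecLin) (by
          rw [Module.finrank_pi, Module.finrank_pi, Fintype.card_fin]; exact h.card₁))
      refine ⟨r, hr0, ?_, ?_⟩
      · have := congrFun (LinearMap.mem_ker.mp hr) 0
        rw [B₁, dotProduct_comm]; exact this
      · have := congrFun (LinearMap.mem_ker.mp hr) 1
        rw [B₁, dotProduct_comm]; exact this
    obtain ⟨K₁, hK₁, hK₁r⟩ := hskew x₁ r hx₁ hx₁r
    obtain ⟨K₂, hK₂, hK₂r⟩ := hskew r (x - x₁) hr0 (by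
      rw [B₁_sub_left, T.B₁_comm x r, hxr, T.B₁_comm x₁ r, hx₁r, sub_zero])
    obtain ⟨K₃, hK₃, hK₃r⟩ := hskew x (-r) hx (by rw [B₁_neg_left, hxr, neg_zero])
    obtain ⟨g₁, hg₁, e₁⟩ := hall f hp.ff K₁ hK₁
    obtain ⟨g₂, hg₂, e₂⟩ := hall e hp.ee K₂ hK₂
    obtain ⟨g₃, hg₃, e₃⟩ := hall f hp.ff K₃ hK₃
    have hgX : g₃ * g₂ * g₁ ∈ X := mul_mem (mul_mem hg₃ hg₂) hg₁
    refine ⟨⟨g₃ * g₂ * g₁, (Refl.mem_iff T.qf).mpr ((T.isIso_iff_qf h.two _).mp (h.isIso hgX))⟩, hgX, ?_, ?_⟩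
    · show ((g₃ * g₂ * g₁ : GL (α × β) F) : Matrix (α × β) (α × β) F) *ᵥ _ = _
      rw [Units.val_mul, Units.val_mul, e₁, e₂, e₃, ← mulVec_mulVec, ← mulVec_mulVec]
      simp only [ZM, add_mulVec, one_mulVec, ← mulVec_mulVec, mulVec_add, pr, ev_mulVec_pure, inc_mulVec,
        dotProduct_comm (T.G₂ *ᵥ _), show e ⬝ᵥ T.G₂ *ᵥ e = 0 from hp.ee, show f ⬝ᵥ T.G₂ *ᵥ f = 0 from hp.ff,
        show e ⬝ᵥ T.G₂ *ᵥ f = 1 from hp.ef, show f ⬝ᵥ T.G₂ *ᵥ e = 1 from hp.fe, zero_smul, one_smul, mulVec_zero,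
        TensorMax.pure_zero_left, add_zero, zero_add, hK₁r, hK₂r]
      ext ⟨i, k⟩
      simp only [Pi.add_apply, TensorMax.pure_apply, Pi.sub_apply, Pi.neg_apply]
      have hkey : (K₃ *ᵥ x₁) i + (K₃ *ᵥ (x - x₁)) i = -r i := by
        have := congrFun (show K₃ *ᵥ x₁ + K₃ *ᵥ (x - x₁) = -r by rw [← mulVec_add, add_sub_cancel, hK₃r]) i
        simpa using this
      linear_combination (f k) * hkey
    · intro r' w hew hfw
      show ((g₃ * g₂ * g₁ : GL (α × β) F) : Matrix (α × β) (α × β) F) *ᵥ _ = _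
      rw [Units.val_mul, Units.val_mul, e₁, e₂, e₃, ← mulVec_mulVec, ← mulVec_mulVec]
      have hfix : ∀ (g : β → F) (K : Matrix α α F), T.B₂ g w = 0 → T.ZM g K *ᵥ pure r' w = pure r' w := by
        intro g K hg
        rw [ZM, add_mulVec, one_mulVec, ← mulVec_mulVec, pr, ev_mulVec_pure, dotProduct_comm, ← TForm.B₂, B₂_comm,
          hg, zero_smul, mulVec_zero, add_zero]
      rw [hfix f K₁ hfw, hfix e K₂ hew, hfix f K₃ hfw]
  have hcent : ∀ (x : α → F) (e f : β → F), T.Pair₂ e f → x ≠ 0 → pure x e ∈ Refl.sCentres T.qf K₀ := by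
    intro x e f hp hx
    refine Refl.sCentres_of_zset (by rw [qf_apply, pure_dot_pure, hp.ee, mul_zero, mul_zero]) fun z hz => ?_
    have hU0 : ∀ r w, T.B₂ e w = 0 → T.B₂ f w = 0 → pure r w ∈ Refl.zset T.qf K₀ (pure x e) := by
      intro r w hew hfw
      obtain ⟨x₁, hx₁, hrx₁⟩ : ∃ x₁, x₁ ≠ 0 ∧ T.B₁ x₁ r = 0 := by
        obtain ⟨x₁, hx₁, hx₁0⟩ := Submodule.exists_mem_ne_zero_of_ne_bot
          (LinearMap.ker_ne_bot_of_finrank_lt (f := dotProductBilin F F (T.G₁ *ᵥ r)) (by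
            rw [Module.finrank_self, Module.finrank_pi]; have := h.card₁; omega))
        exact ⟨x₁, hx₁0, by rw [B₁, dotProduct_comm]; exact hx₁⟩
      obtain ⟨gI, hgI, hm, hfix⟩ := hmove x x₁ e f hp hx hx₁
      have h1 := Refl.zset_map (hperp' x₁ r e f hp hrx₁ w) hgI
      rwa [hm, hfix r w hew hfw] at h1
    rw [← one_mulVec z, hp.res, add_mulVec, add_mulVec, sum_mulVec]
    simp only [← mulVec_mulVec, inc_mulVec]
    refine add_mem (add_mem (hsame x _ e hp.ee) (hperp x _ e f hp ?_)) (sum_mem fun k _ => hU0 _ _ (hp.us_left k)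
      (hp.us_right k))
    rw [← pure_dot, ← hpol]
    exact hz
  obtain ⟨e, f, hee, hff, hef⟩ := exists_pair T.symm₂ T.det₂ h.two (by have := h.card₂; omega)
  have hp : T.Pair₂ e f := ⟨hee, hff, hef⟩
  obtain ⟨x, y, hxx, hyy, hxy⟩ := exists_pair T.symm₁ T.det₁ h.two h.card₁
  have hxp : T.Pair₁ x y := ⟨hxx, hyy, hxy⟩
  have hle := DecompGen.omega_le_of_two (T.qf_nondeg h.two) hn (hcent x e f hp hxp.ne)
    (hcent y f e hp.symm hxp.symm.ne) (by rw [hpol, pure_dot_pure, hxp.xy, hp.ef, mul_one]; exact one_ne_zero)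
  intro g hg
  obtain ⟨gI, hgI, rfl⟩ := (Refl.mem_omegaGL T.qf g).mp hg
  exact hle hgI

end TForm

end Cfsg.Lib.Classical.TensorOrth
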