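import Cfsg.Agent.Classical.TensorOrth.Frame
import Cfsg.Agent.Classical.TensorOrth.Geom

/-!
# A non-trivial central part is everything
-/

set_option autoImplicit false
set_option linter.unusedSectionVars false
set_option linter.unusedSimpArgs false

namespace Cfsg.Lib.Classical.TensorOrth

open Matrix
open scoped Kronecker MatrixGroups

universe u

variable {α β : Type} [Fintype α] [DecidableEq α] [Fintype β] [DecidableEq β] {F : Type u} [Field F]

namespace TForm

set_option maxHeartbeats 1000000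

variable (T : TForm α β F)

/-- The skew map `v ↦ B(y, v) x - B(x, v) y`. -/
def wedge (x y : α → F) : Matrix α α F := vecMulVec x (T.G₁ *ᵥ y) - vecMulVec y (T.G₁ *ᵥ x)

theorem wedge_mulVec (x y v : α → F) : T.wedge x y *ᵥ v = T.B₁ y v • x - T.B₁ x v • y := by
  rw [wedge, sub_mulVec, B₁_vec, B₁_vec]

theorem adjU_wedge (x y : α → F) : T.adjU (T.wedge x y) = -T.wedge x y := by
  rw [wedge, adjU_sub, adjU_vecMulVec, adjU_vecMulVec, neg_sub]

theorem wedge_add_left (x x' y : α → F) : T.wedge (x + x') y = T.wedge x y + T.wedge x' y := by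
  simp only [wedge, add_vecMulVec, mulVec_add, vecMulVec_add]
  abel

theorem wedge_add_right (x y y' : α → F) : T.wedge x (y + y') = T.wedge x y + T.wedge x y' := by
  simp only [wedge, add_vecMulVec, mulVec_add, vecMulVec_add]
  abel

theorem wedge_smul_left (c : F) (x y : α → F) : T.wedge (c • x) y = c • T.wedge x y := by
  simp only [wedge, smul_vecMulVec, mulVec_smul, vecMulVec_smul, smul_sub]

theorem wedge_smul_right (c : F) (x y : α → F) : T.wedge x (c • y) = c • T.wedge x y := by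
  simp only [wedge, smul_vecMulVec, mulVec_smul, vecMulVec_smul, smul_sub]

theorem wedge_self (x : α → F) : T.wedge x x = 0 := sub_self _

theorem wedge_comm (x y : α → F) : T.wedge x y = -T.wedge y x := (neg_sub _ _).symm

theorem conj_vec (a : Matrix α α F) (x y : α → F) :
    a * vecMulVec x (T.G₁ *ᵥ y) * T.adjU a = vecMulVec (a *ᵥ x) (T.G₁ *ᵥ (a *ᵥ y)) := by
  rw [mul_vecMulVec, vecMulVec_mul, adjU]
  congr 1
  rw [← mulVec_transpose, transpose_mul, transpose_mul, transpose_transpose, transpose_nonsing_inv, T.symm₁]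
  rw [mulVec_mulVec, Matrix.mul_assoc, Matrix.mul_assoc, T.inv_mul₁, Matrix.mul_one, mulVec_mulVec]

theorem conj_wedge (a : Matrix α α F) (x y : α → F) :
    a * T.wedge x y * T.adjU a = T.wedge (a *ᵥ x) (a *ᵥ y) := by
  rw [wedge, wedge, Matrix.mul_sub, Matrix.sub_mul, conj_vec, conj_vec]

theorem adjU_sie (h2 : (2 : F) ≠ 0) {x z : α → F} (hx : T.B₁ x x = 0) (hz : T.B₁ x z = 0) :
    T.adjU (sie T.G₁ x z) = sie T.G₁ x (-z) := by
  have h : T.adjU (sie T.G₁ x z) * sie T.G₁ x z = 1 := by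
    rw [adjU, Matrix.mul_assoc, Matrix.mul_assoc, ← Matrix.mul_assoc (sie T.G₁ x z)ᵀ,
      sie_isom T.symm₁ h2 hx hz, T.inv_mul₁]
  calc T.adjU (sie T.G₁ x z) = T.adjU (sie T.G₁ x z) * (sie T.G₁ x z * sie T.G₁ x (-z)) := by
        rw [sie_mul_neg T.symm₁ h2 hx hz, Matrix.mul_one]
    _ = sie T.G₁ x (-z) := by rw [← Matrix.mul_assoc, h, Matrix.one_mul]

theorem sie_apply (x z v : α → F) :
    sie T.G₁ x z *ᵥ v = v + T.B₁ z v • x - T.B₁ x v • z - (T.B₁ z z / 2 * T.B₁ x v) • x :=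
  sie_mulVec T.G₁ T.symm₁ x z v

theorem eq_of_mulVec {A B : Matrix α α F} (h : ∀ v, A *ᵥ v = B *ᵥ v) : A = B :=
  Matrix.ext_of_mulVec_single fun j => h _

/-- The orthogonal complement of a pair in the first factor is anisotropic when it is small. -/
def Small₁ : Prop :=
  Fintype.card α = 4 → ∀ x y u : α → F, T.Pair₁ x y → T.B₁ x u = 0 → T.B₁ y u = 0 → T.B₁ u u = 0 → u = 0

variable {T}

theorem Small₁.apply (hU : T.Small₁) (h2 : (2 : F) ≠ 0) (h3 : 3 ≤ Fintype.card α) (h4 : Fintype.card α ≤ 4)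
    {x y u : α → F} (hp : T.Pair₁ x y) (hxu : T.B₁ x u = 0) (hyu : T.B₁ y u = 0) (huu : T.B₁ u u = 0) : u = 0 := by
  rcases Nat.lt_or_ge (Fintype.card α) 4 with h | h
  swap
  · exact hU (le_antisymm h4 h) x y u hp hxu hyu huu
  by_contra hu
  obtain ⟨u', hu'u', huu', hxu', hyu'⟩ := exists_partner_perp T.symm₁ T.det₁ h2 hp.xx hp.yy hp.xy hu huu hxu hyu
  have hli : LinearIndependent F ![x, y, u, u'] := by
    rw [Fintype.linearIndependent_iff]
    intro g hg
    simp only [Fin.sum_univ_four, Matrix.cons_val_zero, Matrix.cons_val_one, Matrix.cons_val] at hg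
    have e0 := congrArg (T.B₁ y) hg
    have e1 := congrArg (T.B₁ x) hg
    have e2 := congrArg (T.B₁ u') hg
    have e3 := congrArg (T.B₁ u) hg
    simp only [B₁_add_right, B₁_smul_right, B₁_zero_right, hp.yx, hp.yy, hp.xy, hp.xx, hxu, hyu, huu,
      T.B₁_comm u x, T.B₁_comm u y, T.B₁_comm u' x, T.B₁_comm u' y, T.B₁_comm u' u, show T.B₁ x u' = 0 from hxu',
      show T.B₁ y u' = 0 from hyu', show T.B₁ u u' = 1 from huu', show T.B₁ u' u' = 0 from hu'u', mul_zero, add_zero,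
      mul_one, zero_add] at e0 e1 e2 e3
    intro i
    fin_cases i <;> assumption
  have := hli.fintype_card_le_finrank
  rw [Module.finrank_pi, Fintype.card_fin] at this
  omega

variable [Fintype F] {X : Subgroup (GL (α × β) F)}

theorem SK.conj {h : T.Over X} {e : β → F} {he : T.B₂ e e = 0} {K : Matrix α α F} (hK : K ∈ SK h e he) {x z : α → F}
    (hx : T.B₁ x x = 0) (hz : T.B₁ x z = 0) : sie T.G₁ x z * K * sie T.G₁ x (-z) ∈ SK h e he := by
  obtain ⟨hKs, g, hg, eg⟩ := hK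
  obtain ⟨k, hk, ek⟩ := h.sie₁_mem hx hz
  refine ⟨?_, k * g * k⁻¹, mul_mem (mul_mem hk hg) (inv_mem hk), ?_⟩
  · rw [← T.adjU_sie h.two hx hz, adjU_mul, adjU_mul, adjU_adjU, hKs, Matrix.neg_mul, Matrix.mul_neg,
      Matrix.mul_assoc]
  · rw [Units.val_mul, Units.val_mul, ek, T.inv_val (h.isIso hk), ek, eg]
    simp only [ZM, Matrix.mul_add, Matrix.add_mul, Matrix.mul_one]
    congr 1
    · rw [adjV_kron, T.adjU_sie h.two hx hz, transpose_one, Matrix.mul_one, T.inv_mul₂, ← mul_kronecker_mul,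
        sie_mul_neg T.symm₁ h.two hx hz, Matrix.mul_one, one_kronecker_one]
    · rw [adjV_kron, T.adjU_sie h.two hx hz, transpose_one, Matrix.mul_one, T.inv_mul₂, pr]
      simp only [← Matrix.mul_assoc, kron_mul_inc, one_mulVec]
      simp only [Matrix.mul_assoc, ev_mul_kron, vecMul_one]

/-- A non-zero central part contains the decomposable element of a singular vector. -/
theorem SK.exists_wedge {h : T.Over X} {e : β → F} {he : T.B₂ e e = 0} (hne : SK h e he ≠ ⊥) {x y : α → F}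
    (hp : T.Pair₁ x y) :
    ∃ u, T.B₁ x u = 0 ∧ T.B₁ y u = 0 ∧ u ≠ 0 ∧ T.wedge x u ∈ SK h e he := by
  classical
  let L : {z : α → F // T.B₁ x z = 0} → Matrix α α F →+ Matrix α α F := fun z =>
    AddMonoidHom.mk' (fun Y => sie T.G₁ x z.1 * Y * sie T.G₁ x (-z.1) - Y) fun a b => by
      rw [Matrix.mul_add, Matrix.add_mul]; abel
  have hcomm : ∀ k l Y, L k (L l Y) = L l (L k Y) := fun k l Y => by
    show sie T.G₁ x k.1 * (sie T.G₁ x l.1 * Y * sie T.G₁ x (-l.1) - Y) * sie T.G₁ x (-k.1) -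
        (sie T.G₁ x l.1 * Y * sie T.G₁ x (-l.1) - Y) =
      sie T.G₁ x l.1 * (sie T.G₁ x k.1 * Y * sie T.G₁ x (-k.1) - Y) * sie T.G₁ x (-l.1) -
        (sie T.G₁ x k.1 * Y * sie T.G₁ x (-k.1) - Y)
    have hneg : ∀ z : α → F, T.B₁ x z = 0 → T.B₁ x (-z) = 0 := fun z hz => by rw [B₁_neg_right, hz, neg_zero]
    have e1 : sie T.G₁ x k.1 * sie T.G₁ x l.1 = sie T.G₁ x l.1 * sie T.G₁ x k.1 := by
      rw [sie_mul T.symm₁ h.two hp.xx k.2 l.2, sie_mul T.symm₁ h.two hp.xx l.2 k.2, add_comm]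
    have e2 : sie T.G₁ x (-l.1) * sie T.G₁ x (-k.1) = sie T.G₁ x (-k.1) * sie T.G₁ x (-l.1) := by
      rw [sie_mul T.symm₁ h.two hp.xx (hneg _ l.2) (hneg _ k.2), sie_mul T.symm₁ h.two hp.xx (hneg _ k.2) (hneg _ l.2),
        add_comm]
    simp only [Matrix.mul_sub, Matrix.sub_mul]
    simp only [Matrix.mul_assoc, e2]
    simp only [← Matrix.mul_assoc, e1]
    abel
  have hne' : ∃ Y ∈ SK h e he, Y ∉ (⊥ : AddSubgroup (Matrix α α F)) := by
    by_contra hh
    push Not at hh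
    exact hne (eq_bot_iff.mpr hh)
  obtain ⟨K, hK, hK0, hfix⟩ := exists_common (SK h e he) ⊥ L
    (fun k Y hY => sub_mem (SK.conj hY hp.xx k.2) hY)
    (fun k Y hY => by rw [AddSubgroup.mem_bot] at hY ⊢; rw [hY, map_zero]) hcomm
    (fun k => conj_sub_nil ⟨3, sie_cube T.symm₁ hp.xx k.2⟩
      ⟨3, sie_cube T.symm₁ hp.xx (show T.B₁ x (-k.1) = 0 by rw [B₁_neg_right, k.2, neg_zero])⟩)
    hne' Finset.univ
  rw [AddSubgroup.mem_bot] at hK0
  have hcz : ∀ z v, T.B₁ x z = 0 → sie T.G₁ x z *ᵥ (K *ᵥ v) = K *ᵥ (sie T.G₁ x z *ᵥ v) := by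
    intro z v hz
    have h1 := hfix ⟨z, hz⟩ (Finset.mem_univ _)
    rw [AddSubgroup.mem_bot] at h1
    have h2 : sie T.G₁ x z * K * sie T.G₁ x (-z) = K := sub_eq_zero.mp h1
    rw [mulVec_mulVec, mulVec_mulVec]
    congr 1
    conv_rhs => rw [← h2]
    rw [Matrix.mul_assoc, Matrix.mul_assoc, sie_neg_mul T.symm₁ h.two hp.xx hz, Matrix.mul_one]
  -- split the condition into its linear and quadratic parts
  have hlin : ∀ z v, T.B₁ x z = 0 →
      T.B₁ z (K *ᵥ v) • x - T.B₁ x (K *ᵥ v) • z = K *ᵥ (T.B₁ z v • x - T.B₁ x v • z) ∧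
        T.B₁ z z • (T.B₁ x (K *ᵥ v) • x) = T.B₁ z z • (T.B₁ x v • (K *ᵥ x)) := by
    intro z v hz
    have h1 := hcz z v hz
    have h2 := hcz (-z) v (by rw [B₁_neg_right, hz, neg_zero])
    simp only [sie_apply, mulVec_add, mulVec_sub, mulVec_smul, mulVec_neg, B₁_neg_left, B₁_neg_right, neg_neg,
      neg_smul, smul_neg, sub_neg_eq_add] at h1 h2 ⊢
    constructor
    · funext i
      have a1 := congrFun h1 i
      have a2 := congrFun h2 i
      simp only [Pi.add_apply, Pi.sub_apply, Pi.neg_apply, Pi.smul_apply, smul_eq_mul] at a1 a2 ⊢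
      refine mul_left_cancel₀ h.two ?_
      linear_combination a1 - a2
    · funext i
      have a1 := congrFun h1 i
      have a2 := congrFun h2 i
      have h2' := h.two
      simp only [Pi.add_apply, Pi.sub_apply, Pi.neg_apply, Pi.smul_apply, smul_eq_mul] at a1 a2 ⊢
      field_simp at a1 a2
      refine mul_left_cancel₀ h.two ?_
      linear_combination (-1 : F) * a1 - a2
  obtain ⟨z₀, hxz₀, hyz₀, hz₀⟩ := exists_aniso_pair T.symm₁ T.det₁ h.two h.card₁ hp.xx hp.yy hp.xy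
  have hq : ∀ v, T.B₁ x (K *ᵥ v) • x = T.B₁ x v • (K *ᵥ x) := fun v =>
    smul_right_injective (α → F) (show T.B₁ z₀ z₀ ≠ 0 from hz₀) (hlin z₀ v hxz₀).2
  have hKx : K *ᵥ x = T.B₁ x (K *ᵥ y) • x := by rw [hq y, hp.xy, one_smul]
  set c := T.B₁ x (K *ᵥ y) with hc
  have hskew : ∀ v w, T.B₁ v (K *ᵥ w) = -T.B₁ (K *ᵥ v) w := fun v w => by
    rw [B₁_adjU, hK.1, neg_mulVec, B₁_neg_left]
  have hc0 : c = 0 := by
    have h1 : T.B₁ x (K *ᵥ y) = -c := by rw [hskew, hKx, B₁_smul_left, hp.xy, mul_one]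
    rw [← hc] at h1
    exact (mul_eq_zero.mp (show (2 : F) * c = 0 by linear_combination h1)).resolve_left h.two
  rw [hc0, zero_smul] at hKx
  have hxK : ∀ v, T.B₁ x (K *ᵥ v) = 0 := fun v => by rw [hskew, hKx, B₁_zero_left, neg_zero]
  have hKU : ∀ v, T.B₁ x v = 0 → T.B₁ y v = 0 → K *ᵥ v = T.B₁ y (K *ᵥ v) • x := by
    intro v hxv hyv
    have hperp : ∀ z, T.B₁ x z = 0 → T.B₁ z (K *ᵥ v) = 0 := by
      intro z hz
      have h1 := (hlin z v hz).1
      simp only [hxK, hxv, zero_smul, sub_zero, mulVec_smul, hKx, smul_zero] at h1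
      exact (smul_eq_zero.mp h1).resolve_right hp.ne
    refine sub_eq_zero.mp (T.eq_zero₁ fun w => ?_)
    rw [hp.decomp w]
    simp only [B₁_add_left, B₁_smul_left, B₁_sub_right, B₁_smul_right, hxK, hp.xx, hp.yx,
      hperp _ (hp.proj_left w), T.B₁_comm (T.proj₁ x y w) x, hp.proj_left w]
    ring
  refine ⟨-(K *ᵥ y), ?_, ?_, ?_, ?_⟩
  · rw [B₁_neg_right, hxK, neg_zero]
  · have h1 := hskew y y
    rw [T.B₁_comm (K *ᵥ y) y] at h1
    rw [B₁_neg_right, (mul_eq_zero.mp (show (2 : F) * T.B₁ y (K *ᵥ y) = 0 by linear_combination h1)).resolve_left h.two,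
      neg_zero]
  · intro h0
    apply hK0
    refine eq_of_mulVec fun v => ?_
    rw [zero_mulVec, hp.decomp v, mulVec_add, mulVec_add, mulVec_smul, mulVec_smul, hKx, neg_eq_zero.mp h0,
      hKU _ (hp.proj_left v) (hp.proj_right v), hskew, neg_eq_zero.mp h0, B₁_zero_left, neg_zero, zero_smul, smul_zero,
      smul_zero, zero_add, add_zero]
  · convert hK using 1
    refine eq_of_mulVec fun v => ?_
    rw [wedge_mulVec]
    conv_rhs => rw [hp.decomp v, mulVec_add, mulVec_add, mulVec_smul, mulVec_smul, hKx,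
      hKU _ (hp.proj_left v) (hp.proj_right v), hskew, smul_zero, zero_add]
    rw [B₁_neg_left, smul_neg, neg_smul, sub_neg_eq_add, add_comm]
    congr 1
    rw [← neg_smul]
    congr 1
    rw [proj₁, B₁_sub_right, B₁_sub_right, B₁_smul_right, B₁_smul_right, T.B₁_comm (K *ᵥ y) x, hxK]
    have h1 := hskew y y
    rw [T.B₁_comm (K *ᵥ y) y] at h1
    rw [T.B₁_comm (K *ᵥ y) y,
      (mul_eq_zero.mp (show (2 : F) * T.B₁ y (K *ᵥ y) = 0 by linear_combination h1)).resolve_left h.two]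
    ring

theorem SK.key {h : T.Over X} {e : β → F} {he : T.B₂ e e = 0} (hU : T.Small₁) (hne : SK h e he ≠ ⊥) {x y : α → F}
    (hp : T.Pair₁ x y) :
      (∀ w, T.B₁ x w = 0 → T.B₁ y w = 0 → T.wedge x w ∈ SK h e he) ∧
        (∀ u z, T.B₁ x u = 0 → T.B₁ y u = 0 → T.B₁ x z = 0 → T.B₁ y z = 0 →
          T.B₁ u z • T.wedge x y - T.wedge z u ∈ SK h e he) := by
  classical
  set S := SK h e he with hS
  -- from one wedge: the odd part of the opposite Siegel elements
  have hf : ∀ u, T.B₁ x u = 0 → T.B₁ y u = 0 → T.wedge x u ∈ S → ∀ z, T.B₁ x z = 0 → T.B₁ y z = 0 →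
      T.B₁ u z • T.wedge x y - T.wedge z u ∈ S := by
    intro u hxu hyu hu z hxz hyz
    have hhalf : (2 : F) * (2 : F)⁻¹ = 1 := mul_inv_cancel₀ h.two
    set z' := (2 : F)⁻¹ • z with hz'
    have hyz' : T.B₁ y z' = 0 := by rw [hz', B₁_smul_right, hyz, mul_zero]
    have hyz'' : T.B₁ y (-z') = 0 := by rw [B₁_neg_right, hyz', neg_zero]
    have h1 := SK.conj hu hp.yy hyz'
    have h2 := SK.conj hu hp.yy hyz''
    rw [← T.adjU_sie h.two hp.yy hyz', conj_wedge] at h1
    rw [← T.adjU_sie h.two hp.yy hyz'', conj_wedge] at h2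
    have hxz' : T.B₁ z' x = 0 := by rw [B₁_comm, hz', B₁_smul_right, hxz, mul_zero]
    convert sub_mem h1 h2 using 1
    have hd1 : sie T.G₁ y z' *ᵥ x = x - z' - (T.B₁ z' z' / 2) • y := by
      rw [sie_apply, hxz', hp.yx, zero_smul, one_smul, mul_one, add_zero]
    have hd2 : sie T.G₁ y (-z') *ᵥ x = x + z' - (T.B₁ z' z' / 2) • y := by
      rw [sie_apply, B₁_neg_left, B₁_neg_left, B₁_neg_right, neg_neg, hxz', hp.yx, neg_zero, zero_smul, one_smul,
        mul_one, add_zero, sub_neg_eq_add]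
    have hu1 : sie T.G₁ y z' *ᵥ u = u + T.B₁ z' u • y := by
      rw [sie_apply, hyu, zero_smul, mul_zero, zero_smul, sub_zero, sub_zero]
    have hu2 : sie T.G₁ y (-z') *ᵥ u = u - T.B₁ z' u • y := by
      rw [sie_apply, hyu, zero_smul, mul_zero, zero_smul, sub_zero, sub_zero, B₁_neg_left, neg_smul, sub_eq_add_neg]
    rw [hd1, hd2, hu1, hu2]
    have hzz : z = (2 : F) • z' := by rw [hz', smul_smul, hhalf, one_smul]
    have hb : T.B₁ u z = 2 * T.B₁ z' u := by rw [hzz, B₁_smul_right, T.B₁_comm u z']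
    rw [hb, hzz]
    simp only [sub_eq_add_neg, wedge_add_left, wedge_add_right, wedge_smul_left, wedge_smul_right, ← neg_smul,
      ← neg_one_smul F z', wedge_self, smul_zero, add_zero, smul_smul]
    ext i j
    simp only [Matrix.add_apply, Matrix.neg_apply, Matrix.smul_apply, smul_eq_mul]
    ring
  -- all wedges of `x`
  obtain ⟨u, hxu, hyu, hu0, hu⟩ := SK.exists_wedge hne hp
  have hg : ∀ z w, T.B₁ x z = 0 → T.B₁ y z = 0 → T.B₁ x w = 0 → T.B₁ y w = 0 →
      T.wedge x (T.B₁ u z • w + T.B₁ w z • u - T.B₁ w u • z) ∈ S := by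
    intro z w hxz hyz hxw hyw
    have h1 := hf u hxu hyu hu z hxz hyz
    have h2 := SK.conj h1 hp.xx hxw
    rw [← T.adjU_sie h.two hp.xx hxw, Matrix.mul_sub, Matrix.sub_mul, Matrix.mul_smul, Matrix.smul_mul,
      conj_wedge, conj_wedge] at h2
    convert sub_mem h1 h2 using 1
    have dx : sie T.G₁ x w *ᵥ x = x := by
      rw [sie_apply, T.B₁_comm w x, hxw, hp.xx]; simp
    have dy : sie T.G₁ x w *ᵥ y = y - w - (T.B₁ w w / 2) • x := by
      rw [sie_apply, T.B₁_comm w y, hyw, hp.xy, zero_smul, one_smul, mul_one, add_zero]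
    have du : sie T.G₁ x w *ᵥ u = u + T.B₁ w u • x := by
      rw [sie_apply, hxu, zero_smul, mul_zero, zero_smul, sub_zero, sub_zero]
    have dz : sie T.G₁ x w *ᵥ z = z + T.B₁ w z • x := by
      rw [sie_apply, hxz, zero_smul, mul_zero, zero_smul, sub_zero, sub_zero]
    rw [dx, dy, du, dz]
    simp only [sub_eq_add_neg, wedge_add_left, wedge_add_right, wedge_smul_left, wedge_smul_right, ← neg_smul,
      ← neg_one_smul F z, ← neg_one_smul F w, wedge_self, smul_zero, add_zero, smul_smul, wedge_comm T z x]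
    ext i j
    simp only [Matrix.add_apply, Matrix.neg_apply, Matrix.smul_apply, smul_eq_mul]
    ring
  have hall : ∀ w, T.B₁ x w = 0 → T.B₁ y w = 0 → T.wedge x w ∈ S := by
    by_cases huu : T.B₁ u u = 0
    swap
    · intro w hxw hyw
      have hw' : T.B₁ x ((T.B₁ u u)⁻¹ • w) = 0 := by rw [B₁_smul_right, hxw, mul_zero]
      have hw'' : T.B₁ y ((T.B₁ u u)⁻¹ • w) = 0 := by rw [B₁_smul_right, hyw, mul_zero]
      have := hg u _ hxu hyu hw' hw''
      rwa [add_sub_cancel_right, smul_smul, mul_inv_cancel₀ huu, one_smul] at this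
    have h5 : 5 ≤ Fintype.card α := by
      by_contra hh
      exact hu0 (hU.apply h.two h.card₁ (by omega) hp hxu hyu huu)
    obtain ⟨v, hvv, huv, hxv, hyv⟩ := exists_partner_perp T.symm₁ T.det₁ h.two hp.xx hp.yy hp.xy hu0 huu hxu hyu
    obtain ⟨a, hxa, hya, hua, hva, haa⟩ := exists_aniso_four T.symm₁ T.det₁ h.two h5 hp.xx hp.yy hp.xy huu hvv huv
      hxu hxv hyu hyv
    have hv' : T.B₁ u v = 1 := huv
    -- an anisotropic wedge
    have ha : T.wedge x a ∈ S := by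
      have := hg v a hxv hyv hxa hya
      rwa [hv', one_smul, show T.B₁ a v = 0 by rw [B₁_comm]; exact hva,
        show T.B₁ a u = 0 by rw [B₁_comm]; exact hua, zero_smul, zero_smul, add_zero, sub_zero] at this
    intro w hxw hyw
    have h1 := hf a hxa hya ha a hxa hya
    set t := (T.B₁ a a)⁻¹ • w with ht
    have hxt : T.B₁ x t = 0 := by rw [ht, B₁_smul_right, hxw, mul_zero]
    have h2 := SK.conj h1 hp.xx hxt
    rw [wedge_self, sub_zero, ← T.adjU_sie h.two hp.xx hxt, Matrix.mul_smul, Matrix.smul_mul, conj_wedge] at h2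
    rw [wedge_self, sub_zero] at h1
    convert sub_mem h1 h2 using 1
    have dx : sie T.G₁ x t *ᵥ x = x := by
      rw [sie_apply, T.B₁_comm t x, hxt, hp.xx]; simp
    have dy : sie T.G₁ x t *ᵥ y = y - t - (T.B₁ t t / 2) • x := by
      rw [sie_apply, T.B₁_comm t y, ht, B₁_smul_right, hyw, mul_zero, hp.xy, zero_smul, one_smul, mul_one, add_zero]
    rw [dx, dy]
    have haa' : T.B₁ a a ≠ 0 := haa
    have hw : w = T.B₁ a a • t := by rw [ht, smul_smul, mul_inv_cancel₀ haa', one_smul]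
    rw [hw]
    simp only [sub_eq_add_neg, wedge_add_right, wedge_smul_right, ← neg_smul, ← neg_one_smul F t, wedge_self,
      smul_zero, add_zero]
    ext i j
    simp only [Matrix.add_apply, Matrix.neg_apply, Matrix.smul_apply, smul_eq_mul]
    ring
  exact ⟨hall, fun u z hxu hyu hxz hyz => hf u hxu hyu (hall u hxu hyu) z hxz hyz⟩

theorem skew_eq_sum (h2 : (2 : F) ≠ 0) {K : Matrix α α F} (hK : T.adjU K = -K) :
    K = ∑ k, T.wedge (K *ᵥ Pi.single k 1) ((2 : F)⁻¹ • (T.G₁⁻¹ *ᵥ Pi.single k 1)) := by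
  have hhalf : (2 : F) * (2 : F)⁻¹ = 1 := mul_inv_cancel₀ h2
  refine eq_of_mulVec fun v => ?_
  have hsd : ∀ w : α → F, ∀ k, T.B₁ (T.G₁⁻¹ *ᵥ Pi.single k 1) w = w k := fun w k => by
    rw [B₁_comm, B₁, mulVec_mulVec, T.mul_inv₁, one_mulVec, dotProduct_single, mul_one]
  have hskew : ∀ k, T.B₁ (K *ᵥ Pi.single k 1) v = -T.B₁ (Pi.single k 1) (K *ᵥ v) := fun k => by
    rw [T.B₁_adjU K, hK, neg_mulVec, B₁_neg_left, neg_neg]
  have hsum : ∀ (A : Matrix α α F) (w : α → F), ∑ k, w k • (A *ᵥ Pi.single k 1) = A *ᵥ w := fun A w => by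
    rw [← (funext fun i => by simp [Finset.sum_apply, Pi.single_apply] :
      ∑ k, w k • (Pi.single k (1 : F) : α → F) = w), mulVec_sum]
    simp only [mulVec_smul]
    refine Finset.sum_congr rfl fun k _ => ?_
    simp [Finset.sum_apply, Pi.single_apply]
  have hB : ∀ k, T.B₁ (Pi.single k 1) (K *ᵥ v) = (T.G₁ *ᵥ (K *ᵥ v)) k := fun k => by
    rw [B₁, single_dotProduct, one_mul]
  rw [sum_mulVec]
  simp only [wedge_mulVec, B₁_smul_left, hsd, hskew, hB, mul_smul, smul_comm _ ((2 : F)⁻¹), neg_smul, smul_neg,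
    sub_neg_eq_add]
  rw [Finset.sum_add_distrib, ← Finset.smul_sum, ← Finset.smul_sum, hsum, hsum, mulVec_mulVec _ T.G₁⁻¹,
    T.inv_mul₁, one_mulVec, ← smul_add, ← two_smul F (K *ᵥ v), smul_smul, mul_comm, hhalf, one_smul]

/-- A non-zero central part is the space of all skew maps. -/
theorem SK.all {h : T.Over X} {e : β → F} {he : T.B₂ e e = 0} (hU : T.Small₁) (hne : SK h e he ≠ ⊥)
    {K : Matrix α α F} (hK : T.adjU K = -K) : K ∈ SK h e he := by
  classical
  set S := SK h e he with hS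
  obtain ⟨x, y, hxx, hyy, hxy⟩ := exists_pair T.symm₁ T.det₁ h.two h.card₁
  -- everything at a pair
  have key := fun x y (hp : T.Pair₁ x y) => SK.key hU hne hp
  have hp : T.Pair₁ x y := ⟨hxx, hyy, hxy⟩
  obtain ⟨k1, k2⟩ := key x y hp
  obtain ⟨k1', -⟩ := key y x hp.symm
  obtain ⟨a, hxa, hya, haa⟩ := exists_aniso_pair T.symm₁ T.det₁ h.two h.card₁ hxx hyy hxy
  have haa' : T.B₁ a a ≠ 0 := haa
  have hc : ∀ c : F, c • T.wedge x y ∈ S := fun c => by
    have hxca : T.B₁ x ((c * (T.B₁ a a)⁻¹) • a) = 0 := by rw [B₁_smul_right, show T.B₁ x a = 0 from hxa, mul_zero]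
    have hyca : T.B₁ y ((c * (T.B₁ a a)⁻¹) • a) = 0 := by rw [B₁_smul_right, show T.B₁ y a = 0 from hya, mul_zero]
    have := k2 _ a hxca hyca hxa hya
    rwa [wedge_smul_right, wedge_self, smul_zero, sub_zero, B₁_smul_left, mul_assoc, inv_mul_cancel₀ haa', mul_one]
      at this
  have huw : ∀ u w, T.B₁ x u = 0 → T.B₁ y u = 0 → T.B₁ x w = 0 → T.B₁ y w = 0 → T.wedge w u ∈ S := by
    intro u w hxu hyu hxw hyw
    have := sub_mem (hc (T.B₁ u w)) (k2 u w hxu hyu hxw hyw)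
    rwa [sub_sub_cancel] at this
  have hw : ∀ v w, T.wedge v w ∈ S := by
    intro v w
    have hs : ∀ (c : F) p, T.B₁ x p = 0 → T.B₁ y p = 0 → T.B₁ x (c • p) = 0 ∧ T.B₁ y (c • p) = 0 :=
      fun c p h1 h2 => ⟨by rw [B₁_smul_right, h1, mul_zero], by rw [B₁_smul_right, h2, mul_zero]⟩
    set p := T.proj₁ x y v
    set r := T.proj₁ x y w
    have hp1 : T.B₁ x p = 0 := hp.proj_left v
    have hp2 : T.B₁ y p = 0 := hp.proj_right v
    have hr1 : T.B₁ x r = 0 := hp.proj_left w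
    have hr2 : T.B₁ y r = 0 := hp.proj_right w
    have m1 : ∀ (c : F) q, T.B₁ x q = 0 → T.B₁ y q = 0 → c • T.wedge x q ∈ S := fun c q h1 h2 => by
      rw [← wedge_smul_right]; exact k1 _ (hs c q h1 h2).1 (hs c q h1 h2).2
    have m2 : ∀ (c : F) q, T.B₁ x q = 0 → T.B₁ y q = 0 → c • T.wedge y q ∈ S := fun c q h1 h2 => by
      rw [← wedge_smul_right]; exact k1' _ (hs c q h1 h2).2 (hs c q h1 h2).1
    have m1' : ∀ (c : F) q, T.B₁ x q = 0 → T.B₁ y q = 0 → c • T.wedge q x ∈ S := fun c q h1 h2 => by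
      rw [wedge_comm, smul_neg]; exact neg_mem (m1 c q h1 h2)
    have m2' : ∀ (c : F) q, T.B₁ x q = 0 → T.B₁ y q = 0 → c • T.wedge q y ∈ S := fun c q h1 h2 => by
      rw [wedge_comm, smul_neg]; exact neg_mem (m2 c q h1 h2)
    have myx : ∀ c : F, c • T.wedge y x ∈ S := fun c => by rw [wedge_comm, smul_neg]; exact neg_mem (hc c)
    rw [hp.decomp v, hp.decomp w]
    have e : T.wedge (T.B₁ y v • x + T.B₁ x v • y + p) (T.B₁ y w • x + T.B₁ x w • y + r) =
        (T.B₁ y v * T.B₁ x w) • T.wedge x y + T.B₁ y v • T.wedge x r + (T.B₁ x v * T.B₁ y w) • T.wedge y x +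
          T.B₁ x v • T.wedge y r + T.B₁ y w • T.wedge p x + T.B₁ x w • T.wedge p y + T.wedge p r := by
      simp only [wedge_add_left, wedge_add_right, wedge_smul_left, wedge_smul_right, wedge_self, smul_zero, zero_add,
        add_zero, smul_smul]
      module
    rw [e]
    exact add_mem (add_mem (add_mem (add_mem (add_mem (add_mem (hc _) (m1 _ _ hr1 hr2)) (myx _)) (m2 _ _ hr1 hr2))
      (m1' _ _ hp1 hp2)) (m2' _ _ hp1 hp2)) (huw _ _ hr1 hr2 hp1 hp2)
  rw [skew_eq_sum h.two hK]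
  exact sum_mem fun k _ => hw _ _

end TForm

end Cfsg.Lib.Classical.TensorOrth
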