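import Cfsg.Agent.Classical.TensorOrth.Base
import Cfsg.Agent.Classical.TensorMax.Root

/-!
# The orthogonal group of the tensor product form, and Siegel elements
-/

set_option autoImplicit false
set_option linter.unusedSectionVars false
set_option linter.unusedSimpArgs false

namespace Cfsg.Lib.Classical.TensorOrth

open Matrix
open scoped Kronecker MatrixGroups
open Cfsg.Lib.Classical.TensorMax (pure IsKron isKron_of_mat)

universe u

section Sie

variable {γ : Type} [Fintype γ] [DecidableEq γ] {F : Type u} [Field F] (G : Matrix γ γ F)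

/-- The Siegel element along `e` and `z` of the form with matrix `G`. -/
def sie (e z : γ → F) : Matrix γ γ F :=
  1 + vecMulVec e (G *ᵥ z) - vecMulVec z (G *ᵥ e) - ((z ⬝ᵥ G *ᵥ z) / 2) • vecMulVec e (G *ᵥ e)

theorem sie_mulVec (hG : Gᵀ = G) (e z x : γ → F) :
    sie G e z *ᵥ x = x + (z ⬝ᵥ G *ᵥ x) • e - (e ⬝ᵥ G *ᵥ x) • z - ((z ⬝ᵥ G *ᵥ z) / 2 * (e ⬝ᵥ G *ᵥ x)) • e := by
  have h : ∀ w : γ → F, (G *ᵥ w) ⬝ᵥ x = w ⬝ᵥ G *ᵥ x := fun w => by
    rw [dotProduct_mulVec, ← mulVec_transpose, hG]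
  simp only [sie, sub_mulVec, add_mulVec, one_mulVec, smul_mulVec, vecMulVec_mulVec, op_smul_eq_smul, h, smul_smul]

theorem sie_zero (e : γ → F) : sie G e 0 = 1 := by
  simp [sie]

variable {G}

theorem sie_fix (hG : Gᵀ = G) {e z x : γ → F} (he : e ⬝ᵥ G *ᵥ x = 0) (hz : z ⬝ᵥ G *ᵥ x = 0) :
    sie G e z *ᵥ x = x := by
  simp [sie_mulVec G hG, he, hz]

theorem sie_mul (hG : Gᵀ = G) (h2 : (2 : F) ≠ 0) {e z z' : γ → F} (hee : e ⬝ᵥ G *ᵥ e = 0) (hez : e ⬝ᵥ G *ᵥ z = 0)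
    (hez' : e ⬝ᵥ G *ᵥ z' = 0) : sie G e z * sie G e z' = sie G e (z + z') := by
  have hc : ∀ a b : γ → F, a ⬝ᵥ G *ᵥ b = b ⬝ᵥ G *ᵥ a := fun a b => by
    rw [dotProduct_mulVec, ← mulVec_transpose, hG, dotProduct_comm]
  refine Matrix.ext_of_mulVec_single fun j => ?_
  rw [← mulVec_mulVec]
  funext i
  simp only [sie_mulVec G hG, mulVec_add, mulVec_sub, mulVec_smul, dotProduct_add, dotProduct_sub, dotProduct_smul,
    add_dotProduct, hee, hez, hez', hc z e, hc z' e, hc z' z, Pi.add_apply, Pi.sub_apply, Pi.smul_apply, smul_eq_mul]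
  field_simp
  ring

theorem sie_mul_neg (hG : Gᵀ = G) (h2 : (2 : F) ≠ 0) {e z : γ → F} (hee : e ⬝ᵥ G *ᵥ e = 0)
    (hez : e ⬝ᵥ G *ᵥ z = 0) : sie G e z * sie G e (-z) = 1 := by
  rw [sie_mul hG h2 hee hez (by rw [mulVec_neg, dotProduct_neg, hez, neg_zero]), add_neg_cancel, sie_zero]

theorem sie_neg_mul (hG : Gᵀ = G) (h2 : (2 : F) ≠ 0) {e z : γ → F} (hee : e ⬝ᵥ G *ᵥ e = 0)
    (hez : e ⬝ᵥ G *ᵥ z = 0) : sie G e (-z) * sie G e z = 1 := by
  rw [sie_mul hG h2 hee (by rw [mulVec_neg, dotProduct_neg, hez, neg_zero]) hez, neg_add_cancel, sie_zero]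

theorem sie_isom (hG : Gᵀ = G) (h2 : (2 : F) ≠ 0) {e z : γ → F} (hee : e ⬝ᵥ G *ᵥ e = 0)
    (hez : e ⬝ᵥ G *ᵥ z = 0) : (sie G e z)ᵀ * G * sie G e z = G := by
  have hv : ∀ w : γ → F, w ᵥ* G = G *ᵥ w := fun w => by rw [← mulVec_transpose, hG]
  have h : (sie G e z)ᵀ * G = G * sie G e (-z) := by
    simp only [sie, transpose_sub, transpose_add, transpose_one, transpose_smul, transpose_vecMulVec, sub_mul,
      add_mul, one_mul, mul_sub, mul_add, mul_one, Matrix.smul_mul, Matrix.mul_smul, mul_vecMulVec, vecMulVec_mul, hv,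
      mulVec_neg, vecMulVec_neg, neg_vecMulVec, mul_neg, dotProduct_neg, neg_dotProduct, neg_neg]
    abel
  rw [h, Matrix.mul_assoc, sie_neg_mul hG h2 hee hez, Matrix.mul_one]

theorem sie_cube (hG : Gᵀ = G) {e z : γ → F} (hee : e ⬝ᵥ G *ᵥ e = 0) (hez : e ⬝ᵥ G *ᵥ z = 0) :
    (sie G e z - 1) ^ 3 = 0 := by
  have hc : z ⬝ᵥ G *ᵥ e = 0 := by rw [dotProduct_mulVec, ← mulVec_transpose, hG, dotProduct_comm]; exact hez
  refine Matrix.ext_of_mulVec_single fun j => ?_
  rw [pow_succ, pow_two, ← mulVec_mulVec, ← mulVec_mulVec, zero_mulVec]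
  funext i
  simp only [sub_mulVec, one_mulVec, sie_mulVec G hG, mulVec_add, mulVec_sub, mulVec_smul, dotProduct_add,
    dotProduct_sub, dotProduct_smul, hee, hez, hc, Pi.add_apply, Pi.sub_apply, Pi.smul_apply, smul_eq_mul, Pi.zero_apply]
  ring

theorem sie_det_ne (hG : Gᵀ = G) (h2 : (2 : F) ≠ 0) {e z : γ → F} (hee : e ⬝ᵥ G *ᵥ e = 0)
    (hez : e ⬝ᵥ G *ᵥ z = 0) : (sie G e z).det ≠ 0 := fun h => by
  have := congrArg Matrix.det (sie_mul_neg hG h2 hee hez)
  rw [det_mul, h, zero_mul, det_one] at this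
  exact zero_ne_one this

end Sie

variable {α β : Type} [Fintype α] [DecidableEq α] [Fintype β] [DecidableEq β] {F : Type u} [Field F]

namespace TForm

variable (T : TForm α β F)

/-- The quadratic form of the tensor product form. -/
noncomputable def qf : QuadraticForm F (α × β → F) :=
  LinearMap.BilinMap.toQuadraticMap (Matrix.toLinearMap₂' F ((2 : F)⁻¹ • T.G) : LinearMap.BilinMap F (α × β → F) F)

theorem qf_apply (x : α × β → F) : T.qf x = (2 : F)⁻¹ * (x ⬝ᵥ T.G *ᵥ x) := by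
  rw [qf, LinearMap.BilinMap.toQuadraticMap_apply, Matrix.toLinearMap₂'_apply', smul_mulVec, dotProduct_smul,
    smul_eq_mul]

theorem G_comm (x y : α × β → F) : x ⬝ᵥ T.G *ᵥ y = y ⬝ᵥ T.G *ᵥ x := by
  rw [dotProduct_mulVec, ← mulVec_transpose, T.G_symm, dotProduct_comm]

theorem qf_polar (h2 : (2 : F) ≠ 0) (x y : α × β → F) : QuadraticMap.polar (⇑T.qf) x y = x ⬝ᵥ T.G *ᵥ y := by
  simp only [QuadraticMap.polar, qf_apply, mulVec_add, dotProduct_add, add_dotProduct, T.G_comm y x]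
  field_simp
  ring

theorem qf_nondeg (h2 : (2 : F) ≠ 0) : (QuadraticMap.polarBilin T.qf).Nondegenerate := by
  have key : ∀ v, (∀ y, QuadraticMap.polar (⇑T.qf) y v = 0) → v = 0 := fun v hv =>
    Matrix.eq_zero_of_mulVec_eq_zero T.G_det (dotProduct_eq_zero _ fun z => by
      rw [dotProduct_comm, ← T.qf_polar h2]; exact hv z)
  exact ⟨fun v hv => key v fun y => by rw [QuadraticMap.polar_comm]; exact hv y, fun v hv => key v hv⟩

theorem isIso_iff_qf (h2 : (2 : F) ≠ 0) (g : Matrix (α × β) (α × β) F) :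
    T.IsIso g ↔ ∀ v, T.qf (g *ᵥ v) = T.qf v := by
  rw [isIso_iff]
  constructor
  · intro h v
    rw [qf_apply, qf_apply, mulVec_mulVec, dotProduct_mulVec (g *ᵥ v), ← vecMul_transpose g v, vecMul_vecMul,
      ← Matrix.mul_assoc, h, ← dotProduct_mulVec]
  · intro h
    refine Matrix.ext fun i j => ?_
    have hp : QuadraticMap.polar (⇑T.qf) (g *ᵥ Pi.single i 1) (g *ᵥ Pi.single j 1) =
        QuadraticMap.polar (⇑T.qf) (Pi.single i (1 : F)) (Pi.single j 1) := by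
      simp only [QuadraticMap.polar, ← mulVec_add, h]
    rw [T.qf_polar h2, T.qf_polar h2, mulVec_mulVec, dotProduct_mulVec, ← vecMul_transpose, vecMul_vecMul,
      ← Matrix.mul_assoc, ← dotProduct_mulVec] at hp
    simpa [mulVec_single_one] using hp

/-- An isometry as an invertible matrix. -/
noncomputable def toGL (g : Matrix (α × β) (α × β) F) (h : T.IsIso g) : GL (α × β) F :=
  ⟨g, T.adjV g, mul_eq_one_comm.mp h, h⟩

theorem toGL_val (g : Matrix (α × β) (α × β) F) (h : T.IsIso g) : (T.toGL g h : Matrix (α × β) (α × β) F) = g := rfl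

theorem inv_val {g : GL (α × β) F} (h : T.IsIso (g : Matrix (α × β) (α × β) F)) :
    ((g⁻¹ : GL (α × β) F) : Matrix (α × β) (α × β) F) = T.adjV g := by
  rw [Matrix.coe_units_inv]
  exact Matrix.inv_eq_left_inv h

theorem isIso_kron {a : Matrix α α F} {b : Matrix β β F} (ha : aᵀ * T.G₁ * a = T.G₁) (hb : bᵀ * T.G₂ * b = T.G₂) :
    T.IsIso (a ⊗ₖ b) := by
  rw [isIso_iff, ← kroneckerMap_transpose, G, ← mul_kronecker_mul, ← mul_kronecker_mul, ha, hb]

variable [Fintype F]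

theorem omega_isIso (h2 : (2 : F) ≠ 0) {g : GL (α × β) F} (hg : g ∈ Cfsg.Geo.omegaGL (⇑T.qf)) :
    T.IsIso (g : Matrix (α × β) (α × β) F) := (T.isIso_iff_qf h2 _).mpr fun v => OrthEl.omega_isom hg v

/-- Unipotent isometries lie in `Ω`. -/
theorem unip_mem_omega (h2 : (2 : F) ≠ 0) (hn : 6 ≤ Fintype.card (α × β)) {g : GL (α × β) F}
    (hg : T.IsIso (g : Matrix (α × β) (α × β) F)) (h3 : ((g : Matrix (α × β) (α × β) F) - 1) ^ 3 = 0) :
    g ∈ Cfsg.Geo.omegaGL (⇑T.qf) := by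
  classical
  haveI : Nonempty (α × β) := Fintype.card_pos_iff.mp (by omega)
  let p := ringChar F
  haveI : Fact p.Prime := ⟨CharP.char_is_prime F p⟩
  haveI : CharP (Matrix (α × β) (α × β) F) p := Matrix.charP p
  have hp : p ≠ 2 := fun h => h2 (by
    have := CharP.cast_eq_zero F p
    rw [h] at this
    exact_mod_cast this)
  refine OrthEl.mem_omega_odd_order (T.qf_nondeg h2) hn g ((T.isIso_iff_qf h2 _).mp hg)
    (r := p ^ 2) (((Fact.out : p.Prime).odd_of_ne_two hp).pow) (Units.ext ?_)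
  have h9 : 3 ≤ p ^ 2 := le_trans (by norm_num) (Nat.pow_le_pow_left (Fact.out : p.Prime).two_le 2)
  have := sub_pow_char_pow_of_commute p 2 (Commute.one_right (g : Matrix (α × β) (α × β) F))
  rw [pow_eq_zero_of_le h9 h3, one_pow, eq_comm, sub_eq_zero] at this
  rw [Units.val_pow_eq_pow_val, this, Units.val_one]

/-- No singular vector is orthogonal to a hyperbolic pair of the second factor. -/
def Small₂ : Prop :=
  ∀ e f z : β → F, T.B₂ e e = 0 → T.B₂ e f = 1 → T.B₂ e z = 0 → T.B₂ f z = 0 → T.B₂ z z = 0 → z = 0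

/-- A group between the stabiliser of the tensor decomposition in `Ω`, and `Ω`. -/
structure Over (X : Subgroup (GL (α × β) F)) : Prop where
  two : (2 : F) ≠ 0
  card₁ : 3 ≤ Fintype.card α
  card₂ : 3 ≤ Fintype.card β
  small₂ : 5 ≤ Fintype.card β ∨ (5 ≤ Fintype.card F ∧ T.Small₂)
  le : X ≤ Cfsg.Geo.omegaGL (⇑T.qf)
  kron : ∀ g, IsKron g → g ∈ Cfsg.Geo.omegaGL (⇑T.qf) → g ∈ X

variable {T} {X : Subgroup (GL (α × β) F)}

theorem Over.isIso (h : T.Over X) {g : GL (α × β) F} (hg : g ∈ X) : T.IsIso (g : Matrix (α × β) (α × β) F) :=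
  T.omega_isIso h.two (h.le hg)

theorem Over.card_six (h : T.Over X) : 6 ≤ Fintype.card (α × β) := by
  rw [Fintype.card_prod]
  exact le_trans (by norm_num) (Nat.mul_le_mul h.card₁ h.card₂)

/-- Siegel elements of the second factor lie in `X`. -/
theorem Over.sie₂_mem (h : T.Over X) {e z : β → F} (he : T.B₂ e e = 0) (hz : T.B₂ e z = 0) :
    ∃ g ∈ X, (g : Matrix (α × β) (α × β) F) = (1 : Matrix α α F) ⊗ₖ sie T.G₂ e z := by
  haveI : Nonempty α := Fintype.card_pos_iff.mp (by have := h.card₁; omega)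
  haveI : Nonempty β := Fintype.card_pos_iff.mp (by have := h.card₂; omega)
  have hiso : T.IsIso ((1 : Matrix α α F) ⊗ₖ sie T.G₂ e z) :=
    T.isIso_kron (by rw [transpose_one, Matrix.one_mul, Matrix.mul_one]) (sie_isom T.symm₂ h.two he hz)
  refine ⟨T.toGL _ hiso, h.kron _ (isKron_of_mat _ _ _ (T.toGL_val _ hiso))
    (T.unip_mem_omega h.two h.card_six hiso ?_), T.toGL_val _ hiso⟩
  rw [toGL_val, show (1 : Matrix α α F) ⊗ₖ sie T.G₂ e z - 1 = (1 : Matrix α α F) ⊗ₖ (sie T.G₂ e z - 1) by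
    rw [sub_eq_iff_eq_add, ← one_kronecker_one (m := α) (n := β), ← kronecker_add, sub_add_cancel],
    TensorMax.kron_pow, sie_cube T.symm₂ he hz, kroneckerMap_zero_right _ (fun a => mul_zero a)]

/-- Siegel elements of the first factor lie in `X`. -/
theorem Over.sie₁_mem (h : T.Over X) {e z : α → F} (he : T.B₁ e e = 0) (hz : T.B₁ e z = 0) :
    ∃ g ∈ X, (g : Matrix (α × β) (α × β) F) = sie T.G₁ e z ⊗ₖ (1 : Matrix β β F) := by
  haveI : Nonempty α := Fintype.card_pos_iff.mp (by have := h.card₁; omega)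
  haveI : Nonempty β := Fintype.card_pos_iff.mp (by have := h.card₂; omega)
  have hiso : T.IsIso (sie T.G₁ e z ⊗ₖ (1 : Matrix β β F)) :=
    T.isIso_kron (sie_isom T.symm₁ h.two he hz) (by rw [transpose_one, Matrix.one_mul, Matrix.mul_one])
  refine ⟨T.toGL _ hiso, h.kron _ (isKron_of_mat _ _ _ (T.toGL_val _ hiso))
    (T.unip_mem_omega h.two h.card_six hiso ?_), T.toGL_val _ hiso⟩
  rw [toGL_val, show sie T.G₁ e z ⊗ₖ (1 : Matrix β β F) - 1 = (sie T.G₁ e z - 1) ⊗ₖ (1 : Matrix β β F) by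
    rw [sub_eq_iff_eq_add, ← one_kronecker_one (m := α) (n := β), ← add_kronecker, sub_add_cancel],
    TensorMax.kron_pow, sie_cube T.symm₁ he hz, kroneckerMap_zero_left _ (fun a => zero_mul a)]

end TForm

end Cfsg.Lib.Classical.TensorOrth
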