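import Cfsg.Agent.Classical.TensorOrth.Avg
import Cfsg.Agent.Classical.TensorMax.Main

/-!
# The stabiliser of an orthogonal tensor decomposition is maximal in `Ω`
-/

set_option autoImplicit false
set_option linter.unusedSectionVars false
set_option linter.unusedSimpArgs false
set_option linter.style.haveILetI false

namespace Cfsg.Lib.Classical.TensorOrth

open Matrix
open scoped Kronecker MatrixGroups
open Cfsg.Lib.Classical.TensorMax (pure pure_apply pure_ne_zero pure_zero_left pure_zero_right pure_smul_left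
  pure_smul_right pureL pureR pureR_injective IsKron isKron_of_mat)

universe u

variable {α β : Type} [Fintype α] [DecidableEq α] [Fintype β] [DecidableEq β] {F : Type u} [Field F]

/-- A vector with vanishing minors is pure. -/
theorem pure_of_minors {x : α × β → F} (h : ∀ i i' k k', x (i, k) * x (i', k') = x (i', k) * x (i, k')) :
    ∃ v w, x = pure v w := by
  by_cases hx : x = 0
  · exact ⟨0, 0, by rw [hx, pure_zero_left]⟩
  obtain ⟨⟨i₀, k₀⟩, hne⟩ := Function.ne_iff.mp hx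
  simp only [Pi.zero_apply] at hne
  refine ⟨fun i => x (i, k₀) / x (i₀, k₀), fun k => x (i₀, k), funext fun ⟨i, k⟩ => ?_⟩
  rw [pure_apply, div_mul_eq_mul_div, eq_div_iff hne]
  linear_combination h i i₀ k k₀

/-- The Kronecker products. -/
def kronSub (α β : Type) [Fintype α] [DecidableEq α] [Fintype β] [DecidableEq β] (F : Type u) [Field F] :
    Subgroup (GL (α × β) F) where
  carrier := {g | IsKron g}
  one_mem' := ⟨1, 1, by rw [Units.val_one, Units.val_one, Units.val_one, one_kronecker_one]⟩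
  mul_mem' := fun ha hb => IsKron.mul ha hb
  inv_mem' := fun {g} ⟨a, b, hab⟩ => ⟨a⁻¹, b⁻¹, by
    rw [Matrix.coe_units_inv, Matrix.coe_units_inv, Matrix.coe_units_inv, hab, inv_kronecker]⟩

theorem mem_kronSub {g : GL (α × β) F} : g ∈ kronSub α β F ↔ IsKron g := Iff.rfl

namespace TForm

variable [Fintype F] {T : TForm α β F} {X : Subgroup (GL (α × β) F)}

/-- In the scalar case elements of `X` preserve pure tensors. -/
theorem pure_map (h : T.Over X) (hK : T.StabKron X) (hlt : Fintype.card α < Fintype.card β) {g : GL (α × β) F}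
    (hg : g ∈ X) (v : α → F) (z : β → F) :
    ∃ v' z', (g : Matrix (α × β) (α × β) F) *ᵥ pure v z = pure v' z' := by
  set M : Matrix (α × β) (α × β) F := (g : Matrix (α × β) (α × β) F) with hM
  have hdot : ∀ a b, (M *ᵥ a) ⬝ᵥ T.G *ᵥ (M *ᵥ b) = a ⬝ᵥ T.G *ᵥ b := fun a b => by
    rw [mulVec_mulVec, dotProduct_mulVec (M *ᵥ a), ← vecMul_transpose M a, vecMul_vecMul, ← Matrix.mul_assoc,
      (T.isIso_iff M).mp (h.isIso hg), ← dotProduct_mulVec]
  have hsurj : ∀ y, ∃ y', M *ᵥ y' = y := fun y => ⟨((g⁻¹ : GL (α × β) F) : Matrix (α × β) (α × β) F) *ᵥ y, by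
    rw [hM, mulVec_mulVec, ← Units.val_mul, mul_inv_cancel, Units.val_one, one_mulVec]⟩
  refine pure_of_minors (T.pure_of_mu fun Y w => ?_)
  obtain ⟨Y', rfl⟩ := hsurj Y
  obtain ⟨w', rfl⟩ := hsurj w
  rw [hdot, hdot, ← T.mu_pure _ Y' w' rfl, ← mu_invariant h hK hlt hg ![pure v z, Y', pure v z, w']]
  congr 1
  funext j
  fin_cases j <;> rfl

/-- In the scalar case `X` consists of Kronecker products. -/
theorem kron_of_stabKron (h : T.Over X) (hK : T.StabKron X) (hlt : Fintype.card α < Fintype.card β) {g : GL (α × β) F}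
    (hg : g ∈ X) : IsKron g := by
  classical
  haveI : Nonempty α := Fintype.card_pos_iff.mp (by have := h.card₁; omega)
  haveI : Nonempty β := Fintype.card_pos_iff.mp (by have := h.card₂; omega)
  obtain ⟨e, f, hee, hff, hef⟩ := exists_pair T.symm₂ T.det₂ h.two (by have := h.card₂; omega)
  have hp : T.Pair₂ e f := ⟨hee, hff, hef⟩
  set G : Matrix (α × β) (α × β) F := (g : Matrix (α × β) (α × β) F) with hG
  have hinj : ∀ z, G *ᵥ z = 0 → z = 0 := fun z hz => by
    rw [← one_mulVec z, ← Units.val_one, ← inv_mul_cancel g, Units.val_mul, ← mulVec_mulVec, ← hG, hz, mulVec_zero]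
  have himg := pure_map h hK hlt hg
  obtain ⟨k₀, hk₀⟩ := Function.ne_iff.mp hp.ne
  simp only [Pi.zero_apply] at hk₀
  obtain ⟨i₀⟩ := ‹Nonempty α›
  have hi₀ : (Pi.single i₀ (1 : F) : α → F) ≠ 0 := by simp
  let L : (α → F) →ₗ[F] (α × β → F) := G.mulVecLin.comp (pureL e)
  rcases TensorMax.pure_space L (fun v => himg v e) with ⟨w', hw'⟩ | ⟨v', hv'⟩
  · have hw'0 : w' ≠ 0 := by
      rintro rfl
      obtain ⟨v, hv⟩ := hw' (Pi.single i₀ 1)
      change G *ᵥ pure (Pi.single i₀ 1) e = pure v 0 at hv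
      rw [pure_zero_right] at hv
      exact pure_ne_zero hi₀ hp.ne (hinj _ hv)
    obtain ⟨k₁, hk₁⟩ := Function.ne_iff.mp hw'0
    simp only [Pi.zero_apply] at hk₁
    refine kron_of_image h hK hg hp.ne hp.ee (y := w')
      (A := ev α (Pi.single k₁ (w' k₁)⁻¹) * (G * inc α e)) (Matrix.ext_of_mulVec_single fun j => ?_)
    obtain ⟨v, hv⟩ := hw' (Pi.single j 1)
    change G *ᵥ pure (Pi.single j 1) e = pure v w' at hv
    simp only [← mulVec_mulVec, inc_mulVec, ← hG, hv, ev_mulVec_pure, single_dotProduct,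
      inv_mul_cancel₀ hk₁, one_smul]
  exfalso
  obtain ⟨i₁, hi₁⟩ := Fintype.exists_ne_of_one_lt_card (α := α) (by have := h.card₁; omega) i₀
  let S : (β → F) →ₗ[F] (α × β → F) := G.mulVecLin.comp (pureR (Pi.single i₀ 1))
  have hSinj : ∀ z, S z = 0 → z = 0 := fun z hz =>
    pureR_injective hi₀ ((hinj _ hz).trans (map_zero (pureR (β := β) (Pi.single i₀ (1 : F) : α → F))).symm)
  obtain ⟨z₁, hz₁⟩ := hv' (Pi.single i₀ 1)
  change G *ᵥ pure (Pi.single i₀ 1) e = pure v' z₁ at hz₁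
  have hz₁0 : z₁ ≠ 0 := by
    rintro rfl
    rw [pure_zero_right] at hz₁
    exact pure_ne_zero hi₀ hp.ne (hinj _ hz₁)
  rcases TensorMax.pure_space S (fun z => himg _ z) with ⟨w'', hw''⟩ | ⟨v'', hv''⟩
  · have hle : LinearMap.range S ≤ LinearMap.range (pureL (α := α) w'') := by
      rintro _ ⟨z, rfl⟩
      obtain ⟨v, hv⟩ := hw'' z
      exact ⟨v, hv.symm⟩
    have h1 := (Submodule.finrank_mono hle).trans (LinearMap.finrank_range_le _)
    rw [LinearMap.finrank_range_of_inj (by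
      rw [← LinearMap.ker_eq_bot, LinearMap.ker_eq_bot']; exact hSinj), Module.finrank_pi, Module.finrank_pi] at h1
    omega
  · obtain ⟨s, hs⟩ := hv'' e
    change G *ᵥ pure (Pi.single i₀ 1) e = pure v'' s at hs
    rw [hz₁] at hs
    obtain ⟨k, hk⟩ := Function.ne_iff.mp hz₁0
    simp only [Pi.zero_apply] at hk
    have hv''eq : v' = (s k / z₁ k) • v'' := funext fun a => by
      have := congrFun hs (a, k)
      rw [pure_apply, pure_apply] at this
      rw [Pi.smul_apply, smul_eq_mul, div_mul_eq_mul_div, eq_div_iff hk, this, mul_comm]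
    have hle : LinearMap.range S ≤ LinearMap.range (pureR (β := β) v'') := by
      rintro _ ⟨z, rfl⟩
      obtain ⟨w, hw⟩ := hv'' z
      exact ⟨w, hw.symm⟩
    have heq : LinearMap.range S = LinearMap.range (pureR (β := β) v'') := by
      refine Submodule.eq_of_le_of_finrank_le hle ((LinearMap.finrank_range_le _).trans ?_)
      rw [LinearMap.finrank_range_of_inj (by
        rw [← LinearMap.ker_eq_bot, LinearMap.ker_eq_bot']; exact hSinj)]
    obtain ⟨z₂, hz₂⟩ := hv' (Pi.single i₁ 1)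
    change G *ᵥ pure (Pi.single i₁ 1) e = pure v' z₂ at hz₂
    have hmem : pure v' z₂ ∈ LinearMap.range S := by
      rw [heq]
      exact ⟨(s k / z₁ k) • z₂, by
        show pure v'' _ = _
        rw [hv''eq, pure_smul_left, pure_smul_right]⟩
    obtain ⟨z, hz⟩ := hmem
    change G *ᵥ pure (Pi.single i₀ 1) z = pure v' z₂ at hz
    rw [← hz₂] at hz
    have hsame := sub_eq_zero.mp (hinj (pure (Pi.single i₀ 1) z - pure (Pi.single i₁ 1) e)
      (by rw [mulVec_sub, hz, sub_self]))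
    have := congrFun hsame (i₁, k₀)
    rw [pure_apply, pure_apply, Pi.single_eq_of_ne hi₁, zero_mul, Pi.single_eq_same, one_mul] at this
    exact hk₀ this.symm

/-- The Kronecker products in `Ω` form a maximal subgroup. -/
theorem isMaximalIn (T : TForm α β F) (h2 : (2 : F) ≠ 0) (h3 : 3 ≤ Fintype.card α) (h4 : 4 ≤ Fintype.card β)
    (hs₂ : 5 ≤ Fintype.card β ∨ (5 ≤ Fintype.card F ∧ T.Small₂))
    (hlt : Fintype.card α < Fintype.card β) (hU : T.Small₁) (hq : Fintype.card α = 3 → Fintype.card F ≠ 3) :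
    Cfsg.Geo.IsMaximalIn (Cfsg.Geo.omegaGL (⇑T.qf)) (kronSub α β F ⊓ Cfsg.Geo.omegaGL (⇑T.qf)) := by
  refine ⟨lt_of_le_of_ne inf_le_right fun hEq => ?_, fun M h₁ h₂ => ?_⟩
  · obtain ⟨e, f, hee, hff, hef⟩ := exists_pair T.symm₂ T.det₂ h2 (by omega)
    obtain ⟨x, y, hxx, hyy, hxy⟩ := exists_pair T.symm₁ T.det₁ h2 h3
    obtain ⟨z, hxz, hyz, hzz⟩ := exists_aniso_pair T.symm₁ T.det₁ h2 h3 hxx hyy hxy
    have hp : T.Pair₂ e f := ⟨hee, hff, hef⟩
    have hiso : T.IsIso (T.ZM e (T.wedge x z)) := ZM_iso hp.ee (T.adjU_wedge x z)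
    have hcard : 6 ≤ Fintype.card (α × β) := by
      rw [Fintype.card_prod]
      exact le_trans (by norm_num) (Nat.mul_le_mul h3 h4)
    have hmem : T.toGL _ hiso ∈ kronSub α β F ⊓ Cfsg.Geo.omegaGL (⇑T.qf) := by
      rw [hEq]
      exact T.unip_mem_omega h2 hcard hiso (by rw [toGL_val]; exact ZM_cube hp.ee _)
    obtain ⟨v', w', e₀⟩ := (mem_kronSub.mp hmem.1).mulVec_pure y f
    have hKy : T.wedge x z *ᵥ y = -z := by
      rw [wedge_mulVec, show T.B₁ z y = 0 by rw [B₁_comm]; exact hyz, show T.B₁ x y = 1 from hxy, zero_smul,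
        one_smul, zero_sub]
    rw [toGL_val, ZM, add_mulVec, one_mulVec, ← mulVec_mulVec, ← mulVec_mulVec, pr, ev_mulVec_pure,
      dotProduct_comm, show f ⬝ᵥ T.G₂ *ᵥ e = 1 from hp.fe, one_smul, hKy, inc_mulVec] at e₀
    have hy0 : y ≠ 0 := fun h0 => by
      rw [h0, mulVec_zero, dotProduct_zero] at hxy
      exact zero_ne_one hxy
    rcases TensorMax.shared_of_sum hy0 hp.symm.ne e₀ with ⟨c, hc⟩ | ⟨c, hc⟩
    · refine hzz ?_
      rw [neg_eq_iff_eq_neg] at hc
      rw [hc, mulVec_neg, dotProduct_neg, neg_dotProduct, neg_neg, mulVec_smul, dotProduct_smul, smul_dotProduct,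
        show y ⬝ᵥ T.G₁ *ᵥ y = 0 from hyy, smul_zero, smul_zero]
    · have := hp.ef
      rw [hc, B₂_smul_left, hp.ff, mul_zero] at this
      exact zero_ne_one this
  · have hX : T.Over M := ⟨h2, h3, by omega, hs₂, h₂, fun g hk ho => h₁ ⟨hk, ho⟩⟩
    rcases omega_le_or_stab hX hU hq with hA | hA
    · exact Or.inr (le_antisymm h₂ hA)
    · exact Or.inl (le_antisymm (fun g hg => ⟨kron_of_stabKron hX hA hlt hg, h₂ hg⟩) h₁)

end TForm

end Cfsg.Lib.Classical.TensorOrth
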