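import Cfsg.Agent.Classical.TensorOrth.Stab
import Cfsg.Agent.Classical.TensorOrth.Big

/-!
# A conjugate of a root element lies in the tensor stabiliser only for the obvious reason
-/

set_option autoImplicit false
set_option linter.unusedSectionVars false
set_option linter.unusedSimpArgs false
set_option linter.style.haveILetI false

namespace Cfsg.Lib.Classical.TensorOrth

open Matrix
open scoped Kronecker MatrixGroups
open Cfsg.Lib.Classical.TensorMax (pure IsKron isKron_of_mat)

universe u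

variable {α β : Type} [Fintype α] [DecidableEq α] [Fintype β] [DecidableEq β] {F : Type u} [Field F]

section Kernel

/-- A nilpotent map with an invariant subspace covering its cokernel is contained in it. -/
theorem top_of_cover {N : Matrix α α F} (hN : IsNilpotent N) (S : Submodule F (α → F))
    (hS : ∀ y ∈ S, N *ᵥ y ∈ S) (hcov : ∀ y, ∃ s ∈ S, ∃ x, y = s + N *ᵥ x) : S = ⊤ := by
  have key : ∀ k : ℕ, ∀ y, ∃ s ∈ S, ∃ x, y = s + N ^ k *ᵥ x := by
    intro k
    induction k with
    | zero => exact fun y => ⟨0, zero_mem _, y, by rw [pow_zero, one_mulVec, zero_add]⟩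
    | succ k ih =>
      intro y
      obtain ⟨s, hs, x, rfl⟩ := ih y
      obtain ⟨s', hs', x', rfl⟩ := hcov x
      have hmem : ∀ j : ℕ, N ^ j *ᵥ s' ∈ S := by
        intro j
        induction j with
        | zero => rw [pow_zero, one_mulVec]; exact hs'
        | succ j ih => rw [pow_succ', ← mulVec_mulVec]; exact hS _ ih
      exact ⟨s + N ^ k *ᵥ s', add_mem hs (hmem k), x', by
        rw [mulVec_add, mulVec_mulVec, ← pow_succ, add_assoc]⟩
  obtain ⟨n, hn⟩ := hN
  refine eq_top_iff.mpr fun y _ => ?_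
  obtain ⟨s, hs, x, rfl⟩ := key n y
  rw [hn, zero_mulVec, add_zero]
  exact hs

/-- The residual rank of a tensor product is at least that of a factor times the other dimension. -/
theorem rank_mul_card_le {a : Matrix α α F} {b : Matrix β β F} (ha : IsNilpotent (a - 1)) (hb : b.det ≠ 0) :
    (a - 1).rank * Fintype.card β ≤ (a ⊗ₖ b - 1).rank := by
  classical
  set N := (a - 1)ᵀ with hN
  have hNn : IsNilpotent N := by
    obtain ⟨k, hk⟩ := ha
    exact ⟨k, by rw [hN, ← transpose_pow, hk, transpose_zero]⟩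
  obtain ⟨C, hC⟩ := Submodule.exists_isCompl (LinearMap.range N.mulVecLin)
  have hr : Module.finrank F (LinearMap.range N.mulVecLin) = (a - 1).rank := by
    rw [← Matrix.rank_transpose (a - 1)]; rfl
  have hCdim : Module.finrank F C = Fintype.card α - (a - 1).rank := by
    have := Submodule.finrank_add_eq_of_isCompl hC
    rw [hr, Module.finrank_pi] at this
    omega
  -- the kernel injects into the maps on the complement
  let Φ : (α × β → F) →ₗ[F] C →ₗ[F] β → F :=
    { toFun := fun x =>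
        { toFun := fun y k => ∑ i, (y : α → F) i * x (i, k)
          map_add' := fun y y' => funext fun k => by
            simp only [Submodule.coe_add, Pi.add_apply, add_mul, Finset.sum_add_distrib]
          map_smul' := fun c y => funext fun k => by
            simp only [Submodule.coe_smul, Pi.smul_apply, smul_eq_mul, RingHom.id_apply, Finset.mul_sum, mul_assoc] }
      map_add' := fun x x' => LinearMap.ext fun y => funext fun k => by
        show ∑ i, (y : α → F) i * (x + x') (i, k) = ∑ i, (y : α → F) i * x (i, k) + ∑ i, (y : α → F) i * x' (i, k)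
        simp only [Pi.add_apply, mul_add, Finset.sum_add_distrib]
      map_smul' := fun c x => LinearMap.ext fun y => funext fun k => by
        show ∑ i, (y : α → F) i * (c • x) (i, k) = c * ∑ i, (y : α → F) i * x (i, k)
        simp only [Pi.smul_apply, smul_eq_mul, Finset.mul_sum]
        exact Finset.sum_congr rfl fun i _ => by ring }
  set D := a ⊗ₖ b - 1 with hD
  have hinj : Function.Injective (Φ.domRestrict (LinearMap.ker D.mulVecLin)) := by
    rw [← LinearMap.ker_eq_bot, LinearMap.ker_eq_bot']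
    rintro ⟨x, hx⟩ h0
    change D *ᵥ x = 0 at hx
    rw [hD, sub_mulVec, one_mulVec, sub_eq_zero] at hx
    let M : Matrix α β F := Matrix.of fun i k => x (i, k)
    have hM : a * M * bᵀ = M := by
      ext i k
      have := congrFun hx (i, k)
      simp only [Matrix.mulVec, dotProduct, Fintype.sum_prod_type, kroneckerMap_apply] at this
      simp only [Matrix.mul_apply, Matrix.transpose_apply, M, Matrix.of_apply, Finset.sum_mul]
      rw [← this, Finset.sum_comm]
      exact Finset.sum_congr rfl fun j _ => Finset.sum_congr rfl fun l _ => by ring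
    let S : Submodule F (α → F) := LinearMap.ker Mᵀ.mulVecLin
    have hCS : (C : Submodule F (α → F)) ≤ S := fun y hy => by
      show Mᵀ *ᵥ y = 0
      funext k
      have := congrFun (LinearMap.congr_fun h0 ⟨y, hy⟩) k
      change ∑ i, y i * x (i, k) = 0 at this
      rw [Pi.zero_apply, ← this]
      exact Finset.sum_congr rfl fun i _ => mul_comm _ _
    have hS : ∀ y ∈ S, N *ᵥ y ∈ S := by
      intro y hy
      change Mᵀ *ᵥ y = 0 at hy
      show Mᵀ *ᵥ (N *ᵥ y) = 0
      have h1 : b *ᵥ (Mᵀ *ᵥ (aᵀ *ᵥ y)) = Mᵀ *ᵥ y := by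
        conv_rhs => rw [← hM]
        rw [transpose_mul, transpose_transpose, transpose_mul, mulVec_mulVec, mulVec_mulVec, Matrix.mul_assoc]
      rw [hy] at h1
      have h2 := Matrix.eq_zero_of_mulVec_eq_zero hb h1
      rw [hN, transpose_sub, transpose_one, sub_mulVec, one_mulVec, mulVec_sub, h2, hy, sub_zero]
    have htop := top_of_cover hNn S hS fun y => by
      obtain ⟨n', hn', c, hc, rfl⟩ := Submodule.mem_sup.mp (hC.sup_eq_top ▸ Submodule.mem_top (x := y))
      obtain ⟨z, rfl⟩ := hn'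
      exact ⟨c, hCS hc, z, add_comm _ _⟩
    refine Subtype.ext (funext fun ⟨i, k⟩ => ?_)
    have h1 : Mᵀ *ᵥ Pi.single i (1 : F) = 0 := show Pi.single i (1 : F) ∈ S by rw [htop]; exact Submodule.mem_top
    have := congrFun h1 k
    rw [mulVec_single_one] at this
    exact this
  have h1 := LinearMap.finrank_le_finrank_of_injective hinj
  have h2 := D.mulVecLin.finrank_range_add_finrank_ker
  rw [Module.finrank_linearMap, hCdim, Module.finrank_pi] at h1
  rw [Module.finrank_pi, Fintype.card_prod] at h2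
  have h3 : (a - 1).rank ≤ Fintype.card α := (a - 1).rank_le_card_width
  show (a - 1).rank * Fintype.card β ≤ Module.finrank F (LinearMap.range D.mulVecLin)
  have h4 : (Fintype.card α - (a - 1).rank) * Fintype.card β + (a - 1).rank * Fintype.card β =
      Fintype.card α * Fintype.card β := by rw [← add_mul, Nat.sub_add_cancel h3]
  omega

/-- A map of small rank on the second factor has small image. -/
theorem card_le_rank_one_kron (M : Matrix β β F) {y y' : β → F} (hy : ∃ v, M *ᵥ v = y) (hy' : ∃ v, M *ᵥ v = y')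
    (hli : LinearIndependent F ![y, y']) :
    Fintype.card α + Fintype.card α ≤ ((1 : Matrix α α F) ⊗ₖ M).rank := by
  classical
  obtain ⟨v, rfl⟩ := hy
  obtain ⟨v', rfl⟩ := hy'
  rw [← Fintype.card_sum]
  refine TensorMax.card_le_rank _
    ((TensorMax.pureL v).comp (LinearMap.funLeft F F Sum.inl) + (TensorMax.pureL v').comp (LinearMap.funLeft F F Sum.inr))
    fun c hc => ?_
  change ((1 : Matrix α α F) ⊗ₖ M) *ᵥ (pure (fun i => c (Sum.inl i)) v + pure (fun i => c (Sum.inr i)) v') = 0 at hc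
  rw [mulVec_add, TensorMax.kron_mulVec_pure, TensorMax.kron_mulVec_pure, one_mulVec, one_mulVec] at hc
  have hi : ∀ i, c (Sum.inl i) • (M *ᵥ v) + c (Sum.inr i) • (M *ᵥ v') = 0 := fun i => funext fun k => by
    simpa [TensorMax.pure_apply] using congrFun hc (i, k)
  funext z
  rcases z with i | i
  · exact (LinearIndependent.pair_iff.mp hli _ _ (hi i)).1
  · exact (LinearIndependent.pair_iff.mp hli _ _ (hi i)).2

end Kernel

namespace TForm

set_option maxHeartbeats 1000000

variable {T : TForm α β F}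

/-- A unipotent isometry of the first factor of residual rank at most one is trivial. -/
theorem eq_one_of_rank_le_one (h2 : (2 : F) ≠ 0) {a : Matrix α α F} (ha : aᵀ * T.G₁ * a = T.G₁)
    (hn : IsNilpotent (a - 1)) (hr : (a - 1).rank ≤ 1) : a = 1 := by
  by_contra hne
  have hne' : a - 1 ≠ 0 := sub_ne_zero.mpr hne
  obtain ⟨u, hu⟩ : ∃ u, (a - 1) *ᵥ u ≠ 0 := by
    by_contra hh
    push Not at hh
    exact hne' (eq_of_mulVec fun v => by rw [hh, zero_mulVec])
  set x := (a - 1) *ᵥ u with hx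
  have hline : ∀ v, ∃ c : F, (a - 1) *ᵥ v = c • x := by
    intro v
    by_contra hh
    push Not at hh
    have hli : LinearIndependent F ![x, (a - 1) *ᵥ v] :=
      (LinearIndependent.pair_iff' hu).mpr fun c => (hh c).symm
    have hle : Submodule.span F (Set.range ![x, (a - 1) *ᵥ v]) ≤ LinearMap.range (a - 1).mulVecLin := by
      rw [Submodule.span_le]
      rintro _ ⟨i, rfl⟩
      fin_cases i
      · exact ⟨u, rfl⟩
      · exact ⟨v, rfl⟩
    have h1 := Submodule.finrank_mono hle
    rw [finrank_span_eq_card hli, Fintype.card_fin] at h1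
    change 2 ≤ (a - 1).rank at h1
    omega
  have hrel : ∀ p q : α → F, T.B₁ ((a - 1) *ᵥ p) q + T.B₁ p ((a - 1) *ᵥ q) +
      T.B₁ ((a - 1) *ᵥ p) ((a - 1) *ᵥ q) = 0 := by
    intro p q
    have h1 : T.B₁ (a *ᵥ p) (a *ᵥ q) = T.B₁ p q := by
      rw [B₁, B₁, dotProduct_mulVec (a *ᵥ p), ← vecMul_transpose a p, vecMul_vecMul, dotProduct_mulVec,
        vecMul_vecMul, ha, ← dotProduct_mulVec]
    rw [show a *ᵥ p = p + (a - 1) *ᵥ p by rw [sub_mulVec, one_mulVec, add_sub_cancel],
      show a *ᵥ q = q + (a - 1) *ᵥ q by rw [sub_mulVec, one_mulVec, add_sub_cancel], B₁_add_left, B₁_add_right,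
      B₁_add_right] at h1
    linear_combination h1
  have hNx : (a - 1) *ᵥ x = 0 := by
    obtain ⟨c, hc⟩ := hline x
    obtain ⟨k, hk⟩ := hn
    have hp : ∀ j : ℕ, (a - 1) ^ j *ᵥ x = c ^ j • x := by
      intro j
      induction j with
      | zero => rw [pow_zero, pow_zero, one_mulVec, one_smul]
      | succ j ih => rw [pow_succ', ← mulVec_mulVec, ih, mulVec_smul, hc, smul_smul, pow_succ]
    have h1 := hp k
    rw [hk, zero_mulVec, eq_comm, smul_eq_zero] at h1
    rw [hc, eq_zero_of_pow_eq_zero (h1.resolve_right hu), zero_smul]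
  have e1 := hrel u u
  rw [← hx, T.B₁_comm x u] at e1
  have e2 := hrel (u + x) (u + x)
  rw [mulVec_add, hNx, add_zero, ← hx, B₁_add_left, B₁_add_right, T.B₁_comm x u] at e2
  have hxx : T.B₁ x x = 0 :=
    (mul_eq_zero.mp (show (2 : F) * T.B₁ x x = 0 by linear_combination e2 - e1)).resolve_left h2
  have hxu : T.B₁ u x = 0 :=
    (mul_eq_zero.mp (show (2 : F) * T.B₁ u x = 0 by linear_combination e1 - hxx)).resolve_left h2
  refine hu (T.eq_zero₁ fun v => ?_)
  obtain ⟨c, hc⟩ := hline v
  have e3 := hrel u v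
  rw [← hx, hc, B₁_smul_right, B₁_smul_right, hxu, hxx, T.B₁_comm x v] at e3
  linear_combination e3

variable [Fintype F] {X : Subgroup (GL (α × β) F)}

/-- Stabilisers of the subspaces `U ⊗ e` are Kronecker products. -/
def StabKron (T : TForm α β F) (X : Subgroup (GL (α × β) F)) : Prop :=
  ∀ g ∈ X, ∀ e : β → F, e ≠ 0 → T.B₂ e e = 0 → ∀ A : Matrix α α F,
    (g : Matrix (α × β) (α × β) F) * inc α e = inc α e * A → IsKron g

/-- The dichotomy. -/
theorem omega_le_or_stab (h : T.Over X) (hU : T.Small₁) (hq : Fintype.card α = 3 → Fintype.card F ≠ 3) :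
    Cfsg.Geo.omegaGL (⇑T.qf) ≤ X ∨ T.StabKron X := by
  by_cases hc : ∃ (e : β → F) (he : T.B₂ e e = 0), e ≠ 0 ∧ SK h e he ≠ ⊥
  · obtain ⟨e, he, he0, hne⟩ := hc
    exact Or.inl (omega_le_of_centres h fun w hw K hK => centre_all h hU he0 he hne hw hK)
  · push Not at hc
    refine Or.inr fun g hg e he0 he A hA => ?_
    obtain ⟨f, hff, hef⟩ := exists_partner T.symm₂ T.det₂ h.two he0 he
    exact kron_of_stab h hU hq ⟨he, hff, hef⟩ (hc e he he0) hg hA

/-- An element mapping some `U ⊗ e` onto some `U ⊗ y`. -/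
theorem kron_of_image (h : T.Over X) (hK : T.StabKron X) {g : GL (α × β) F} (hg : g ∈ X) {e y : β → F}
    (he0 : e ≠ 0) (he : T.B₂ e e = 0) {A : Matrix α α F}
    (hgA : (g : Matrix (α × β) (α × β) F) * inc α e = inc α y * A) : IsKron g := by
  haveI : Nonempty α := Fintype.card_pos_iff.mp (by have := h.card₁; omega)
  haveI : Nonempty β := Fintype.card_pos_iff.mp (by have := h.card₂; omega)
  have hi : T.IsIso (g : Matrix (α × β) (α × β) F) := h.isIso hg
  have hAinj : ∀ v, A *ᵥ v = 0 → v = 0 := fun v hv => by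
    have h1 := congrArg (fun M => M *ᵥ v) hgA
    beta_reduce at h1
    rw [← mulVec_mulVec, ← mulVec_mulVec, hv, mulVec_zero, inc_mulVec] at h1
    refine (TensorMax.pure_eq_zero ?_).resolve_right he0
    rw [← one_mulVec (pure v e), ← (show T.adjV (g : Matrix (α × β) (α × β) F) * _ = 1 from hi), ← mulVec_mulVec, h1,
      mulVec_zero]
  have hAdet : A.det ≠ 0 := fun hd => by
    obtain ⟨v, hv0, hv⟩ := Matrix.exists_mulVec_eq_zero_iff.mpr hd
    exact hv0 (hAinj v hv)
  have hy0 : y ≠ 0 := fun hy => by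
    rw [hy, inc_zero, Matrix.zero_mul] at hgA
    obtain ⟨i⟩ := ‹Nonempty α›
    have h1 := congrArg (fun M => M *ᵥ (Pi.single i (1 : F))) hgA
    beta_reduce at h1
    rw [← mulVec_mulVec, zero_mulVec, inc_mulVec] at h1
    refine TensorMax.pure_ne_zero (by simp) he0 (?_ : pure (Pi.single i (1 : F)) e = 0)
    rw [← one_mulVec (pure (Pi.single i (1 : F)) e), ← (show T.adjV (g : Matrix (α × β) (α × β) F) * _ = 1 from hi),
      ← mulVec_mulVec, h1, mulVec_zero]
  have hy : T.B₂ y y = 0 := by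
    have h1 : T.star ((g : Matrix (α × β) (α × β) F) * inc α e) * ((g : Matrix (α × β) (α × β) F) * inc α e) = 0 := by
      rw [T.star_mul_left, T.star_inc, Matrix.mul_assoc,
        ← Matrix.mul_assoc (T.adjV (g : Matrix (α × β) (α × β) F)),
        show T.adjV (g : Matrix (α × β) (α × β) F) * _ = 1 from hi, Matrix.one_mul, T.pr_mul_inc, he, zero_smul]
    rw [hgA, T.star_mul_right, T.star_inc, Matrix.mul_assoc, ← Matrix.mul_assoc (T.pr y), T.pr_mul_inc,
      Matrix.smul_mul, Matrix.one_mul, Matrix.mul_smul, smul_eq_zero] at h1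
    refine h1.resolve_right fun h0 => ?_
    have := congrArg Matrix.det h0
    rw [det_mul, det_zero, mul_eq_zero] at this
    rcases this with h' | h'
    · rw [adjU, det_mul, det_mul, det_transpose, mul_eq_zero, mul_eq_zero] at h'
      rcases h' with (h' | h') | h'
      · have := congrArg Matrix.det T.inv_mul₁
        rw [det_mul, h', zero_mul, det_one] at this
        exact zero_ne_one this
      · exact hAdet h'
      · exact T.det₁ h'
    · exact hAdet h'
  obtain ⟨b, t, ht, hby, k, hk, ek⟩ := exists_moving h hy0 hy he0 he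
  have hkg : IsKron (k * g) := by
    refine hK _ (mul_mem hk hg) e he0 he (t • A) ?_
    rw [Units.val_mul, ek, Matrix.mul_assoc, hgA, ← Matrix.mul_assoc, kron_mul_inc, Matrix.mul_one, hby, inc_smul,
      Matrix.smul_mul, Matrix.mul_smul]
  have hki : IsKron k⁻¹ := by
    refine isKron_of_mat _ (T.adjU (1 : Matrix α α F)) (T.G₂⁻¹ * bᵀ * T.G₂) ?_
    rw [T.inv_val (h.isIso hk), ek, adjV_kron]
  have := hki.mul hkg
  rwa [inv_mul_cancel_left] at this

/-- The factors of a unipotent Kronecker isometry can be taken unipotent isometries. -/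
theorem kron_unip (h : T.Over X) {k : GL (α × β) F}
    (hkX : k ∈ X) (hk : IsKron k) {p : ℕ} [Fact p.Prime] [CharP F p] {s : ℕ} (hs : k ^ p ^ s = 1) :
    ∃ (a : Matrix α α F) (b : Matrix β β F), (k : Matrix (α × β) (α × β) F) = a ⊗ₖ b ∧
      aᵀ * T.G₁ * a = T.G₁ ∧ bᵀ * T.G₂ * b = T.G₂ ∧ IsNilpotent (a - 1) ∧ IsNilpotent (b - 1) := by
  classical
  haveI : Nonempty α := Fintype.card_pos_iff.mp (by have := h.card₁; omega)
  haveI : Nonempty β := Fintype.card_pos_iff.mp (by have := h.card₂; omega)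
  obtain ⟨A, B, hAB⟩ := hk
  have hN : ((A : Matrix α α F) ^ p ^ s) ⊗ₖ ((B : Matrix β β F) ^ p ^ s) = 1 := by
    rw [← TensorMax.kron_pow, ← hAB, ← Units.val_pow_eq_pow_val, hs, Units.val_one]
  obtain ⟨c, hc, hA, hB⟩ := TensorMax.exists_scalar_of_kron_eq_one hN
  haveI : ExpChar F p := ExpChar.prime Fact.out
  obtain ⟨ν, hν⟩ := Finite.injective_iff_surjective.mp (iterateFrobenius_inj F p s) c
  rw [iterateFrobenius_def] at hν
  have hν0 : ν ≠ 0 := by
    rintro rfl
    rw [zero_pow (pow_ne_zero _ (Fact.out : p.Prime).ne_zero)] at hν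
    exact hc hν.symm
  set a := ν⁻¹ • (A : Matrix α α F) with ha
  set b := ν • (B : Matrix β β F) with hb
  have hkab : (k : Matrix (α × β) (α × β) F) = a ⊗ₖ b := by
    rw [ha, hb, smul_kronecker, kronecker_smul, smul_smul, inv_mul_cancel₀ hν0, one_smul, hAB]
  have hpa : a ^ p ^ s = 1 := by
    rw [ha, smul_pow, hA, smul_smul, inv_pow, hν, inv_mul_cancel₀ hc, one_smul]
  haveI : CharP (Matrix α α F) p := Matrix.charP p
  have hna : IsNilpotent (a - 1) :=
    ⟨p ^ s, by rw [sub_pow_char_pow_of_commute p s (Commute.one_right _), one_pow, hpa, sub_self]⟩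
  have hbdet : b.det ≠ 0 := by
    rw [hb, det_smul]
    exact mul_ne_zero (pow_ne_zero _ hν0) ((Matrix.isUnit_iff_isUnit_det _).mp B.isUnit).ne_zero
  -- the multiplier is one
  have hiso := h.isIso hkX
  rw [hkab, IsIso, adjV_kron, ← mul_kronecker_mul] at hiso
  obtain ⟨l, hl, hla, hlb⟩ := TensorMax.exists_scalar_of_kron_eq_one hiso
  have hl1 : l = 1 := by
    have hpow : ∀ m : ℕ, T.adjU (a ^ m) * a ^ m = l ^ m • (1 : Matrix α α F) := by
      intro m
      induction m with
      | zero => rw [pow_zero, pow_zero, T.adjU_one, Matrix.one_mul, one_smul]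
      | succ m ih =>
        conv_lhs => rw [pow_succ, adjU_mul, Matrix.mul_assoc, ← Matrix.mul_assoc (T.adjU (a ^ m)), ih]
        rw [Matrix.smul_mul, Matrix.one_mul, Matrix.mul_smul, hla, smul_smul, pow_succ]
    have h1 := hpow (p ^ s)
    rw [hpa, T.adjU_one, Matrix.one_mul] at h1
    have h2 : (1 : F) = l ^ p ^ s := smul_left_injective F (one_ne_zero (α := Matrix α α F)) (by
      show (1 : F) • (1 : Matrix α α F) = _
      rw [one_smul]; exact h1)
    refine iterateFrobenius_inj F p s ?_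
    rw [iterateFrobenius_def, iterateFrobenius_def, one_pow, ← h2]
  rw [hl1, one_smul] at hla
  rw [hl1, inv_one, one_smul] at hlb
  have haG : aᵀ * T.G₁ * a = T.G₁ := by
    have := B₁_sim (T := T) (μ := 1) (by rw [hla, one_smul])
    rwa [one_smul] at this
  have hbG : bᵀ * T.G₂ * b = T.G₂ := by
    have := congrArg (T.G₂ * ·) hlb
    beta_reduce at this
    rwa [← Matrix.mul_assoc, ← Matrix.mul_assoc, ← Matrix.mul_assoc, T.mul_inv₂, Matrix.one_mul, Matrix.mul_one] at this
  haveI : CharP (Matrix β β F) p := Matrix.charP p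
  have hpb : b ^ p ^ s = 1 := by rw [hb, smul_pow, hB, smul_smul, hν, mul_inv_cancel₀ hc, one_smul]
  exact ⟨a, b, hkab, haG, hbG, hna,
    ⟨p ^ s, by rw [sub_pow_char_pow_of_commute p s (Commute.one_right _), one_pow, hpb, sub_self]⟩⟩

/-- A unipotent Kronecker isometry of residual rank at most `2 dim U` is trivial on `U`. -/
theorem one_kron_of_small (h : T.Over X) (hlt : Fintype.card α < Fintype.card β) {k : GL (α × β) F}
    (hkX : k ∈ X) (hk : IsKron k) {p : ℕ} [Fact p.Prime] [CharP F p] {s : ℕ} (hs : k ^ p ^ s = 1)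
    (hr : ((k : Matrix (α × β) (α × β) F) - 1).rank ≤ 2 * Fintype.card α) :
    ∃ b : Matrix β β F, (k : Matrix (α × β) (α × β) F) = (1 : Matrix α α F) ⊗ₖ b ∧ bᵀ * T.G₂ * b = T.G₂ := by
  classical
  haveI : Nonempty α := Fintype.card_pos_iff.mp (by have := h.card₁; omega)
  haveI : Nonempty β := Fintype.card_pos_iff.mp (by have := h.card₂; omega)
  obtain ⟨a, b, hkab, haG, hbG, hna, -⟩ := kron_unip h hkX hk hs
  have hbdet : b.det ≠ 0 := fun h0 => by
    have hd : (k : Matrix (α × β) (α × β) F).det ≠ 0 := ((Matrix.isUnit_iff_isUnit_det _).mp k.isUnit).ne_zero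
    rw [hkab, det_kronecker, h0, zero_pow Fintype.card_ne_zero, mul_zero] at hd
    exact hd rfl
  have ha1 : a = 1 := by
    refine eq_one_of_rank_le_one h.two haG hna ?_
    have h1 := rank_mul_card_le (b := b) hna hbdet
    rw [← hkab] at h1
    by_contra hh
    have h2 : 2 * Fintype.card β ≤ (a - 1).rank * Fintype.card β := Nat.mul_le_mul_right _ (by omega)
    omega
  exact ⟨b, by rw [hkab, ha1], hbG⟩

theorem sie_sub_one (e z : β → F) :
    sie T.G₂ e z - 1 = vecMulVec e (T.G₂ *ᵥ z) - vecMulVec z (T.G₂ *ᵥ e) -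
      (T.B₂ z z / 2) • vecMulVec e (T.G₂ *ᵥ e) := by
  rw [sie, ← TForm.B₂]
  abel

theorem one_kron_sub (N : Matrix β β F) :
    (1 : Matrix α α F) ⊗ₖ N - 1 = (1 : Matrix α α F) ⊗ₖ (N - 1) := by
  rw [sub_eq_iff_eq_add, ← one_kronecker_one (m := α) (n := β), ← kronecker_add, sub_add_cancel]

/-- A root conjugate which is a Kronecker product has a Kronecker conjugating element. -/
theorem kron_of_root_conj (h : T.Over X) (hK : T.StabKron X) (hlt : Fintype.card α < Fintype.card β) {e f z : β → F}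
    (hp : T.Pair₂ e f) (hez : T.B₂ e z = 0) (hfz : T.B₂ f z = 0) (hz0 : z ≠ 0) {t g : GL (α × β) F} (htX : t ∈ X)
    (et : (t : Matrix (α × β) (α × β) F) = (1 : Matrix α α F) ⊗ₖ sie T.G₂ e z) (hg : g ∈ X)
    (hk : IsKron (g * t * g⁻¹)) : IsKron g := by
  classical
  haveI : Nonempty α := Fintype.card_pos_iff.mp (by have := h.card₁; omega)
  haveI : Nonempty β := Fintype.card_pos_iff.mp (by have := h.card₂; omega)
  let p := ringChar F
  haveI : Fact p.Prime := ⟨CharP.char_is_prime F p⟩
  haveI : CharP (Matrix (α × β) (α × β) F) p := Matrix.charP p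
  set H : Matrix (α × β) (α × β) F := (g : Matrix (α × β) (α × β) F)
  set H' : Matrix (α × β) (α × β) F := ((g⁻¹ : GL (α × β) F) : Matrix (α × β) (α × β) F)
  have hH'H : H' * H = 1 := by rw [← Units.val_mul, inv_mul_cancel, Units.val_one]
  have hHH' : H * H' = 1 := by rw [← Units.val_mul, mul_inv_cancel, Units.val_one]
  have main : ∀ (e f z : β → F), T.Pair₂ e f → T.B₂ e z = 0 → T.B₂ f z = 0 → ∀ t : GL (α × β) F, t ∈ X →
      (t : Matrix (α × β) (α × β) F) = (1 : Matrix α α F) ⊗ₖ sie T.G₂ e z → IsKron (g * t * g⁻¹) →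
      ∃ b : Matrix β β F, bᵀ * T.G₂ * b = T.G₂ ∧
        H * ((1 : Matrix α α F) ⊗ₖ (sie T.G₂ e z - 1)) = ((1 : Matrix α α F) ⊗ₖ (b - 1)) * H := by
    intro e f z hp hez hfz t htX et hk
    have h3 : ((1 : Matrix α α F) ⊗ₖ sie T.G₂ e z - 1) ^ 3 = 0 := by
      rw [one_kron_sub, TensorMax.kron_pow, sie_cube T.symm₂ hp.ee hez, kroneckerMap_zero_right _ (fun a => mul_zero a)]
    have htp : t ^ p ^ 2 = 1 := by
      refine Units.ext ?_
      have h9 : 3 ≤ p ^ 2 := le_trans (by norm_num) (Nat.pow_le_pow_left (Fact.out : p.Prime).two_le 2)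
      have := sub_pow_char_pow_of_commute p 2 (Commute.one_right ((1 : Matrix α α F) ⊗ₖ sie T.G₂ e z))
      rw [pow_eq_zero_of_le h9 h3, one_pow, eq_comm, sub_eq_zero] at this
      rw [Units.val_pow_eq_pow_val, et, this, Units.val_one]
    have hsub : ((g * t * g⁻¹ : GL (α × β) F) : Matrix (α × β) (α × β) F) - 1 =
        H * ((1 : Matrix α α F) ⊗ₖ (sie T.G₂ e z - 1)) * H' := by
      rw [Units.val_mul, Units.val_mul, et, ← one_kron_sub, Matrix.mul_sub, Matrix.sub_mul, Matrix.mul_one, hHH']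
    have hrk : (((g * t * g⁻¹ : GL (α × β) F) : Matrix (α × β) (α × β) F) - 1).rank ≤ 2 * Fintype.card α := by
      rw [hsub]
      refine ((rank_mul_le_left _ _).trans (rank_mul_le_right _ _)).trans ?_
      have hfac : (1 : Matrix α α F) ⊗ₖ (sie T.G₂ e z - 1) =
          Matrix.fromCols (inc α e) (inc α z) *
            Matrix.fromRows (T.pr z - (T.B₂ z z / 2) • T.pr e) (-T.pr e) := by
        rw [Matrix.fromCols_mul_fromRows, ← one_kron_sub, T.one_kron_sie, Matrix.mul_sub, Matrix.mul_smul,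
          Matrix.mul_neg]
        abel
      rw [hfac]
      refine (rank_mul_le_left _ _).trans ((rank_le_card_width _).trans ?_)
      rw [Fintype.card_sum]
      omega
    obtain ⟨b, hb, hbG⟩ := one_kron_of_small h hlt (mul_mem (mul_mem hg htX) (inv_mem hg)) hk
      (p := p) (s := 2) (by rw [conj_pow, htp, mul_one, mul_inv_cancel]) hrk
    refine ⟨b, hbG, ?_⟩
    have h1 := hsub
    rw [hb, one_kron_sub] at h1
    rw [h1, Matrix.mul_assoc _ H' H, hH'H, Matrix.mul_one]
  -- the case of an anisotropic vector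
  have short : ∀ (e f z : β → F), T.Pair₂ e f → T.B₂ e z = 0 → T.B₂ f z = 0 → T.B₂ z z ≠ 0 →
      ∀ t : GL (α × β) F, t ∈ X → (t : Matrix (α × β) (α × β) F) = (1 : Matrix α α F) ⊗ₖ sie T.G₂ e z →
      IsKron (g * t * g⁻¹) → IsKron g := by
    intro e f z hp hez hfz hzz t htX et hk
    obtain ⟨b, -, hb⟩ := main e f z hp hez hfz t htX et hk
    set N := sie T.G₂ e z - 1 with hN
    set N' := b - 1
    have hb2 : H * ((1 : Matrix α α F) ⊗ₖ (N * N)) = ((1 : Matrix α α F) ⊗ₖ (N' * N')) * H := by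
      conv_lhs => rw [← Matrix.one_mul (1 : Matrix α α F), mul_kronecker_mul, ← Matrix.mul_assoc, hb, Matrix.mul_assoc,
        hb, ← Matrix.mul_assoc, ← mul_kronecker_mul, Matrix.one_mul]
    have hNN : N * N = (-T.B₂ z z) • vecMulVec e (T.G₂ *ᵥ e) := by
      refine Matrix.ext_of_mulVec_single fun j => ?_
      generalize (Pi.single j (1 : F) : β → F) = v
      rw [← mulVec_mulVec, hN, sie_sub_one]
      simp only [sub_mulVec, smul_mulVec, B₂_vec, mulVec_sub, mulVec_smul, hp.ee, show T.B₂ z e = 0 by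
        rw [B₂_comm]; exact hez, hez, zero_smul, smul_zero, sub_zero, zero_sub, neg_smul, smul_smul, smul_neg]
      all_goals simp only [neg_mulVec, smul_mulVec, B₂_vec, smul_smul, mul_comm]
    have hrank : ((1 : Matrix α α F) ⊗ₖ (N' * N')).rank ≤ Fintype.card α := by
      have e1 : (1 : Matrix α α F) ⊗ₖ (N' * N') = H * ((1 : Matrix α α F) ⊗ₖ (N * N)) * H' := by
        rw [hb2, Matrix.mul_assoc, hHH', Matrix.mul_one]
      rw [e1]
      refine ((rank_mul_le_left _ _).trans (rank_mul_le_right _ _)).trans ?_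
      rw [hNN, ← smul_vecMulVec]
      exact TensorMax.rank_rootMat_le _ _
    have hIf : (1 : Matrix α α F) ⊗ₖ (N * N) * inc α f = (-T.B₂ z z) • inc α e := by
      rw [kron_mul_inc, Matrix.mul_one, hNN, smul_mulVec, B₂_vec, hp.ef, one_smul, inc_smul]
    have hne : N' * N' ≠ 0 := by
      intro h0
      rw [h0, kroneckerMap_zero_right _ (fun a => mul_zero a), Matrix.zero_mul] at hb2
      have h1 := congrArg (fun M => H' * M * inc α f) hb2
      beta_reduce at h1
      rw [← Matrix.mul_assoc, hH'H, Matrix.one_mul, hIf, Matrix.mul_zero, Matrix.zero_mul] at h1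
      have h2 := congrArg (fun M => T.pr f * M) h1
      beta_reduce at h2
      rw [Matrix.mul_smul, T.pr_mul_inc, hp.fe, one_smul, Matrix.mul_zero] at h2
      exact smul_ne_zero (neg_ne_zero.mpr hzz) one_ne_zero h2
    obtain ⟨v₀, hv₀⟩ : ∃ v, (N' * N') *ᵥ v ≠ 0 := by
      by_contra hh
      push Not at hh
      exact hne (Matrix.ext_of_mulVec_single fun j => by rw [hh, zero_mulVec])
    set y := (N' * N') *ᵥ v₀ with hy
    have hcol : ∀ v, ∃ c : F, (N' * N') *ᵥ v = c • y := by
      intro v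
      by_contra hh
      push Not at hh
      have := card_le_rank_one_kron (α := α) (N' * N') ⟨v₀, hy.symm⟩ ⟨v, rfl⟩
        ((LinearIndependent.pair_iff' hv₀).mpr fun c => (hh c).symm)
      have := h.card₁
      omega
    choose c hc using hcol
    have hM : N' * N' = vecMulVec y (fun j => c (Pi.single j 1)) := Matrix.ext fun i j => by
      have := congrFun (hc (Pi.single j 1)) i
      rw [mulVec_single_one] at this
      rw [vecMulVec_apply, mul_comm]
      exact this
    refine kron_of_image h hK hg hp.ne hp.ee (y := y)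
      (A := (-T.B₂ z z)⁻¹ • (ev α (fun j => c (Pi.single j 1)) * (H * inc α f))) ?_
    have h1 : H * ((1 : Matrix α α F) ⊗ₖ (N * N)) * inc α f =
        inc α y * (ev α (fun j => c (Pi.single j 1)) * (H * inc α f)) := by
      rw [hb2, hM, ← inc_mul_ev, Matrix.mul_one, Matrix.mul_assoc, Matrix.mul_assoc]
    rw [Matrix.mul_assoc, hIf, Matrix.mul_smul] at h1
    rw [Matrix.mul_smul, ← h1, smul_smul, inv_mul_cancel₀ (neg_ne_zero.mpr hzz), one_smul]
  by_cases hzz : T.B₂ z z = 0
  swap
  · exact short e f z hp hez hfz hzz t htX et hk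
  -- a long root: conjugate a short root fixing its line pointwise
  obtain ⟨b, hbG, hb⟩ := main e f z hp hez hfz t htX et hk
  obtain ⟨z', hz'z', hzz', hez', hfz'⟩ := exists_partner_perp T.symm₂ T.det₂ h.two hp.ee hp.ff hp.ef hz0 hzz hez hfz
  have h5 := h.small₂.resolve_right fun hs => hz0 (hs.2 e f z hp.ee hp.ef hez hfz hzz)
  obtain ⟨a, hea, hfa, hza, hz'a, haa⟩ := exists_aniso_four T.symm₂ T.det₂ h.two h5 hp.ee hp.ff hp.ef hzz hz'z'
    hzz' hez hez' hfz hfz'
  obtain ⟨t₀, ht₀, et₀⟩ := h.sie₂_mem hp.ee (show T.B₂ e a = 0 from hea)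
  refine short e f a hp hea hfa haa t₀ ht₀ et₀ ?_
  have hae : T.B₂ a e = 0 := by rw [B₂_comm]; exact hea
  have haz : T.B₂ a z = 0 := by rw [B₂_comm]; exact hza
  have hze : T.B₂ z e = 0 := by rw [B₂_comm]; exact hez
  set N := sie T.G₂ e z - 1 with hN
  set N' := b - 1 with hN'
  have hNN : N * N = 0 := by
    refine Matrix.ext_of_mulVec_single fun j => ?_
    generalize (Pi.single j (1 : F) : β → F) = v
    rw [← mulVec_mulVec, hN, sie_sub_one, hzz]
    simp [sub_mulVec, B₂_vec, mulVec_sub, mulVec_smul, hp.ee, hez, hze, hzz]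
  have hfix : (t₀ : Matrix (α × β) (α × β) F) * ((1 : Matrix α α F) ⊗ₖ N) = (1 : Matrix α α F) ⊗ₖ N := by
    rw [et₀, ← mul_kronecker_mul, Matrix.one_mul]
    congr 1
    refine Matrix.ext_of_mulVec_single fun j => ?_
    rw [← mulVec_mulVec, hN, sie_sub_one, hzz, zero_div, zero_smul, sub_zero, sub_mulVec, B₂_vec, B₂_vec,
      mulVec_sub, mulVec_smul, mulVec_smul, sie_fix T.symm₂ hp.ee hae, sie_fix T.symm₂ hez haz]
  set k := g * t₀ * g⁻¹
  have hkfix : (k : Matrix (α × β) (α × β) F) * ((1 : Matrix α α F) ⊗ₖ N') = (1 : Matrix α α F) ⊗ₖ N' := by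
    have e1 : (1 : Matrix α α F) ⊗ₖ N' = H * ((1 : Matrix α α F) ⊗ₖ N) * H' := by
      rw [hb, Matrix.mul_assoc, hHH', Matrix.mul_one]
    rw [e1, Units.val_mul, Units.val_mul]
    calc _ = H * ((t₀ : Matrix (α × β) (α × β) F) * (H' * H * ((1 : Matrix α α F) ⊗ₖ N))) * H' := by
          simp only [Matrix.mul_assoc]; rfl
      _ = _ := by rw [hH'H, Matrix.one_mul, hfix]
  obtain ⟨v₀, hv₀⟩ : ∃ v, N' *ᵥ v ≠ 0 := by
    by_contra hh
    push Not at hh
    have h0 : N' = 0 := Matrix.ext_of_mulVec_single fun j => by rw [hh, zero_mulVec]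
    rw [h0, kroneckerMap_zero_right _ (fun a => mul_zero a), Matrix.zero_mul] at hb
    have h1 := congrArg (fun M => H' * M * inc α f) hb
    beta_reduce at h1
    rw [← Matrix.mul_assoc, hH'H, Matrix.one_mul, Matrix.mul_zero, Matrix.zero_mul, kron_mul_inc, Matrix.mul_one,
      hN, sie_sub_one, hzz, zero_div, zero_smul, sub_zero, sub_mulVec, B₂_vec, B₂_vec, hp.ef, show T.B₂ z f = 0 by
      rw [B₂_comm]; exact hfz, zero_smul, one_smul, zero_sub, inc_neg, neg_eq_zero] at h1
    have h2 := congrArg (fun M => T.pr z' * M) h1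
    beta_reduce at h2
    rw [T.pr_mul_inc, Matrix.mul_zero, show T.B₂ z' z = 1 by rw [B₂_comm]; exact hzz', one_smul] at h2
    exact one_ne_zero h2
  have hN'2 : N' * N' = 0 := by
    have h1 : (1 : Matrix α α F) ⊗ₖ (N' * N') = 0 := by
      rw [← Matrix.one_mul (1 : Matrix α α F), mul_kronecker_mul]
      have e1 : (1 : Matrix α α F) ⊗ₖ N' = H * ((1 : Matrix α α F) ⊗ₖ N) * H' := by
        rw [hb, Matrix.mul_assoc, hHH', Matrix.mul_one]
      rw [e1]
      calc _ = H * ((1 : Matrix α α F) ⊗ₖ N) * (H' * H) * ((1 : Matrix α α F) ⊗ₖ N) * H' := by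
            simp only [Matrix.mul_assoc]
        _ = 0 := by
          rw [hH'H, Matrix.mul_one, Matrix.mul_assoc H, ← mul_kronecker_mul, Matrix.one_mul, hNN,
            kroneckerMap_zero_right _ (fun a => mul_zero a), Matrix.mul_zero, Matrix.zero_mul]
    obtain ⟨i₀⟩ := ‹Nonempty α›
    ext m n
    have := congrFun (congrFun h1 (i₀, m)) (i₀, n)
    simpa using this
  have hiso' : N'ᵀ * T.G₂ + T.G₂ * N' + N'ᵀ * T.G₂ * N' = 0 := by
    have e1 : b = 1 + N' := by rw [hN', add_sub_cancel]
    rw [e1, transpose_add, transpose_one, Matrix.add_mul, Matrix.one_mul, Matrix.add_mul, Matrix.mul_add,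
      Matrix.mul_add, Matrix.mul_one, Matrix.mul_one] at hbG
    calc _ = T.G₂ + T.G₂ * N' + (N'ᵀ * T.G₂ + N'ᵀ * T.G₂ * N') - T.G₂ := by abel
      _ = 0 := by rw [hbG, sub_self]
  have hTS : N'ᵀ * T.G₂ * N' = 0 := by
    have := congrArg (· * N') hiso'
    beta_reduce at this
    rw [Matrix.zero_mul, Matrix.add_mul, Matrix.add_mul, Matrix.mul_assoc T.G₂, hN'2, Matrix.mul_zero, add_zero,
      Matrix.mul_assoc _ N' N', hN'2, Matrix.mul_zero, add_zero] at this
    exact this
  refine hK k (mul_mem (mul_mem hg ht₀) (inv_mem hg)) (N' *ᵥ v₀) hv₀ ?_ 1 ?_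
  · have h0 : v₀ ⬝ᵥ (N'ᵀ * T.G₂ * N') *ᵥ v₀ = 0 := by rw [hTS, zero_mulVec, dotProduct_zero]
    rw [← mulVec_mulVec, ← mulVec_mulVec, dotProduct_mulVec, vecMul_transpose] at h0
    exact h0
  · rw [Matrix.mul_one, show inc α (N' *ᵥ v₀) = (1 : Matrix α α F) ⊗ₖ N' * inc α v₀ by
      rw [kron_mul_inc, Matrix.mul_one], ← Matrix.mul_assoc, hkfix]

end TForm

end Cfsg.Lib.Classical.TensorOrth
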