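import Cfsg.Agent.Classical.TensorOrth.SqFree

/-!
# An invariant of the tensor square: averaging over the cosets of the wreath product

The symmetrised quartic `qm` is fixed by the wreath product.  Its sum over the cosets differs from it by a form
which is symmetric in its arguments, because root elements of each factor act freely on the other cosets and the
sums over their orbits only see the top coefficient.  So `qm y - qm (y ∘ (1 2))` is invariant.
-/

set_option autoImplicit false
set_option linter.unusedSectionVars false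
set_option linter.unusedSimpArgs false
set_option linter.style.haveILetI false

namespace Cfsg.Lib.Classical.TensorOrth

open Matrix
open scoped Kronecker MatrixGroups
open Cfsg.Lib.Classical.TensorMax (pure pure_apply IsKron isKron_of_mat kron_mulVec_pure)

universe u

variable {γ : Type} [Fintype γ] [DecidableEq γ] [Nonempty γ] {F : Type u} [Field F]

theorem quartic_smul (A B : Matrix γ γ F) (j : Fin 4) (y : Fin 4 → γ × γ → F) (c : F) (u : γ × γ → F) :
    quartic A B (Function.update y j (c • u)) = c * quartic A B (Function.update y j u) := by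
  have h : toM (c • u) = c • toM u := rfl
  fin_cases j <;>
    simp [quartic, Function.update, h, Matrix.smul_mul, Matrix.mul_smul, Matrix.transpose_smul, Matrix.trace_smul]

/-- The quartic as a multilinear map. -/
def qML (G : Matrix γ γ F) : MultilinearMap F (fun _ : Fin 4 => γ × γ → F) F :=
  MultilinearMap.mk' (fun y => quartic G G y) (fun y j u v => quartic_add G G j y u v)
    fun y j c u => quartic_smul G G j y c u

/-- The symmetrised quartic. -/
def qm (G : Matrix γ γ F) : MultilinearMap F (fun _ : Fin 4 => γ × γ → F) F :=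
  qML G + (qML G).domDomCongr (Equiv.addRight (1 : Fin 4))

theorem qm_apply (G : Matrix γ γ F) (y : Fin 4 → γ × γ → F) :
    qm G y = quartic G G y + quartic G G (fun j => y (j + 1)) := rfl

theorem qm_swap {G : Matrix γ γ F} (y : Fin 4 → γ × γ → F) : qm G (fun j => swapMat γ F *ᵥ y j) = qm G y := by
  have h : ∀ z : Fin 4 → γ × γ → F, quartic G G (fun j => swapMat γ F *ᵥ z j) =
      quartic G G (fun j => z (j + 1)) := by
    intro z
    have ht : ∀ w : γ × γ → F, toM (swapMat γ F *ᵥ w) = (toM w)ᵀ := fun w => by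
      ext i k
      rw [toM_apply, swapMat_mulVec, transpose_apply, toM_apply]
      rfl
    simp only [quartic, ht, transpose_transpose]
    rw [show (0 : Fin 4) + 1 = 1 from rfl, show (1 : Fin 4) + 1 = 2 from rfl, show (2 : Fin 4) + 1 = 3 from rfl,
      show (3 : Fin 4) + 1 = 0 from rfl]
    simp only [Matrix.mul_assoc]
    rw [Matrix.trace_mul_comm]
    simp only [Matrix.mul_assoc]
    rw [Matrix.trace_mul_comm]
    simp only [Matrix.mul_assoc]
  have h2 : quartic G G (fun j => y (j + 1 + 1)) = quartic G G y := by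
    simp only [quartic]
    rw [show (0 : Fin 4) + 1 + 1 = 2 from rfl, show (1 : Fin 4) + 1 + 1 = 3 from rfl,
      show (2 : Fin 4) + 1 + 1 = 0 from rfl, show (3 : Fin 4) + 1 + 1 = 1 from rfl, Matrix.trace_mul_comm]
  rw [qm_apply, qm_apply, h, h (fun j => y (j + 1)), h2, add_comm]

theorem sq_kron {k : GL (γ × γ) F} (hk : Wr k) : IsKron (k * k) := by
  rcases hk with hk | hk
  · exact hk.mul hk
  · have := hk.mul (IsKron.flip hk)
    rwa [flipEl, ← mul_assoc, ← mul_assoc, mul_assoc k, swapGL_mul_self, mul_one, mul_assoc, mul_assoc,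
      swapGL_mul_self, mul_one] at this

theorem kron_of_wr_odd {k : GL (γ × γ) F} (hk : Wr k) {n : ℕ} (hn : Odd n) (hkn : k ^ n = 1) : IsKron k := by
  obtain ⟨m, rfl⟩ := hn
  have h1 : (k * k) ^ m ∈ kronSub γ γ F := Subgroup.pow_mem _ (sq_kron hk) m
  rw [pow_succ, pow_mul, sq] at hkn
  rw [eq_inv_of_mul_eq_one_right hkn]
  exact isKron_inv h1

section Orbit

variable [Fintype F]

/-- The orbit sum of the symmetrised quartic under a root group of the second factor. -/
theorem orbit_eq (hq : 5 ≤ Fintype.card F) {G : Matrix γ γ F} (h3 : Three G) {e x f : γ → F} (hF : Frame G e x f)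
    (M : Matrix (γ × γ) (γ × γ) F) (v : Fin 4 → γ → F) (c : Fin 4 → F) (a : Fin 4 → Fin 3)
    (ha : ∑ j, (a j : ℕ) ≤ 4) :
    ∑ s : F, qm G (fun j => M *ᵥ pure (v j) (sie G e (s • x) *ᵥ (c j • ![e, x, f] (a j)))) =
      (if ∑ j, (a j : ℕ) = 4 then ∑ s : F, s ^ 4 else 0) *
        ((∏ j, c j * ![1, x ⬝ᵥ G *ᵥ x, -((x ⬝ᵥ G *ᵥ x) / 2)] (a j)) *
          qm G (fun j => M *ᵥ pure (v j) e)) := by
  classical
  set C : Fin 3 → Fin 3 → γ → F :=
    ![![e, 0, 0], ![x, (x ⬝ᵥ G *ᵥ x) • e, 0], ![f, -x, -((x ⬝ᵥ G *ᵥ x) / 2) • e]] with hC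
  set κ : Fin 3 → F := ![1, x ⬝ᵥ G *ᵥ x, -((x ⬝ᵥ G *ᵥ x) / 2)] with hκ
  have hexp : ∀ (s : F) (i : Fin 3), sie G e (s • x) *ᵥ ![e, x, f] i = ∑ l : Fin 3, s ^ (l : ℕ) • C i l := by
    intro s i
    fin_cases i <;> simp [hC, Fin.sum_univ_three, hF.sie_e h3, hF.sie_x h3, hF.sie_f h3, smul_smul]
    module
  have hgt : ∀ i l : Fin 3, i < l → C i l = 0 := by
    intro i l hil
    fin_cases i <;> fin_cases l <;> simp [hC] at hil ⊢
  have htop : ∀ i : Fin 3, C i i = κ i • e := by
    intro i
    fin_cases i <;> simp [hC, hκ]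
  have hlin : ∀ s : F, qm G (fun j => M *ᵥ pure (v j) (sie G e (s • x) *ᵥ (c j • ![e, x, f] (a j)))) =
      ∑ ι : Fin 4 → Fin 3, s ^ (∑ j, (ι j : ℕ)) * ((∏ j, c j) * qm G (fun j => M *ᵥ pure (v j) (C (a j) (ι j)))) := by
    intro s
    have hj : (fun j => M *ᵥ pure (v j) (sie G e (s • x) *ᵥ (c j • ![e, x, f] (a j)))) =
        fun j => ∑ l : Fin 3, (c j * s ^ (l : ℕ)) • (M *ᵥ pure (v j) (C (a j) l)) := funext fun j => by
      rw [mulVec_smul, hexp, TensorMax.pure_smul_right, mulVec_smul]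
      have : pure (v j) (∑ l : Fin 3, s ^ (l : ℕ) • C (a j) l) = ∑ l : Fin 3, s ^ (l : ℕ) • pure (v j) (C (a j) l) := by
        funext ⟨p, r⟩
        simp only [pure_apply, Finset.sum_apply, Pi.smul_apply, smul_eq_mul, Finset.mul_sum]
        exact Finset.sum_congr rfl fun l _ => by ring
      rw [this, mulVec_sum, Finset.smul_sum]
      exact Finset.sum_congr rfl fun l _ => by rw [mulVec_smul, smul_smul]
    rw [hj, MultilinearMap.map_sum]
    refine Finset.sum_congr rfl fun ι _ => ?_
    rw [MultilinearMap.map_smul_univ, smul_eq_mul, Finset.prod_mul_distrib, Finset.prod_pow_eq_pow_sum]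
    ring
  simp only [hlin]
  rw [Finset.sum_comm, Finset.sum_eq_single a]
  · rw [← Finset.sum_mul]
    have hA : qm G (fun j => M *ᵥ pure (v j) (C (a j) (a j))) = (∏ j, κ (a j)) * qm G (fun j => M *ᵥ pure (v j) e) := by
      simp only [htop, TensorMax.pure_smul_right, mulVec_smul]
      rw [MultilinearMap.map_smul_univ, smul_eq_mul]
    rw [hA, Finset.prod_mul_distrib]
    have hsum : ∑ s : F, s ^ (∑ j, (a j : ℕ)) = if ∑ j, (a j : ℕ) = 4 then ∑ s : F, s ^ 4 else 0 := by
      split_ifs with h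
      · rw [h]
      · exact FiniteField.sum_pow_lt_card_sub_one (K := F) _ (by omega)
    rw [hsum]
    ring
  · intro ι _ hι
    rw [← Finset.sum_mul]
    by_cases hlt : ∑ j, (ι j : ℕ) < 4
    · rw [FiniteField.sum_pow_lt_card_sub_one (K := F) _ (by omega), zero_mul]
    · obtain ⟨j, hj⟩ : ∃ j, a j < ι j := by
        by_contra hh
        push Not at hh
        refine hι (funext fun j => ?_)
        have hle : ∀ i ∈ Finset.univ, (ι i : ℕ) ≤ (a i : ℕ) := fun i _ => hh i
        have heq := (Finset.sum_eq_sum_iff_of_le hle).mp (le_antisymm (Finset.sum_le_sum hle) (by omega))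
        exact Fin.ext (heq j (Finset.mem_univ j))
      rw [(qm G).map_coord_zero j (by rw [hgt _ _ hj, TensorMax.pure_zero_right, mulVec_zero]), mul_zero, mul_zero]
  · exact fun h => absurd (Finset.mem_univ a) h

end Orbit

namespace Sq

variable [Fintype F] {T : TForm γ γ F} {X : Subgroup (GL (γ × γ) F)} (h : Sq T X)

include h

theorem qm_kron {g : GL (γ × γ) F} (hg : g ∈ X) (hK : IsKron g) (y : Fin 4 → γ × γ → F) :
    qm T.G₂ (fun j => (g : Matrix (γ × γ) (γ × γ) F) *ᵥ y j) = qm T.G₂ y := by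
  obtain ⟨a, b, hab⟩ := hK
  have hmu : ∀ z : Fin 4 → γ × γ → F,
      quartic T.G₂ T.G₂ (fun j => (g : Matrix (γ × γ) (γ × γ) F) *ᵥ z j) = quartic T.G₂ T.G₂ z := fun z => by
    have := T.mu_kron (h.ov.isIso hg) hab z
    rwa [TForm.mu, TForm.mu, h.eq] at this
  rw [qm_apply, qm_apply, hmu, hmu fun j => y (j + 1)]

theorem odd_char : Odd (ringChar F) := by
  haveI := h.char
  refine (Fact.out : (ringChar F).Prime).odd_of_ne_two fun h' => h.ov.two ?_
  have := CharP.cast_eq_zero F (ringChar F)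
  rw [h'] at this
  exact_mod_cast this

theorem qm_wr {g : GL (γ × γ) F} (hg : g ∈ X) (hW : Wr g) (y : Fin 4 → γ × γ → F) :
    qm T.G₂ (fun j => (g : Matrix (γ × γ) (γ × γ) F) *ᵥ y j) = qm T.G₂ y := by
  rcases hW with hK | hK
  · exact h.qm_kron hg hK y
  · obtain ⟨a, b, hab⟩ := hK
    have hiso : T.IsIso ((g * swapGL γ F : GL (γ × γ) F) : Matrix (γ × γ) (γ × γ) F) := by
      rw [Units.val_mul]
      refine TForm.IsIso.mul T (h.ov.isIso hg) ((T.isIso_iff _).mpr ?_)
      rw [TForm.G, h.eq, swapGL_val]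
      have ht : (swapMat γ F)ᵀ = swapMat γ F := by
        ext p r
        simp only [swapMat, transpose_apply, Matrix.of_apply]
        exact if_congr ⟨fun e => by rw [e, Prod.swap_swap], fun e => by rw [e, Prod.swap_swap]⟩ rfl rfl
      rw [ht, swap_kron_swap]
    have hmu : ∀ z : Fin 4 → γ × γ → F, quartic T.G₂ T.G₂
        (fun j => ((g * swapGL γ F : GL (γ × γ) F) : Matrix (γ × γ) (γ × γ) F) *ᵥ z j) = quartic T.G₂ T.G₂ z :=
      fun z => by
        have := T.mu_kron hiso hab z
        rwa [TForm.mu, TForm.mu, h.eq] at this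
    have e1 : ∀ j, (g : Matrix (γ × γ) (γ × γ) F) *ᵥ y j =
        ((g * swapGL γ F : GL (γ × γ) F) : Matrix (γ × γ) (γ × γ) F) *ᵥ (swapMat γ F *ᵥ y j) := fun j => by
      rw [Units.val_mul, swapGL_val, mulVec_mulVec, Matrix.mul_assoc, swapMat_mul_self, Matrix.mul_one]
    conv_rhs => rw [← qm_swap y]
    simp only [e1]
    rw [qm_apply, qm_apply, hmu (fun j => swapMat γ F *ᵥ y j), hmu (fun j => swapMat γ F *ᵥ y (j + 1))]

set_option maxHeartbeats 1000000 in
/-- The difference of the symmetrised quartic and its transpose is invariant. -/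
theorem invariant {g : GL (γ × γ) F} (hg : g ∈ X) (y : Fin 4 → γ × γ → F) :
    qm T.G₂ (fun j => (g : Matrix (γ × γ) (γ × γ) F) *ᵥ y j) -
        qm T.G₂ (fun j => (g : Matrix (γ × γ) (γ × γ) F) *ᵥ y (Equiv.swap 1 2 j)) =
      qm T.G₂ y - qm T.G₂ (fun j => y (Equiv.swap 1 2 j)) := by
  classical
  have h3 := h.three
  set τ : Equiv.Perm (Fin 4) := Equiv.swap 1 2 with hτ
  let H : Subgroup X := (wrSub γ F).subgroupOf X
  have hH : ∀ a : X, a ∈ H ↔ Wr (a : GL (γ × γ) F) := fun a => Iff.rfl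
  letI : Fintype (X ⧸ H) := Fintype.ofFinite _
  let act : X → (Fin 4 → γ × γ → F) → Fin 4 → γ × γ → F := fun a z j =>
    ((a : GL (γ × γ) F) : Matrix (γ × γ) (γ × γ) F) *ᵥ z j
  have hact : ∀ a b : X, ∀ z, act (a * b) z = act a (act b z) := fun a b z => funext fun j => by
    simp only [act, Subgroup.coe_mul, Units.val_mul, mulVec_mulVec]
  let Φ : (Fin 4 → γ × γ → F) → X ⧸ H → F := fun z c => qm T.G₂ (act (Quotient.out c)⁻¹ z)
  have hΦ : ∀ z (a : X), Φ z (a : X ⧸ H) = qm T.G₂ (act a⁻¹ z) := by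
    intro z a
    obtain ⟨k, hk⟩ := QuotientGroup.mk_out_eq_mul H a
    show qm T.G₂ (act (Quotient.out (a : X ⧸ H))⁻¹ z) = _
    rw [hk, _root_.mul_inv_rev, hact]
    exact h.qm_wr (inv_mem (k : X).2) ((hH _).mp (H.inv_mem k.2)) _
  have hD : ∀ (a : X) z, ∑ c, Φ (act a z) c = ∑ c, Φ z c := by
    intro a z
    refine Fintype.sum_equiv (MulAction.toPerm (a⁻¹ : X)) _ _ fun c => ?_
    induction c using QuotientGroup.induction_on with
    | H b =>
      show _ = Φ z ((a⁻¹ * b : X) : X ⧸ H)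
      rw [hΦ, hΦ, _root_.mul_inv_rev, inv_inv, hact]
  let c₀ : X ⧸ H := ((1 : X) : X ⧸ H)
  have hgen : ∀ (φ : Multiplicative F →* X), (∀ t, φ t ∈ H) →
      (∀ t : Multiplicative F, t ≠ 1 → ∀ b : X,
        IsKron ((b : GL (γ × γ) F) * ((φ t : X) : GL (γ × γ) F) * (b : GL (γ × γ) F)⁻¹) → Wr (b : GL (γ × γ) F)) →
      (∀ t, (φ t : GL (γ × γ) F) ^ ringChar F = 1) →
      ∀ z z' : Fin 4 → γ × γ → F, (∀ M : Matrix (γ × γ) (γ × γ) F,
        ∑ t : F, qm T.G₂ (fun j => M *ᵥ (((φ (Multiplicative.ofAdd t) : GL (γ × γ) F) :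
            Matrix (γ × γ) (γ × γ) F) *ᵥ z j)) =
          ∑ t : F, qm T.G₂ (fun j => M *ᵥ (((φ (Multiplicative.ofAdd t) : GL (γ × γ) F) :
            Matrix (γ × γ) (γ × γ) F) *ᵥ z' j))) →
      ∑ c ∈ Finset.univ.erase c₀, Φ z c = ∑ c ∈ Finset.univ.erase c₀, Φ z' c := by
    intro φ hφH hfree hord z z' heq
    rw [← sub_eq_zero, ← Finset.sum_sub_distrib]
    letI : MulAction (Multiplicative F) (X ⧸ H) := MulAction.compHom _ φ
    have hsmul : ∀ (t : Multiplicative F) (a : X), t • (a : X ⧸ H) = ((φ t * a : X) : X ⧸ H) := fun t a => rfl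
    refine sum_zero_of_free (R := Multiplicative F) (fun c => Φ z c - Φ z' c) _ ?_ ?_ ?_
    · intro t c hc
      refine Finset.mem_erase.mpr ⟨fun h0 => (Finset.mem_erase.mp hc).1 ?_, Finset.mem_univ _⟩
      rw [eq_inv_smul_iff.mpr h0, hsmul, QuotientGroup.eq, mul_one]
      exact H.inv_mem (H.mul_mem (hφH _) H.one_mem)
    · intro t c hc hfix
      induction c using QuotientGroup.induction_on with
      | H a =>
        by_contra ht
        refine (Finset.mem_erase.mp hc).1 (QuotientGroup.eq.mpr ?_)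
        rw [hsmul, QuotientGroup.eq, _root_.mul_inv_rev] at hfix
        have hk : Wr ((a : GL (γ × γ) F)⁻¹ * ((φ t : X) : GL (γ × γ) F) * ((a : GL (γ × γ) F)⁻¹)⁻¹) := by
          have h3' : Wr (((a⁻¹ * (φ t)⁻¹ * a : X)⁻¹ : X) : GL (γ × γ) F) := (hH _).mp (H.inv_mem hfix)
          simpa [mul_assoc] using h3'
        have hK := kron_of_wr_odd hk h.odd_char (by rw [conj_pow, hord, mul_one, mul_inv_cancel])
        rw [mul_one]
        exact (hH _).mpr (hfree t ht a⁻¹ (by simpa using hK))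
    · intro c _
      induction c using QuotientGroup.induction_on with
      | H a =>
        rw [Finset.sum_sub_distrib, sub_eq_zero]
        have key : ∀ z : Fin 4 → γ × γ → F, ∑ t : Multiplicative F, Φ z (t • (a : X ⧸ H)) =
            ∑ t : F, qm T.G₂ (fun j => (((a⁻¹ : X) : GL (γ × γ) F) : Matrix (γ × γ) (γ × γ) F) *ᵥ
              (((φ (Multiplicative.ofAdd t) : GL (γ × γ) F) : Matrix (γ × γ) (γ × γ) F) *ᵥ z j)) := by
          intro z
          refine Fintype.sum_equiv (Multiplicative.toAdd.trans (Equiv.neg _)) _ _ fun t => ?_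
          rw [hsmul, hΦ, _root_.mul_inv_rev, hact, ← map_inv]
          rfl
        rw [key, key, heq]
  let Z : (Fin 4 → γ × γ → F) → F := fun z => ∑ c ∈ Finset.univ.erase c₀, Φ z c
  obtain ⟨e, x, f, hF⟩ := exists_frame' h3
  have hrev : ∀ i : Fin 3, ![f, x, e] (Fin.rev i) = ![e, x, f] i := fun i => by fin_cases i <;> rfl
  -- the two sides
  have hright : ∀ (v : Fin 4 → γ → F) (c : Fin 4 → F) (a : Fin 4 → Fin 3),
      Z (fun j => pure (v j) (c j • ![e, x, f] (a j))) =
        Z (fun j => pure (v j) (c (τ j) • ![e, x, f] (a (τ j)))) := by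
    intro v c a
    have main : ∀ (e x f : γ → F), Frame T.G₂ e x f → ∀ a : Fin 4 → Fin 3, ∑ j, (a j : ℕ) ≤ 4 →
        Z (fun j => pure (v j) (c j • ![e, x, f] (a j))) =
          Z (fun j => pure (v j) (c (τ j) • ![e, x, f] (a (τ j)))) := by
      intro e x f hF a ha
      choose r hrX hr using fun s => h.root_mem hF hF 0 s
      have hr' : ∀ s, (r s : Matrix (γ × γ) (γ × γ) F) = (1 : Matrix γ γ F) ⊗ₖ sie T.G₂ e (s • x) := fun s => by
        rw [hr, zero_smul, sie_zero]
      let φ : Multiplicative F →* X := MonoidHom.mk' (fun t => ⟨r t.toAdd, hrX _⟩) fun s t =>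
        Subtype.ext (Units.ext (by
          show (r (s * t).toAdd : Matrix (γ × γ) (γ × γ) F) =
            (r s.toAdd : Matrix (γ × γ) (γ × γ) F) * (r t.toAdd : Matrix (γ × γ) (γ × γ) F)
          rw [hr', hr', hr', ← mul_kronecker_mul, Matrix.one_mul, hF.sie_add h3, toAdd_mul]))
      refine hgen φ (fun t => (hH _).mpr (Or.inl (isKron_of_mat _ _ _ (hr t.toAdd)))) ?_
        (fun t => by have e0 := h.root_pow hF hF (hr t.toAdd); rw [pow_one] at e0; exact e0) _ _ fun M => ?_
      · intro t ht b hb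
        exact h.free hF (fun h0 => ht (Multiplicative.toAdd.injective (h0.trans toAdd_one.symm))) (hr t.toAdd)
          (hrX _) b.2 hb
      · have e1 : ∀ (c : Fin 4 → F) (a : Fin 4 → Fin 3) (t : F), (fun j => M *ᵥ
            (((φ (Multiplicative.ofAdd t) : GL (γ × γ) F) : Matrix (γ × γ) (γ × γ) F) *ᵥ
              pure (v j) (c j • ![e, x, f] (a j)))) =
            fun j => M *ᵥ pure (v j) (sie T.G₂ e (t • x) *ᵥ (c j • ![e, x, f] (a j))) := fun c a t =>
          funext fun j => by
            show M *ᵥ ((r t : Matrix (γ × γ) (γ × γ) F) *ᵥ _) = _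
            rw [hr', kron_mulVec_pure, one_mulVec]
        simp only [e1 c a, e1 (c ∘ τ) (a ∘ τ), Function.comp_apply] at *
        rw [show (fun t : F => qm T.G₂ fun j => M *ᵥ (((φ (Multiplicative.ofAdd t) : GL (γ × γ) F) :
            Matrix (γ × γ) (γ × γ) F) *ᵥ pure (v j) (c (τ j) • ![e, x, f] (a (τ j))))) =
            fun t : F => qm T.G₂ fun j => M *ᵥ pure (v j) (sie T.G₂ e (t • x) *ᵥ ((c ∘ τ) j • ![e, x, f] ((a ∘ τ) j)))
          from funext fun t => congrArg _ (e1 (c ∘ τ) (a ∘ τ) t), orbit_eq h.five h3 hF M v c a ha,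
          orbit_eq h.five h3 hF M v (c ∘ τ) (a ∘ τ) (le_of_eq_of_le (Equiv.sum_comp τ fun j => (a j : ℕ)) ha)]
        simp only [Function.comp_apply, Equiv.sum_comp τ fun j => (a j : ℕ),
          Equiv.prod_comp τ fun j => c j * ![1, x ⬝ᵥ T.G₂ *ᵥ x, -((x ⬝ᵥ T.G₂ *ᵥ x) / 2)] (a j)]
    by_cases ha : ∑ j, (a j : ℕ) ≤ 4
    · exact main e x f hF a ha
    · have h8 : ∑ j, (Fin.rev (a j) : ℕ) ≤ 4 := by
        have : ∑ j, (Fin.rev (a j) : ℕ) + ∑ j, (a j : ℕ) = 8 := by
          rw [← Finset.sum_add_distrib, Finset.sum_congr rfl fun j _ => show (Fin.rev (a j) : ℕ) + (a j : ℕ) = 2 by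
            rw [Fin.val_rev]; omega]
          simp
        omega
      simpa only [hrev] using main f x e (hF.symm h3) (fun j => Fin.rev (a j)) h8
  have hleft : ∀ (w : Fin 4 → γ → F) (c : Fin 4 → F) (a : Fin 4 → Fin 3),
      Z (fun j => pure (c j • ![e, x, f] (a j)) (w j)) =
        Z (fun j => pure (c (τ j) • ![e, x, f] (a (τ j))) (w j)) := by
    intro w c a
    have main : ∀ (e x f : γ → F), Frame T.G₂ e x f → ∀ a : Fin 4 → Fin 3, ∑ j, (a j : ℕ) ≤ 4 →
        Z (fun j => pure (c j • ![e, x, f] (a j)) (w j)) =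
          Z (fun j => pure (c (τ j) • ![e, x, f] (a (τ j))) (w j)) := by
      intro e x f hF a ha
      choose r hrX hr using fun s => h.root_mem hF hF s 0
      have hr' : ∀ s, (r s : Matrix (γ × γ) (γ × γ) F) = sie T.G₂ e (s • x) ⊗ₖ (1 : Matrix γ γ F) := fun s => by
        rw [hr, zero_smul, sie_zero]
      let φ : Multiplicative F →* X := MonoidHom.mk' (fun t => ⟨r t.toAdd, hrX _⟩) fun s t =>
        Subtype.ext (Units.ext (by
          show (r (s * t).toAdd : Matrix (γ × γ) (γ × γ) F) =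
            (r s.toAdd : Matrix (γ × γ) (γ × γ) F) * (r t.toAdd : Matrix (γ × γ) (γ × γ) F)
          rw [hr', hr', hr', ← mul_kronecker_mul, Matrix.one_mul, hF.sie_add h3, toAdd_mul]))
      refine hgen φ (fun t => (hH _).mpr (Or.inl (isKron_of_mat _ _ _ (hr t.toAdd)))) ?_
        (fun t => by have e0 := h.root_pow hF hF (hr t.toAdd); rw [pow_one] at e0; exact e0) _ _ fun M => ?_
      · intro t ht b hb
        have hfl : (flipEl (r t.toAdd) : Matrix (γ × γ) (γ × γ) F) =
            sie T.G₂ e ((0 : F) • x) ⊗ₖ sie T.G₂ e (t.toAdd • x) := by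
          show swapMat γ F * (r t.toAdd : Matrix (γ × γ) (γ × γ) F) * swapMat γ F = _
          rw [hr, swap_kron_swap]
        have hb' : IsKron (flipEl (b : GL (γ × γ) F) * flipEl (r t.toAdd) * (flipEl (b : GL (γ × γ) F))⁻¹) := by
          rw [← flipEl_inv, ← flipEl_mul, ← flipEl_mul]
          exact IsKron.flip hb
        have := h.flip.free hF (fun h0 => ht (Multiplicative.toAdd.injective (h0.trans toAdd_one.symm))) hfl
          (flipEl_mem (hrX _)) (flipEl_mem b.2) hb'
        simpa [flipEl_flipEl] using Wr.flip this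
      · have e1 : ∀ (c : Fin 4 → F) (a : Fin 4 → Fin 3) (t : F), (fun j => M *ᵥ
            (((φ (Multiplicative.ofAdd t) : GL (γ × γ) F) : Matrix (γ × γ) (γ × γ) F) *ᵥ
              pure (c j • ![e, x, f] (a j)) (w j))) =
            fun j => (M * swapMat γ F) *ᵥ pure (w j) (sie T.G₂ e (t • x) *ᵥ (c j • ![e, x, f] (a j))) := fun c a t =>
          funext fun j => by
            show M *ᵥ ((r t : Matrix (γ × γ) (γ × γ) F) *ᵥ _) = _
            rw [hr', kron_mulVec_pure, one_mulVec, ← mulVec_mulVec, ← swapGL_val, swapGL_mulVec_pure]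
        rw [show (fun t : F => qm T.G₂ fun j => M *ᵥ (((φ (Multiplicative.ofAdd t) : GL (γ × γ) F) :
            Matrix (γ × γ) (γ × γ) F) *ᵥ pure (c (τ j) • ![e, x, f] (a (τ j))) (w j))) =
            fun t : F => qm T.G₂ fun j =>
              (M * swapMat γ F) *ᵥ pure (w j) (sie T.G₂ e (t • x) *ᵥ ((c ∘ τ) j • ![e, x, f] ((a ∘ τ) j)))
          from funext fun t => congrArg _ (e1 (c ∘ τ) (a ∘ τ) t)]
        simp only [e1 c a]
        rw [orbit_eq h.five h3 hF _ w c a ha,
          orbit_eq h.five h3 hF _ w (c ∘ τ) (a ∘ τ) (le_of_eq_of_le (Equiv.sum_comp τ fun j => (a j : ℕ)) ha)]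
        simp only [Function.comp_apply, Equiv.sum_comp τ fun j => (a j : ℕ),
          Equiv.prod_comp τ fun j => c j * ![1, x ⬝ᵥ T.G₂ *ᵥ x, -((x ⬝ᵥ T.G₂ *ᵥ x) / 2)] (a j)]
    by_cases ha : ∑ j, (a j : ℕ) ≤ 4
    · exact main e x f hF a ha
    · have h8 : ∑ j, (Fin.rev (a j) : ℕ) ≤ 4 := by
        have : ∑ j, (Fin.rev (a j) : ℕ) + ∑ j, (a j : ℕ) = 8 := by
          rw [← Finset.sum_add_distrib, Finset.sum_congr rfl fun j _ => show (Fin.rev (a j) : ℕ) + (a j : ℕ) = 2 by
            rw [Fin.val_rev]; omega]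
          simp
        omega
      simpa only [hrev] using main f x e (hF.symm h3) (fun j => Fin.rev (a j)) h8
  have hZ : ∀ z, Z z - Z (fun j => z (τ j)) = 0 := by
    refine multi_zero (fun z => Z z - Z (fun j => z (τ j))) ?_
      {p | ∃ (c : F) (i k : Fin 3), p = pure (c • ![e, x, f] i) (![e, x, f] k)} ?_ ?_
    · intro j z a b
      have hu : ∀ a : γ × γ → F, (fun i => Function.update z j a (τ i)) =
          Function.update (fun i => z (τ i)) (τ.symm j) a := fun a =>
        Function.update_comp_equiv z τ j a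
      have hadd : ∀ (z : Fin 4 → γ × γ → F) (j : Fin 4),
          Z (Function.update z j (a + b)) = Z (Function.update z j a) + Z (Function.update z j b) := fun z j => by
        rw [← Finset.sum_add_distrib]
        refine Finset.sum_congr rfl fun c _ => ?_
        have : ∀ a : γ × γ → F, act (Quotient.out c)⁻¹ (Function.update z j a) = Function.update
            (act (Quotient.out c)⁻¹ z) j ((((Quotient.out c)⁻¹ : X) : GL (γ × γ) F).1 *ᵥ a) := fun a => by
          funext i
          exact Function.apply_update (fun _ w => (((Quotient.out c)⁻¹ : X) : GL (γ × γ) F).1 *ᵥ w) z j a i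
        simp only [Φ, this, mulVec_add, MultilinearMap.map_update_add]
      simp only [hu, hadd]
      ring
    · refine eq_top_iff.mpr fun p _ => ?_
      haveI : Nonempty (Fin 3) := ⟨0⟩
      have htop := (hF.indep h3).span_eq_top_of_card_eq_finrank
        (by rw [Fintype.card_fin, Module.finrank_pi, h.card])
      let bb := Module.Basis.mk (hF.indep h3) htop.ge
      have hbb : ∀ i, bb i = ![e, x, f] i := fun i => by rw [Module.Basis.mk_apply]
      have hdec : p = ∑ i : Fin 3, ∑ k : Fin 3, ∑ l : γ,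
          pure ((bb.repr (fun k' => p (l, k')) k * bb.repr (Pi.single l (1 : F)) i) • ![e, x, f] i) (![e, x, f] k) := by
        funext ⟨m, n⟩
        simp only [Finset.sum_apply, pure_apply, Pi.smul_apply, smul_eq_mul]
        have e1 : ∀ u : γ → F, ∀ n, ∑ k, bb.repr u k * ![e, x, f] k n = u n := fun u n => by
          have := congrFun (bb.sum_repr u) n
          simpa [Finset.sum_apply, hbb] using this
        calc p (m, n) = ∑ l, (Pi.single l (1 : F) : γ → F) m * p (l, n) := by simp [Pi.single_apply]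
          _ = ∑ l, (∑ i, bb.repr (Pi.single l (1 : F)) i * ![e, x, f] i m) *
                ∑ k, bb.repr (fun k' => p (l, k')) k * ![e, x, f] k n := by
              refine Finset.sum_congr rfl fun l _ => ?_
              rw [e1, e1]
          _ = _ := by
              simp only [Finset.sum_mul_sum]
              rw [Finset.sum_comm]
              refine Finset.sum_congr rfl fun i _ => ?_
              rw [Finset.sum_comm]
              exact Finset.sum_congr rfl fun k _ => Finset.sum_congr rfl fun l _ => by ring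
      rw [hdec]
      exact sum_mem fun i _ => sum_mem fun k _ => sum_mem fun l _ => AddSubmonoid.subset_closure ⟨_, i, k, rfl⟩
    intro z hz
    choose c i k hcik using hz
    have e1 := hright (fun j => c j • ![e, x, f] (i j)) (fun _ => 1) k
    have e2 := hleft (fun j => ![e, x, f] (k (τ j))) c i
    simp only [one_smul] at e1
    rw [sub_eq_zero, funext hcik, e1, e2]
  have hsplit : ∀ z, ∑ c, Φ z c = qm T.G₂ z + Z z := by
    intro z
    rw [← Finset.add_sum_erase _ _ (Finset.mem_univ c₀), hΦ, inv_one]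
    congr 2
    funext j
    simp [act]
  have e1 := hD ⟨g, hg⟩ y
  have e2 := hD ⟨g, hg⟩ (fun j => y (τ j))
  rw [hsplit, hsplit] at e1 e2
  have e3 := hZ (fun j => (g : Matrix (γ × γ) (γ × γ) F) *ᵥ y j)
  have e4 := hZ y
  show qm T.G₂ (act ⟨g, hg⟩ y) - qm T.G₂ (act ⟨g, hg⟩ fun j => y (τ j)) = _
  change qm T.G₂ (act ⟨g, hg⟩ y) + Z (act ⟨g, hg⟩ y) = _ at e1
  change Z (act ⟨g, hg⟩ y) - Z (act ⟨g, hg⟩ fun j => y (τ j)) = 0 at e3
  linear_combination e1 - e2 - e3 + e4

end Sq

end Cfsg.Lib.Classical.TensorOrth
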