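import Cfsg.Agent.Classical.TensorOrth.SqGeom
import Cfsg.Agent.Classical.TensorOrth.Main

/-!
# The tensor square of a three-dimensional orthogonal space: the exchange of the factors
-/

set_option autoImplicit false
set_option linter.unusedSectionVars false
set_option linter.unusedSimpArgs false
set_option linter.style.haveILetI false

namespace Cfsg.Lib.Classical.TensorOrth

open Matrix
open scoped Kronecker MatrixGroups
open Cfsg.Lib.Classical.TensorMax (pure pure_apply IsKron isKron_of_mat kron_mulVec_pure)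

universe u

variable {γ : Type} [Fintype γ] [DecidableEq γ] {F : Type u} [Field F]

/-- The exchange of the two factors, as a matrix. -/
def swapMat (γ : Type) [DecidableEq γ] (F : Type u) [Zero F] [One F] : Matrix (γ × γ) (γ × γ) F :=
  Matrix.of fun x y => if y = x.swap then 1 else 0

theorem swapMat_mulVec (z : γ × γ → F) : swapMat γ F *ᵥ z = fun x => z x.swap := by
  funext x
  simp [swapMat, Matrix.mulVec, dotProduct]

theorem swapMat_mul_self : swapMat γ F * swapMat γ F = 1 := by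
  refine Matrix.ext_of_mulVec_single fun j => ?_
  rw [← mulVec_mulVec, swapMat_mulVec, swapMat_mulVec, one_mulVec]
  funext x
  simp

/-- The exchange of the two factors. -/
def swapGL (γ : Type) [Fintype γ] [DecidableEq γ] (F : Type u) [Field F] : GL (γ × γ) F :=
  ⟨swapMat γ F, swapMat γ F, swapMat_mul_self, swapMat_mul_self⟩

theorem swapGL_val : ((swapGL γ F : GL (γ × γ) F) : Matrix (γ × γ) (γ × γ) F) = swapMat γ F := rfl

theorem swapGL_mul_self : swapGL γ F * swapGL γ F = 1 := Units.ext swapMat_mul_self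

theorem swapGL_inv : (swapGL γ F)⁻¹ = swapGL γ F := inv_eq_of_mul_eq_one_right swapGL_mul_self

theorem swapGL_mulVec_pure (v w : γ → F) :
    ((swapGL γ F : GL (γ × γ) F) : Matrix (γ × γ) (γ × γ) F) *ᵥ pure v w = pure w v := by
  rw [swapGL_val, swapMat_mulVec]
  funext x
  exact mul_comm _ _

/-- Matrices agreeing on pure tensors are equal. -/
theorem eq_of_pure {M N : Matrix (γ × γ) (γ × γ) F} (h : ∀ v w, M *ᵥ pure v w = N *ᵥ pure v w) : M = N :=
  Matrix.ext_of_mulVec_single fun ⟨i, k⟩ => by rw [← TensorMax.pure_single i k (1 : F), h]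

theorem swap_kron_swap (a b : Matrix γ γ F) : swapMat γ F * (a ⊗ₖ b) * swapMat γ F = b ⊗ₖ a := by
  refine eq_of_pure fun v w => ?_
  rw [← mulVec_mulVec, ← mulVec_mulVec, ← swapGL_val, swapGL_mulVec_pure, kron_mulVec_pure, swapGL_mulVec_pure,
    kron_mulVec_pure]

/-- The conjugate by the exchange of the factors. -/
def flipEl (g : GL (γ × γ) F) : GL (γ × γ) F := swapGL γ F * g * swapGL γ F

theorem flipEl_flipEl (g : GL (γ × γ) F) : flipEl (flipEl g) = g := by
  simp [flipEl, ← mul_assoc, mul_assoc _ (swapGL γ F) (swapGL γ F), swapGL_mul_self]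

theorem flipEl_mul (g k : GL (γ × γ) F) : flipEl (g * k) = flipEl g * flipEl k := by
  simp [flipEl, ← mul_assoc, mul_assoc _ (swapGL γ F) (swapGL γ F), swapGL_mul_self]

theorem flipEl_inv (g : GL (γ × γ) F) : flipEl g⁻¹ = (flipEl g)⁻¹ := by
  simp [flipEl, swapGL_inv, mul_assoc]

theorem flipEl_mulVec (g : GL (γ × γ) F) (v w : γ → F) :
    (flipEl g : Matrix (γ × γ) (γ × γ) F) *ᵥ pure v w =
      fun x => ((g : Matrix (γ × γ) (γ × γ) F) *ᵥ pure w v) x.swap := by
  rw [flipEl, Units.val_mul, Units.val_mul, ← mulVec_mulVec, swapGL_mulVec_pure, ← mulVec_mulVec, swapGL_val,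
    swapMat_mulVec]

theorem IsKron.flip [Nonempty γ] {g : GL (γ × γ) F} (h : IsKron g) : IsKron (flipEl g) := by
  obtain ⟨a, b, hab⟩ := h
  exact isKron_of_mat _ (b : Matrix γ γ F) (a : Matrix γ γ F)
    (by rw [flipEl, Units.val_mul, Units.val_mul, hab, swapGL_val, swap_kron_swap])

theorem isKron_inv {g : GL (γ × γ) F} (h : IsKron g) : IsKron g⁻¹ := (kronSub γ γ F).inv_mem' h

/-- Kronecker products, possibly composed with the exchange of the factors. -/
def Wr (g : GL (γ × γ) F) : Prop := IsKron g ∨ IsKron (g * swapGL γ F)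

variable [Nonempty γ]

theorem Wr.mul {g k : GL (γ × γ) F} (hg : Wr g) (hk : Wr k) : Wr (g * k) := by
  rcases hg with hg | hg <;> rcases hk with hk | hk
  · exact Or.inl (hg.mul hk)
  · exact Or.inr (by rw [mul_assoc]; exact hg.mul hk)
  · refine Or.inr ?_
    have := hg.mul (IsKron.flip hk)
    rwa [flipEl, ← mul_assoc, ← mul_assoc, mul_assoc g, swapGL_mul_self, mul_one] at this
  · refine Or.inl ?_
    have := hg.mul (IsKron.flip hk)
    rwa [flipEl, ← mul_assoc, ← mul_assoc, mul_assoc g, swapGL_mul_self, mul_one, mul_assoc, mul_assoc,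
      swapGL_mul_self, mul_one] at this

theorem Wr.inv {g : GL (γ × γ) F} (hg : Wr g) : Wr g⁻¹ := by
  rcases hg with hg | hg
  · exact Or.inl (isKron_inv hg)
  · refine Or.inr ?_
    have := IsKron.flip (isKron_inv hg)
    rwa [flipEl, _root_.mul_inv_rev, swapGL_inv, ← mul_assoc, swapGL_mul_self, one_mul] at this

theorem Wr.flip {g : GL (γ × γ) F} (hg : Wr g) : Wr (flipEl g) := by
  have hs : Wr (swapGL γ F) := Or.inr (by
    rw [swapGL_mul_self]
    exact isKron_of_mat _ 1 1 (by rw [one_kronecker_one]; rfl))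
  exact (hs.mul hg).mul hs

/-- The subgroup of Kronecker products and their composites with the exchange. -/
def wrSub (γ : Type) [Fintype γ] [DecidableEq γ] [Nonempty γ] (F : Type u) [Field F] : Subgroup (GL (γ × γ) F) where
  carrier := {g | Wr g}
  one_mem' := Or.inl (kronSub γ γ F).one_mem'
  mul_mem' := Wr.mul
  inv_mem' := Wr.inv

theorem mem_wrSub {g : GL (γ × γ) F} : g ∈ wrSub γ F ↔ Wr g := Iff.rfl

/-- The conjugate of a subgroup by the exchange. -/
def flipSub (X : Subgroup (GL (γ × γ) F)) : Subgroup (GL (γ × γ) F) where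
  carrier := {g | flipEl g ∈ X}
  one_mem' := by simp [flipEl, swapGL_mul_self, X.one_mem]
  mul_mem' := by intro a b ha hb; show flipEl (a * b) ∈ X; rw [flipEl_mul]; exact X.mul_mem ha hb
  inv_mem' := by intro a ha; show flipEl a⁻¹ ∈ X; rw [flipEl_inv]; exact X.inv_mem ha

theorem mem_flipSub {X : Subgroup (GL (γ × γ) F)} {g : GL (γ × γ) F} : g ∈ flipSub X ↔ flipEl g ∈ X := Iff.rfl

theorem flipSub_flipSub (X : Subgroup (GL (γ × γ) F)) : flipSub (flipSub X) = X :=
  SetLike.ext fun g => by rw [mem_flipSub, mem_flipSub, flipEl_flipEl]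

theorem flipEl_mem {X : Subgroup (GL (γ × γ) F)} {g : GL (γ × γ) F} (hg : g ∈ X) : flipEl g ∈ flipSub X := by
  rwa [mem_flipSub, flipEl_flipEl]

omit [Nonempty γ] in
theorem kron_right_cancel {M M' N : Matrix γ γ F} (hN : N ≠ 0) (h : M ⊗ₖ N = M' ⊗ₖ N) : M = M' := by
  obtain ⟨i, j, hij⟩ : ∃ i j, N i j ≠ 0 := by
    by_contra hh
    push Not at hh
    exact hN (Matrix.ext hh)
  ext a b
  have := congrFun (congrFun h (a, i)) (b, j)
  simp only [kroneckerMap_apply] at this
  exact mul_right_cancel₀ hij this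

omit [Nonempty γ] in
theorem kron_left_cancel {M N N' : Matrix γ γ F} (hM : M ≠ 0) (h : M ⊗ₖ N = M ⊗ₖ N') : N = N' := by
  obtain ⟨i, j, hij⟩ : ∃ i j, M i j ≠ 0 := by
    by_contra hh
    push Not at hh
    exact hM (Matrix.ext hh)
  ext a b
  have := congrFun (congrFun h (i, a)) (j, b)
  simp only [kroneckerMap_apply] at this
  exact mul_left_cancel₀ hij this

omit [Nonempty γ] in
theorem Uni.ne_zero {G a : Matrix γ γ F} (hd : G.det ≠ 0) [Nonempty γ] (ha : Uni G a) : a ≠ 0 := fun h0 => hd (by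
  rw [← ha.1, h0, Matrix.mul_zero, det_zero])

/-- The pairing of pure tensors. -/
theorem pure_dot (A B : Matrix γ γ F) (v v' w w' : γ → F) :
    pure v w ⬝ᵥ (A ⊗ₖ B) *ᵥ pure v' w' = (v ⬝ᵥ A *ᵥ v') * (w ⬝ᵥ B *ᵥ w') := by
  rw [kron_mulVec_pure]
  simp only [dotProduct, Fintype.sum_prod_type, Finset.sum_mul_sum, pure_apply]
  exact Finset.sum_congr rfl fun i _ => Finset.sum_congr rfl fun j _ => by ring

/-- A group between the stabiliser of the tensor square in `Ω` and `Ω`, with scalar centres on both sides. -/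
structure Sq [Fintype F] (T : TForm γ γ F) (X : Subgroup (GL (γ × γ) F)) : Prop where
  ov : T.Over X
  ov' : T.Over (flipSub X)
  eq : T.G₁ = T.G₂
  card : Fintype.card γ = 3
  five : 5 ≤ Fintype.card F
  stab : T.StabKron X
  stab' : T.StabKron (flipSub X)

namespace Sq

variable [Fintype F] {T : TForm γ γ F} {X : Subgroup (GL (γ × γ) F)} (h : Sq T X)

include h

theorem three : Three T.G₂ := ⟨T.symm₂, T.det₂, h.ov.two, h.card⟩

theorem flip : Sq T (flipSub X) :=
  ⟨h.ov', by rw [flipSub_flipSub]; exact h.ov, h.eq, h.card, h.five, h.stab', by rw [flipSub_flipSub]; exact h.stab⟩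

theorem char : Fact (ringChar F).Prime := ⟨CharP.char_is_prime F (ringChar F)⟩

/-- The products of Siegel elements lie in `X`. -/
theorem root_mem {e₁ x₁ f₁ e₂ x₂ f₂ : γ → F} (h₁ : Frame T.G₂ e₁ x₁ f₁) (h₂ : Frame T.G₂ e₂ x₂ f₂) (r s : F) :
    ∃ g ∈ X, (g : Matrix (γ × γ) (γ × γ) F) = sie T.G₂ e₁ (r • x₁) ⊗ₖ sie T.G₂ e₂ (s • x₂) := by
  obtain ⟨g₁, hg₁, e₁'⟩ := h.ov.sie₁_mem (e := e₁) (z := r • x₁) (by rw [TForm.B₁, h.eq]; exact h₁.ee)
    (by rw [TForm.B₁, h.eq, mulVec_smul, dotProduct_smul, h₁.ex, smul_zero])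
  obtain ⟨g₂, hg₂, e₂'⟩ := h.ov.sie₂_mem (e := e₂) (z := s • x₂) h₂.ee
    (by rw [TForm.B₂, mulVec_smul, dotProduct_smul, h₂.ex, smul_zero])
  exact ⟨g₁ * g₂, mul_mem hg₁ hg₂, by
    rw [Units.val_mul, e₁', e₂', ← mul_kronecker_mul, Matrix.mul_one, Matrix.one_mul, h.eq]⟩

/-- Products of Siegel elements have order dividing the characteristic. -/
theorem root_pow {e₁ x₁ f₁ e₂ x₂ f₂ : γ → F} (h₁ : Frame T.G₂ e₁ x₁ f₁) (h₂ : Frame T.G₂ e₂ x₂ f₂) {r s : F}
    {g : GL (γ × γ) F} (hg : (g : Matrix (γ × γ) (γ × γ) F) = sie T.G₂ e₁ (r • x₁) ⊗ₖ sie T.G₂ e₂ (s • x₂)) :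
    g ^ ringChar F ^ 1 = 1 := by
  have hp : ∀ {e x f : γ → F}, Frame T.G₂ e x f → ∀ (c : F) (n : ℕ),
      sie T.G₂ e (c • x) ^ n = sie T.G₂ e (((n : F) * c) • x) := by
    intro e x f hF c n
    induction n with
    | zero => rw [pow_zero, Nat.cast_zero, zero_mul, zero_smul, sie_zero]
    | succ n ih => rw [pow_succ, ih, hF.sie_add h.three, Nat.cast_succ, add_mul, one_mul]
  refine Units.ext ?_
  rw [Units.val_pow_eq_pow_val, hg, pow_one, TensorMax.kron_pow, hp h₁, hp h₂, CharP.cast_eq_zero, zero_mul,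
    zero_mul, zero_smul, zero_smul, sie_zero, sie_zero, one_kronecker_one, Units.val_one]

/-- The factors of a conjugate of a product of Siegel elements lying in the Kronecker products. -/
theorem unip_factors {k : GL (γ × γ) F} (hk : k ∈ X) (hK : IsKron k) (hp : k ^ ringChar F ^ 1 = 1) :
    ∃ a b, Uni T.G₂ a ∧ Uni T.G₂ b ∧ (k : Matrix (γ × γ) (γ × γ) F) = a ⊗ₖ b := by
  haveI := h.char
  obtain ⟨a, b, hab, ha, hb, hna, hnb⟩ := TForm.kron_unip h.ov hk hK hp
  rw [h.eq] at ha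
  exact ⟨a, b, ⟨ha, hna⟩, ⟨hb, hnb⟩, hab⟩

/-- An element mapping `U ⊗ e` into `U ⊗ y` is a Kronecker product. -/
theorem kron_of_right {g : GL (γ × γ) F} (hg : g ∈ X) {e y : γ → F} (he0 : e ≠ 0) (he : e ⬝ᵥ T.G₂ *ᵥ e = 0)
    (hgA : ∀ v, ∃ v', (g : Matrix (γ × γ) (γ × γ) F) *ᵥ pure v e = pure v' y) : IsKron g := by
  choose A hA using hgA
  refine TForm.kron_of_image h.ov h.stab hg he0 he (y := y) (A := Matrix.of fun i j => A (Pi.single j 1) i)
    (Matrix.ext_of_mulVec_single fun j => ?_)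
  rw [← mulVec_mulVec, ← mulVec_mulVec, inc_mulVec, inc_mulVec, hA, mulVec_single_one]
  rfl

/-- An element mapping `e ⊗ U` into `y ⊗ U` is a Kronecker product. -/
theorem kron_of_left {g : GL (γ × γ) F} (hg : g ∈ X) {e y : γ → F} (he0 : e ≠ 0) (he : e ⬝ᵥ T.G₂ *ᵥ e = 0)
    (hgA : ∀ v, ∃ v', (g : Matrix (γ × γ) (γ × γ) F) *ᵥ pure e v = pure y v') : IsKron g := by
  have : IsKron (flipEl g) := h.flip.kron_of_right (flipEl_mem hg) he0 he (y := y) fun v => by
    obtain ⟨v', hv'⟩ := hgA v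
    refine ⟨v', ?_⟩
    rw [flipEl_mulVec, hv']
    funext x
    exact mul_comm _ _
  simpa [flipEl_flipEl] using IsKron.flip this

end Sq

end Cfsg.Lib.Classical.TensorOrth
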