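import Cfsg.Agent.Classical.TensorOrth.SqBase

/-!
# A conjugate of a root element of one factor lies in the wreath product only for the obvious reason
-/

set_option autoImplicit false
set_option linter.unusedSectionVars false
set_option linter.unusedSimpArgs false
set_option linter.style.haveILetI false

namespace Cfsg.Lib.Classical.TensorOrth

open Matrix
open scoped Kronecker MatrixGroups
open Cfsg.Lib.Classical.TensorMax (pure pure_apply IsKron isKron_of_mat kron_mulVec_pure)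

universe u

variable {γ : Type} [Fintype γ] [DecidableEq γ] [Nonempty γ] {F : Type u} [Field F]

theorem sie_expand (G : Matrix γ γ F) (e x : γ → F) (s : F) :
    sie G e (s • x) = 1 + s • (vecMulVec e (G *ᵥ x) - vecMulVec x (G *ᵥ e)) +
      (s * s) • (-((x ⬝ᵥ G *ᵥ x) / 2) • vecMulVec e (G *ᵥ e)) := by
  simp only [sie, mulVec_smul, vecMulVec_smul, smul_vecMulVec, dotProduct_smul, smul_dotProduct, smul_eq_mul,
    smul_sub, smul_smul]
  module

theorem Frame.sq_root {G : Matrix γ γ F} {e x f : γ → F} (hF : Frame G e x f) (h3 : Three G) (s : F) :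
    (sie G e (s • x) - 1) * (sie G e (s • x) - 1) = (-(s * s * (x ⬝ᵥ G *ᵥ x))) • vecMulVec e (G *ᵥ e) := by
  have hv : ∀ z, vecMulVec e (G *ᵥ e) *ᵥ z = (e ⬝ᵥ G *ᵥ z) • e := fun z => by
    rw [vecMulVec_mulVec, op_smul_eq_smul, dotProduct_comm, bf_comm h3.symm e z]
  have he : (sie G e (s • x) - 1) *ᵥ e = 0 := by rw [sub_mulVec, one_mulVec, hF.sie_e h3, sub_self]
  have hx : (sie G e (s • x) - 1) *ᵥ x = (s * (x ⬝ᵥ G *ᵥ x)) • e := by
    rw [sub_mulVec, one_mulVec, hF.sie_x h3, add_sub_cancel_left]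
  refine hF.ext h3 ?_ ?_ ?_
  · rw [← mulVec_mulVec, he, mulVec_zero, smul_mulVec, hv, hF.ee, zero_smul, smul_zero]
  · rw [← mulVec_mulVec, hx, mulVec_smul, he, smul_zero, smul_mulVec, hv, hF.ex, zero_smul, smul_zero]
  · have hf : (sie G e (s • x) - 1) *ᵥ f = -(s • x) - (s * s * (x ⬝ᵥ G *ᵥ x) / 2) • e := by
      rw [sub_mulVec, one_mulVec, hF.sie_f h3]
      abel
    rw [← mulVec_mulVec, hf, mulVec_sub, mulVec_neg, mulVec_smul, mulVec_smul, he, hx, smul_zero, sub_zero,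
      smul_mulVec, hv, hF.ef, one_smul, smul_smul, neg_smul, mul_assoc]

/-- A product of Siegel elements determines its parameters. -/
theorem Frame.params_eq {G : Matrix γ γ F} {e₁ x₁ f₁ e₂ x₂ f₂ : γ → F} (h₁ : Frame G e₁ x₁ f₁)
    (h₂ : Frame G e₂ x₂ f₂) (h3 : Three G) {r s r' s' : F}
    (h : sie G e₁ (r • x₁) ⊗ₖ sie G e₂ (s • x₂) = sie G e₁ (r' • x₁) ⊗ₖ sie G e₂ (s' • x₂)) : r = r' ∧ s = s' := by
  have h' := fun u v => congrArg (fun M => pure u v ⬝ᵥ (G ⊗ₖ G) *ᵥ (M *ᵥ pure f₁ f₂)) h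
  simp only [kron_mulVec_pure] at h'
  have e1 := h' x₁ e₂
  have e2 := h' e₁ x₂
  rw [← kron_mulVec_pure G G, ← kron_mulVec_pure G G, pure_dot, pure_dot, h₁.pair_x h3, h₁.pair_x h3, h₂.pair_e h3,
    h₂.pair_e h3, mul_one, mul_one, neg_inj] at e1
  rw [← kron_mulVec_pure G G, ← kron_mulVec_pure G G, pure_dot, pure_dot, h₂.pair_x h3, h₂.pair_x h3, h₁.pair_e h3,
    h₁.pair_e h3, one_mul, one_mul, neg_inj] at e2
  exact ⟨mul_right_cancel₀ h₁.xx e1, mul_right_cancel₀ h₂.xx e2⟩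

/-- A matrix of rank one on the second factor. -/
theorem one_kron_rank_one (y φ : γ → F) (z : γ × γ → F) :
    ((1 : Matrix γ γ F) ⊗ₖ vecMulVec y φ) *ᵥ z = pure (ev γ φ *ᵥ z) y := by
  rw [← inc_mul_ev, Matrix.mul_one, ← mulVec_mulVec, inc_mulVec]

theorem one_kron_sq (S : Matrix γ γ F) :
    ((1 : Matrix γ γ F) ⊗ₖ S - 1) * ((1 : Matrix γ γ F) ⊗ₖ S - 1) =
      (1 : Matrix γ γ F) ⊗ₖ ((S - 1) * (S - 1)) := by
  have h : (1 : Matrix γ γ F) ⊗ₖ S - 1 = (1 : Matrix γ γ F) ⊗ₖ (S - 1) := by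
    rw [sub_eq_iff_eq_add, ← one_kronecker_one (m := γ) (n := γ), ← kronecker_add, sub_add_cancel]
  rw [h, ← mul_kronecker_mul, Matrix.one_mul]

/-- An element carrying a root element of the second factor to another carries `U ⊗ e` to `U ⊗ e'`. -/
theorem image_line {G : Matrix γ γ F} (h3 : Three G) {e x f e' x' f' : γ → F} (hF : Frame G e x f)
    (hF' : Frame G e' x' f') {s s' : F} (hs : s ≠ 0) {M : Matrix (γ × γ) (γ × γ) F}
    (h : M * ((1 : Matrix γ γ F) ⊗ₖ sie G e (s • x)) = ((1 : Matrix γ γ F) ⊗ₖ sie G e' (s' • x')) * M) (v : γ → F) :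
    ∃ v', M *ᵥ pure v e = pure v' e' := by
  set c := -(s * s * (x ⬝ᵥ G *ᵥ x)) with hc
  set c' := -(s' * s' * (x' ⬝ᵥ G *ᵥ x')) with hc'
  have hc0 : c ≠ 0 := neg_ne_zero.mpr (mul_ne_zero (mul_ne_zero hs hs) hF.xx)
  have h1 : M * ((1 : Matrix γ γ F) ⊗ₖ sie G e (s • x) - 1) =
      ((1 : Matrix γ γ F) ⊗ₖ sie G e' (s' • x') - 1) * M := by
    rw [Matrix.mul_sub, Matrix.sub_mul, h, Matrix.mul_one, Matrix.one_mul]
  have h2 : M * (((1 : Matrix γ γ F) ⊗ₖ sie G e (s • x) - 1) * ((1 : Matrix γ γ F) ⊗ₖ sie G e (s • x) - 1)) =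
      ((1 : Matrix γ γ F) ⊗ₖ sie G e' (s' • x') - 1) * ((1 : Matrix γ γ F) ⊗ₖ sie G e' (s' • x') - 1) * M := by
    rw [← Matrix.mul_assoc, h1, Matrix.mul_assoc, h1, Matrix.mul_assoc]
  rw [one_kron_sq, one_kron_sq, hF.sq_root h3, hF'.sq_root h3, ← hc, ← hc', kronecker_smul, kronecker_smul] at h2
  have h4 := congrArg (fun N => N *ᵥ pure v f) h2
  simp only [← mulVec_mulVec, smul_mulVec, mulVec_smul, kron_mulVec_pure, one_mulVec, one_kron_rank_one] at h4
  have hef : (G *ᵥ e) ⬝ᵥ f = 1 := by rw [dotProduct_comm]; exact hF.fe h3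
  rw [vecMulVec_mulVec, op_smul_eq_smul, hef, one_smul] at h4
  refine ⟨c⁻¹ • c' • (ev γ (G *ᵥ e') *ᵥ (M *ᵥ pure v f)), ?_⟩
  rw [TensorMax.pure_smul_left, TensorMax.pure_smul_left, ← h4, smul_smul, inv_mul_cancel₀ hc0, one_smul]

/-- The mirror of `image_line`. -/
theorem image_line_left {G : Matrix γ γ F} (h3 : Three G) {e x f e' x' f' : γ → F} (hF : Frame G e x f)
    (hF' : Frame G e' x' f') {s s' : F} (hs : s ≠ 0) {M : Matrix (γ × γ) (γ × γ) F}
    (h : M * (sie G e (s • x) ⊗ₖ (1 : Matrix γ γ F)) = ((1 : Matrix γ γ F) ⊗ₖ sie G e' (s' • x')) * M) (v : γ → F) :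
    ∃ v', M *ᵥ pure e v = pure v' e' := by
  obtain ⟨v', hv'⟩ := image_line h3 hF hF' (s' := s') hs (M := M * swapMat γ F) (by
    rw [Matrix.mul_assoc, show swapMat γ F * ((1 : Matrix γ γ F) ⊗ₖ sie G e (s • x)) =
        (sie G e (s • x) ⊗ₖ (1 : Matrix γ γ F)) * swapMat γ F by
      rw [← swap_kron_swap (1 : Matrix γ γ F) (sie G e (s • x)), Matrix.mul_assoc (swapMat γ F * _),
        swapMat_mul_self, Matrix.mul_one], ← Matrix.mul_assoc, h, Matrix.mul_assoc]) v
  refine ⟨v', ?_⟩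
  rw [← hv', ← mulVec_mulVec, ← swapGL_val, swapGL_mulVec_pure]

/-- An element mapping every `U ⊗ e`, `e` singular, into some `U ⊗ y` is a Kronecker product. -/
theorem kron_of_parallel [Finite F] {G : Matrix γ γ F} (h3 : Three G) {g : GL (γ × γ) F}
    (h : ∀ e, e ≠ 0 → e ⬝ᵥ G *ᵥ e = 0 → ∃ y, ∀ v, ∃ v', (g : Matrix (γ × γ) (γ × γ) F) *ᵥ pure v e = pure v' y) :
    IsKron g := by
  classical
  set M : Matrix (γ × γ) (γ × γ) F := (g : Matrix (γ × γ) (γ × γ) F) with hM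
  obtain ⟨e, x, f, hF⟩ := exists_frame' h3
  set q := (x ⬝ᵥ G *ᵥ x) / 2 with hq
  set p : Fin 3 → γ → F := ![e - x - q • f, e + x - q • f, f] with hp
  have hq0 : q ≠ 0 := div_ne_zero hF.xx h3.two
  have hq2 : q + q = x ⬝ᵥ G *ᵥ x := by rw [hq, ← add_div, ← two_mul, mul_div_assoc, mul_div_cancel₀ _ h3.two]
  have hps : ∀ i, p i ⬝ᵥ G *ᵥ p i = 0 := by
    intro i
    fin_cases i <;>
      simp [hp, mulVec_sub, mulVec_add, mulVec_smul, hF.ee, hF.ff, hF.ef, hF.ex, hF.fx, hF.fe h3, hF.xe h3,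
        hF.xf h3] <;> linear_combination -hq2
  set c : Fin 3 → F := ![2⁻¹, 2⁻¹, q] with hc
  have hc0 : ∀ i, c i ≠ 0 := fun i => by fin_cases i <;> simp [hc, h3.two, hq0]
  have hec : e = ∑ i, c i • p i := by
    have h22 : (2 : F)⁻¹ + 2⁻¹ = 1 := by rw [← two_mul, mul_inv_cancel₀ h3.two]
    simp only [Fin.sum_univ_three, hc, hp, Matrix.cons_val_zero, Matrix.cons_val_one, Matrix.cons_val]
    funext a
    simp only [Pi.add_apply, Pi.smul_apply, Pi.sub_apply, smul_eq_mul]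
    linear_combination (-(e a) + q * f a) * h22
  have hcard : Fintype.card (Fin 3) = Module.finrank F (γ → F) := by rw [Fintype.card_fin, Module.finrank_pi, h3.card]
  have hptop : ⊤ ≤ Submodule.span F (Set.range p) := by
    intro v _
    have h22 : (2 : F)⁻¹ * 2 = 1 := inv_mul_cancel₀ h3.two
    have hx : x ∈ Submodule.span F (Set.range p) := by
      have : x = (2 : F)⁻¹ • (p 1 - p 0) := by
        funext a
        simp only [hp, Matrix.cons_val_zero, Matrix.cons_val_one, Pi.smul_apply, Pi.sub_apply, Pi.add_apply,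
          smul_eq_mul]
        linear_combination (-(x a)) * h22
      rw [this]
      exact Submodule.smul_mem _ _ (sub_mem (Submodule.subset_span ⟨1, rfl⟩) (Submodule.subset_span ⟨0, rfl⟩))
    have he : e ∈ Submodule.span F (Set.range p) := by
      rw [hec]
      exact Submodule.sum_mem _ fun i _ => Submodule.smul_mem _ _ (Submodule.subset_span ⟨i, rfl⟩)
    have hf : f ∈ Submodule.span F (Set.range p) := Submodule.subset_span ⟨2, rfl⟩
    rw [hF.expand h3 v]
    exact add_mem (add_mem (Submodule.smul_mem _ _ he) (Submodule.smul_mem _ _ hx)) (Submodule.smul_mem _ _ hf)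
  let bp := Module.Basis.mk (linearIndependent_of_top_le_span_of_card_eq_finrank hptop hcard) hptop
  have hbp : ∀ i, bp i = p i := fun i => by rw [Module.Basis.mk_apply]
  have hp0 : ∀ i, p i ≠ 0 := fun i => by rw [← hbp]; exact bp.ne_zero i
  choose y hy using fun i => h (p i) (hp0 i) (hps i)
  choose A hA using hy
  have hytop : ⊤ ≤ Submodule.span F (Set.range y) := by
    intro z _
    obtain ⟨i₀⟩ := ‹Nonempty γ›
    have hsur : ∀ w : γ × γ → F, ev γ (Pi.single i₀ 1) *ᵥ w = ev γ (Pi.single i₀ 1) *ᵥ w := fun _ => rfl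
    have hrange : ∀ w : γ × γ → F, ∀ j, (fun k => (M *ᵥ w) (j, k)) ∈ Submodule.span F (Set.range y) := by
      intro w j
      have hw : w ∈ Submodule.span F (Set.range fun ij : γ × Fin 3 => pure (Pi.single ij.1 (1 : F)) (p ij.2)) := by
        have hdec : w = ∑ l, pure (Pi.single l (1 : F)) (fun k => w (l, k)) := by
          funext ⟨a, b⟩
          simp [pure_apply, Finset.sum_apply, Pi.single_apply]
        rw [hdec]
        refine Submodule.sum_mem _ fun l _ => ?_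
        have hl := hptop (Submodule.mem_top (x := fun k => w (l, k)))
        have hle : Submodule.span F (Set.range p) ≤ (Submodule.span F (Set.range fun ij : γ × Fin 3 =>
            pure (Pi.single ij.1 (1 : F)) (p ij.2))).comap (TensorMax.pureR (Pi.single l (1 : F))) := by
          rw [Submodule.span_le]
          rintro _ ⟨i, rfl⟩
          exact Submodule.subset_span ⟨(l, i), rfl⟩
        exact hle hl
      induction hw using Submodule.span_induction with
      | mem u hu =>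
        obtain ⟨⟨l, i⟩, rfl⟩ := hu
        simp only [hA]
        exact Submodule.smul_mem _ (A i (Pi.single l 1) j) (Submodule.subset_span ⟨i, rfl⟩)
      | zero => simp only [mulVec_zero]; exact zero_mem _
      | add a b _ _ ha hb => simp only [mulVec_add, Pi.add_apply]; exact add_mem ha hb
      | smul r a _ ha => simp only [mulVec_smul, Pi.smul_apply]; exact Submodule.smul_mem _ r ha
    have := hrange (((g⁻¹ : GL (γ × γ) F) : Matrix (γ × γ) (γ × γ) F) *ᵥ pure (Pi.single i₀ (1 : F)) z) i₀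
    rw [hM, mulVec_mulVec, ← Units.val_mul, mul_inv_cancel, Units.val_one, one_mulVec] at this
    simpa [pure_apply] using this
  let by' := Module.Basis.mk (linearIndependent_of_top_le_span_of_card_eq_finrank hytop hcard) hytop
  have hby : ∀ i, by' i = y i := fun i => by rw [Module.Basis.mk_apply]
  obtain ⟨y₀, hy₀⟩ := h e hF.ne hF.ee
  choose A₀ hA₀ using hy₀
  set d : Fin 3 → F := fun i => by'.repr y₀ i with hd
  have hy₀d : y₀ = ∑ i, d i • y i := by
    conv_lhs => rw [← by'.sum_repr y₀]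
    exact Finset.sum_congr rfl fun i _ => by rw [hby]
  have key : ∀ v i, c i • A i v = d i • A₀ v := by
    intro v i
    have e1 : ∑ l, pure (c l • A l v) (y l) = ∑ l, pure (d l • A₀ v) (y l) := by
      calc ∑ l, pure (c l • A l v) (y l) = ∑ l, c l • (M *ᵥ pure v (p l)) :=
            Finset.sum_congr rfl fun l _ => by rw [hA, TensorMax.pure_smul_left]
        _ = M *ᵥ pure v e := by
            conv_rhs => rw [hec, show pure v (∑ l, c l • p l) = ∑ l, c l • pure v (p l) by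
              funext ⟨a, b⟩
              simp only [pure_apply, Finset.sum_apply, Pi.smul_apply, smul_eq_mul, Finset.mul_sum]
              exact Finset.sum_congr rfl fun l _ => by ring]
            rw [mulVec_sum]
            exact Finset.sum_congr rfl fun l _ => (mulVec_smul _ _ _).symm
        _ = pure (A₀ v) y₀ := hA₀ v
        _ = ∑ l, pure (d l • A₀ v) (y l) := by
            rw [hy₀d]
            funext ⟨a, b⟩
            simp only [pure_apply, Finset.sum_apply, Pi.smul_apply, smul_eq_mul, Finset.mul_sum]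
            exact Finset.sum_congr rfl fun l _ => by ring
    funext a
    have e2 : ∑ l, ((c l • A l v) a - (d l • A₀ v) a) • y l = 0 := by
      funext b
      have := congrFun e1 (a, b)
      simp only [Finset.sum_apply, pure_apply] at this
      simp only [Finset.sum_apply, Pi.smul_apply, smul_eq_mul, Pi.zero_apply, sub_mul, Finset.sum_sub_distrib]
      exact sub_eq_zero.mpr this
    exact sub_eq_zero.mp (Fintype.linearIndependent_iff.mp
      (linearIndependent_of_top_le_span_of_card_eq_finrank hytop hcard) _ e2 i)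
  obtain ⟨ψ, hψ⟩ : ∃ ψ : γ → F, ψ ⬝ᵥ y₀ = 1 := by
    have hy0 : y₀ ≠ 0 := fun h0 => by
      have h1 := hA₀ e
      rw [h0, TensorMax.pure_zero_right] at h1
      exact TensorMax.pure_ne_zero hF.ne hF.ne (Matrix.eq_zero_of_mulVec_eq_zero
        (((Matrix.isUnit_iff_isUnit_det _).mp g.isUnit).ne_zero) h1)
    obtain ⟨k, hk⟩ := Function.ne_iff.mp hy0
    exact ⟨Pi.single k (y₀ k)⁻¹, by rw [single_dotProduct]; exact inv_mul_cancel₀ hk⟩
  set Am : Matrix γ γ F := ev γ ψ * M * inc γ e with hAm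
  have hA0 : ∀ v, Am *ᵥ v = A₀ v := fun v => by
    rw [hAm, ← mulVec_mulVec, ← mulVec_mulVec, inc_mulVec, hM, hA₀, ev_mulVec_pure, hψ, one_smul]
  let L : (γ → F) →ₗ[F] (γ → F) := bp.constr F fun i => (d i / c i) • y i
  refine isKron_of_mat g Am (LinearMap.toMatrix' L) (eq_of_pure fun v w => ?_)
  rw [kron_mulVec_pure, hA0, LinearMap.toMatrix'_mulVec]
  have hlin : (M.mulVecLin.comp (TensorMax.pureR v)) = (TensorMax.pureR (A₀ v)).comp L := by
    refine bp.ext fun i => ?_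
    show M *ᵥ pure v (bp i) = pure (A₀ v) (L (bp i))
    rw [Module.Basis.constr_basis, hbp, hM, hA, TensorMax.pure_smul_right, ← TensorMax.pure_smul_left,
      div_eq_inv_mul, ← smul_smul, ← key, smul_smul, inv_mul_cancel₀ (hc0 i), one_smul]
  exact LinearMap.congr_fun hlin w

namespace Sq

variable [Fintype F] {T : TForm γ γ F} {X : Subgroup (GL (γ × γ) F)} (h : Sq T X)

include h

/-- An additive family of parameters given by quadratic polynomials is one-sided. -/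
theorem line_split {g : GL (γ × γ) F} {R : F → GL (γ × γ) F} {A B : Matrix (γ × γ) (γ × γ) F}
    (hR : ∀ s, (R s : Matrix (γ × γ) (γ × γ) F) = 1 + s • A + (s * s) • B) (hR0 : R 0 = 1)
    (hR2 : ∀ s, R s * R s = R (s + s))
    {e₁ x₁ f₁ e₂ x₂ f₂ : γ → F} (h₁ : Frame T.G₂ e₁ x₁ f₁) (h₂ : Frame T.G₂ e₂ x₂ f₂) {α β : F → F}
    (hW : ∀ s, ((g * R s * g⁻¹ : GL (γ × γ) F) : Matrix (γ × γ) (γ × γ) F) =
      sie T.G₂ e₁ (α s • x₁) ⊗ₖ sie T.G₂ e₂ (β s • x₂)) :
    (∀ s, α s = 0) ∨ ∀ s, β s = 0 := by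
  classical
  set H : Matrix (γ × γ) (γ × γ) F := (g : Matrix (γ × γ) (γ × γ) F)
  set H' : Matrix (γ × γ) (γ × γ) F := ((g⁻¹ : GL (γ × γ) F) : Matrix (γ × γ) (γ × γ) F)
  have h3 := h.three
  let φ : (γ → F) → (γ → F) → Matrix (γ × γ) (γ × γ) F → F := fun u v M =>
    pure u v ⬝ᵥ (T.G₂ ⊗ₖ T.G₂) *ᵥ (M *ᵥ pure f₁ f₂)
  have hexp : ∀ u v, ∃ c₀ c₁ c₂ : F, ∀ s,
      (u ⬝ᵥ T.G₂ *ᵥ (sie T.G₂ e₁ (α s • x₁) *ᵥ f₁)) * (v ⬝ᵥ T.G₂ *ᵥ (sie T.G₂ e₂ (β s • x₂) *ᵥ f₂)) =
        c₀ + s * c₁ + s * s * c₂ := by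
    intro u v
    refine ⟨φ u v (H * H'), φ u v (H * A * H'), φ u v (H * B * H'), fun s => ?_⟩
    have hs := congrArg (φ u v) (hW s)
    rw [Units.val_mul, Units.val_mul, hR] at hs
    simp only [φ, kron_mulVec_pure (sie T.G₂ e₁ (α s • x₁)), pure_dot] at hs
    rw [← hs]
    simp only [φ, Matrix.mul_add, Matrix.add_mul, Matrix.mul_smul, Matrix.smul_mul, Matrix.mul_one, add_mulVec,
      smul_mulVec, mulVec_add, mulVec_smul, dotProduct_add, dotProduct_smul, smul_eq_mul]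
    rfl
  have hzero : α 0 = 0 ∧ β 0 = 0 := by
    refine h₁.params_eq h₂ h3 ?_
    rw [← hW, hR0, mul_one, mul_inv_cancel, Units.val_one, zero_smul, zero_smul, sie_zero, sie_zero,
      one_kronecker_one]
  have hdbl : ∀ s, α (s + s) = α s + α s ∧ β (s + s) = β s + β s := fun s => by
    refine h₁.params_eq h₂ h3 ?_
    rw [← hW, ← h₁.sie_add h3, ← h₂.sie_add h3, mul_kronecker_mul, ← hW, ← Units.val_mul]
    congr 1
    rw [← hR2]
    group
  have lin : ∀ (w : F → F) (c₀ c₁ c₂ : F), (∀ s, w s = c₀ + s * c₁ + s * s * c₂) → w 0 = 0 →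
      (∀ s, w (s + s) = w s + w s) → ∃ m, ∀ s, w s = s * m := by
    intro w c₀ c₁ c₂ hw h0 hd
    have e0 := hw 0
    rw [h0] at e0
    have hc : (2 : F) * c₂ = 0 := by
      have := hd 1
      rw [hw, hw] at this
      linear_combination this - e0
    refine ⟨c₁, fun s => ?_⟩
    rw [hw, (mul_eq_zero.mp hc).resolve_left h3.two]
    linear_combination -e0
  have key1 : ∃ p, ∀ s, α s = s * p := by
    obtain ⟨c₀, c₁, c₂, hc⟩ := hexp x₁ e₂
    refine lin α (-c₀ / (x₁ ⬝ᵥ T.G₂ *ᵥ x₁)) (-c₁ / (x₁ ⬝ᵥ T.G₂ *ᵥ x₁)) (-c₂ / (x₁ ⬝ᵥ T.G₂ *ᵥ x₁))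
      (fun s => ?_) hzero.1 (fun s => (hdbl s).1)
    have := hc s
    rw [h₁.pair_x h3, h₂.pair_e h3, mul_one] at this
    field_simp [h₁.xx]
    linear_combination -this
  have key2 : ∃ r, ∀ s, β s = s * r := by
    obtain ⟨c₀, c₁, c₂, hc⟩ := hexp e₁ x₂
    refine lin β (-c₀ / (x₂ ⬝ᵥ T.G₂ *ᵥ x₂)) (-c₁ / (x₂ ⬝ᵥ T.G₂ *ᵥ x₂)) (-c₂ / (x₂ ⬝ᵥ T.G₂ *ᵥ x₂))
      (fun s => ?_) hzero.2 (fun s => (hdbl s).2)
    have := hc s
    rw [h₂.pair_x h3, h₁.pair_e h3, one_mul] at this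
    field_simp [h₂.xx]
    linear_combination -this
  obtain ⟨p, hp⟩ := key1
  obtain ⟨r, hr⟩ := key2
  obtain ⟨c₀, c₁, c₂, hc⟩ := hexp f₁ f₂
  set κ := p * p * (r * r) * ((x₁ ⬝ᵥ T.G₂ *ᵥ x₁) / 2) * ((x₂ ⬝ᵥ T.G₂ *ᵥ x₂) / 2) with hκ
  have hk : ∀ s, s * s * (s * s) * κ = c₀ + s * c₁ + s * s * c₂ := fun s => by
    rw [← hc, h₁.pair_f h3, h₂.pair_f h3, hp, hr, hκ]
    field_simp
  by_cases hκ0 : κ = 0
  · rw [hκ] at hκ0
    simp only [mul_eq_zero, div_eq_zero_iff, h₁.xx, h₂.xx, h3.two, or_false, or_self] at hκ0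
    rcases hκ0 with h0 | h0
    · exact Or.inl fun s => by rw [hp, h0, mul_zero]
    · exact Or.inr fun s => by rw [hr, h0, mul_zero]
  exfalso
  have e0 := hk 0
  have e1 := hk 1
  have em := hk (-1)
  have hc1 : c₁ = 0 := (mul_eq_zero.mp (by linear_combination em - e1 : (2 : F) * c₁ = 0)).resolve_left h3.two
  have hsub : (Finset.univ : Finset F) ⊆ {0, 1, -1} := by
    intro s _
    simp only [Finset.mem_insert, Finset.mem_singleton]
    rcases eq_or_ne s 0 with h0 | h0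
    · exact Or.inl h0
    right
    have : (s - 1) * (s + 1) * (s * s * κ) = 0 := by
      linear_combination hk s - e0 - (s * s) * e1 + (s * s) * e0 + (s - s * s) * hc1
    rcases mul_eq_zero.mp this with h1 | h1
    · rcases mul_eq_zero.mp h1 with h1 | h1
      · exact Or.inl (sub_eq_zero.mp h1)
      · exact Or.inr (eq_neg_of_add_eq_zero_left h1)
    · exact absurd h1 (mul_ne_zero (mul_ne_zero h0 h0) hκ0)
  have := (Finset.card_le_card hsub).trans Finset.card_le_three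
  rw [Finset.card_univ] at this
  have := h.five
  omega

/-- Elements of order `p` commuting with a root element of the second factor. -/
theorem centr_split {e x f : γ → F} (hF : Frame T.G₂ e x f) {s : F} (hs : s ≠ 0) {k : GL (γ × γ) F} (hk : k ∈ X)
    (hp : k ^ ringChar F ^ 1 = 1)
    (hc : (k : Matrix (γ × γ) (γ × γ) F) * ((1 : Matrix γ γ F) ⊗ₖ sie T.G₂ e (s • x)) =
      ((1 : Matrix γ γ F) ⊗ₖ sie T.G₂ e (s • x)) * (k : Matrix (γ × γ) (γ × γ) F)) :
    ∃ (c : Matrix γ γ F) (r : F), Uni T.G₂ c ∧ (k : Matrix (γ × γ) (γ × γ) F) = c ⊗ₖ sie T.G₂ e (r • x) := by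
  have hK : IsKron k := h.kron_of_right hk hF.ne hF.ee (image_line h.three hF hF hs hc)
  obtain ⟨a, b, ha, hb, hab⟩ := h.unip_factors hk hK hp
  rw [hab, ← mul_kronecker_mul, ← mul_kronecker_mul, Matrix.mul_one, Matrix.one_mul] at hc
  obtain ⟨r, hr⟩ := hF.of_comm h.three hs hb (kron_left_cancel (ha.ne_zero T.det₂) hc)
  exact ⟨a, r, ha, by rw [hab, hr]⟩

/-- Elements of order `p` commuting with a root element of the first factor. -/
theorem centr_split_left {e x f : γ → F} (hF : Frame T.G₂ e x f) {s : F} (hs : s ≠ 0) {k : GL (γ × γ) F} (hk : k ∈ X)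
    (hp : k ^ ringChar F ^ 1 = 1)
    (hc : (k : Matrix (γ × γ) (γ × γ) F) * (sie T.G₂ e (s • x) ⊗ₖ (1 : Matrix γ γ F)) =
      (sie T.G₂ e (s • x) ⊗ₖ (1 : Matrix γ γ F)) * (k : Matrix (γ × γ) (γ × γ) F)) :
    ∃ (r : F) (c : Matrix γ γ F), Uni T.G₂ c ∧ (k : Matrix (γ × γ) (γ × γ) F) = sie T.G₂ e (r • x) ⊗ₖ c := by
  have hv : (flipEl k : Matrix (γ × γ) (γ × γ) F) =
      swapMat γ F * (k : Matrix (γ × γ) (γ × γ) F) * swapMat γ F := rfl
  have hp' : flipEl k ^ ringChar F ^ 1 = 1 := by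
    have : ∀ n : ℕ, flipEl k ^ n = flipEl (k ^ n) := fun n => by
      induction n with
      | zero => simp [flipEl, swapGL_mul_self]
      | succ n ih => rw [pow_succ, ih, ← flipEl_mul, pow_succ]
    rw [this, hp]
    simp [flipEl, swapGL_mul_self]
  obtain ⟨c, r, hcU, e'⟩ := h.flip.centr_split hF hs (flipEl_mem hk) hp' (by
    rw [hv, ← swap_kron_swap (sie T.G₂ e (s • x)) (1 : Matrix γ γ F)]
    simp only [Matrix.mul_assoc]
    rw [← Matrix.mul_assoc (swapMat γ F) (swapMat γ F), swapMat_mul_self, Matrix.one_mul,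
      ← Matrix.mul_assoc (swapMat γ F) (swapMat γ F), swapMat_mul_self, Matrix.one_mul,
      ← Matrix.mul_assoc (k : Matrix (γ × γ) (γ × γ) F), hc, Matrix.mul_assoc])
  refine ⟨r, c, hcU, ?_⟩
  calc (k : Matrix (γ × γ) (γ × γ) F)
      = swapMat γ F * (flipEl k : Matrix (γ × γ) (γ × γ) F) * swapMat γ F := by
        rw [hv, ← Matrix.mul_assoc, ← Matrix.mul_assoc, swapMat_mul_self, Matrix.one_mul, Matrix.mul_assoc,
          swapMat_mul_self, Matrix.mul_one]
    _ = _ := by rw [e', swap_kron_swap]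

/-- A root element of the second factor has only the obvious conjugates in the wreath product. -/
theorem free {e x f : γ → F} (hF : Frame T.G₂ e x f) {s₀ : F} (hs₀ : s₀ ≠ 0) {t g : GL (γ × γ) F}
    (et : (t : Matrix (γ × γ) (γ × γ) F) = sie T.G₂ e ((0 : F) • x) ⊗ₖ sie T.G₂ e (s₀ • x)) (ht : t ∈ X)
    (hg : g ∈ X) (hk : IsKron (g * t * g⁻¹)) : Wr g := by
  classical
  have h3 := h.three
  have h0 : ∀ (e x : γ → F), sie T.G₂ e ((0 : F) • x) = 1 := fun e x => by rw [zero_smul, sie_zero]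
  choose R hRX hRv using fun s => h.root_mem hF hF 0 s
  have ht' : t = R s₀ := Units.ext (by rw [et, hRv])
  have htp : (g * t * g⁻¹) ^ ringChar F ^ 1 = 1 := by
    rw [conj_pow, h.root_pow hF hF et, mul_one, mul_inv_cancel]
  obtain ⟨a, b, ha, hb, hab⟩ := h.unip_factors (mul_mem (mul_mem hg ht) (inv_mem hg)) hk htp
  rw [h0] at et
  simp only [h0] at hRv
  have hne1 : g * t * g⁻¹ ≠ 1 := fun he => by
    have : t = 1 := by
      calc t = g⁻¹ * (g * t * g⁻¹) * g := by group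
        _ = 1 := by rw [he]; group
    rw [this, Units.val_one, ← one_kronecker_one (m := γ) (n := γ)] at et
    refine hs₀ (hF.params_eq hF h3 (r := 0) (r' := 0) (s' := 0) ?_).2
    rw [h0]; exact et.symm
  have hGt : (g : Matrix (γ × γ) (γ × γ) F) * (t : Matrix (γ × γ) (γ × γ) F) =
      ((g * t * g⁻¹ : GL (γ × γ) F) : Matrix (γ × γ) (γ × γ) F) * (g : Matrix (γ × γ) (γ × γ) F) := by
    rw [← Units.val_mul, ← Units.val_mul, inv_mul_cancel_right]
  have hR0 : R 0 = 1 := Units.ext (by rw [hRv, h0, one_kronecker_one, Units.val_one])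
  have hR2 : ∀ u v, R u * R v = R (u + v) := fun u v => Units.ext (by
    rw [Units.val_mul, hRv, hRv, hRv, ← mul_kronecker_mul, Matrix.one_mul, hF.sie_add h3])
  have hRexp : ∃ A B : Matrix (γ × γ) (γ × γ) F,
      ∀ s, (R s : Matrix (γ × γ) (γ × γ) F) = 1 + s • A + (s * s) • B :=
    ⟨_, _, fun s => by
      rw [hRv, sie_expand, kronecker_add, kronecker_add, one_kronecker_one, kronecker_smul, kronecker_smul]⟩
  by_cases ha1 : a = 1
  · subst ha1
    have hb1 : b ≠ 1 := by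
      rintro rfl
      exact hne1 (Units.ext (by rw [hab, one_kronecker_one, Units.val_one]))
    obtain ⟨e', x', f', s', hF', -, rfl⟩ := hb.eq_sie h3 hb1
    rw [et, hab] at hGt
    exact Or.inl (h.kron_of_right hg hF.ne hF.ee (image_line h3 hF hF' hs₀ hGt))
  obtain ⟨e₁, x₁, f₁, s₁, h₁, hs₁, rfl⟩ := ha.eq_sie h3 ha1
  by_cases hb1 : b = 1
  · subst hb1
    -- the crossed case
    have hcent : ∀ k ∈ X, k ^ ringChar F ^ 1 = 1 → k * t = t * k →
        ∃ (r : F) (c : Matrix γ γ F), Uni T.G₂ c ∧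
          ((g * k * g⁻¹ : GL (γ × γ) F) : Matrix (γ × γ) (γ × γ) F) = sie T.G₂ e₁ (r • x₁) ⊗ₖ c := by
      intro k hkX hkp hkt
      refine h.centr_split_left h₁ hs₁ (mul_mem (mul_mem hg hkX) (inv_mem hg))
        (by rw [conj_pow, hkp, mul_one, mul_inv_cancel]) ?_
      rw [← hab, ← Units.val_mul, ← Units.val_mul]
      congr 1
      calc g * k * g⁻¹ * (g * t * g⁻¹) = g * (k * t) * g⁻¹ := by group
        _ = g * (t * k) * g⁻¹ := by rw [hkt]
        _ = _ := by group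
    have fam : ∀ (Q : F → GL (γ × γ) F), (∀ u, Q u ∈ X) → (∀ u, Q u ^ ringChar F ^ 1 = 1) →
        (∀ u, Q u * t = t * Q u) → (∀ u v, Q u * Q v = Q v * Q u) →
        ∃ e₂ x₂ f₂, ∃ α β : F → F, Frame T.G₂ e₂ x₂ f₂ ∧ ∀ u,
          ((g * Q u * g⁻¹ : GL (γ × γ) F) : Matrix (γ × γ) (γ × γ) F) =
            sie T.G₂ e₁ (α u • x₁) ⊗ₖ sie T.G₂ e₂ (β u • x₂) := by
      intro Q hQX hQp hQt hQc
      choose α c hcU hQv using fun u => hcent (Q u) (hQX u) (hQp u) (hQt u)
      obtain ⟨e₂, x₂, f₂, h₂, hc₂⟩ := common_line h3 (Set.range c) (by rintro _ ⟨u, rfl⟩; exact hcU u) (by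
        rintro _ ⟨u, rfl⟩ _ ⟨v, rfl⟩
        have he : (g * Q u * g⁻¹) * (g * Q v * g⁻¹) = (g * Q v * g⁻¹) * (g * Q u * g⁻¹) := by
          calc (g * Q u * g⁻¹) * (g * Q v * g⁻¹) = g * (Q u * Q v) * g⁻¹ := by group
            _ = g * (Q v * Q u) * g⁻¹ := by rw [hQc]
            _ = _ := by group
        have he' := congrArg Units.val he
        rw [Units.val_mul (g * Q u * g⁻¹), Units.val_mul (g * Q v * g⁻¹) (g * Q u * g⁻¹), hQv, hQv,
          ← mul_kronecker_mul, ← mul_kronecker_mul, h₁.sie_comm h3] at he'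
        exact kron_left_cancel (by rw [h₁.sie_add h3]; exact (h₁.sie_uni h3 _).ne_zero T.det₂) he')
      choose β hβ using fun u => hc₂ _ ⟨u, rfl⟩
      exact ⟨e₂, x₂, f₂, α, β, h₂, fun u => by rw [hQv, hβ]⟩
    obtain ⟨A, B, hAB⟩ := hRexp
    obtain ⟨e₂, x₂, f₂, α, β, h₂, hW⟩ := fam R hRX (fun u => h.root_pow hF hF (r := 0) (s := u) (by rw [hRv, h0]))
      (fun u => by rw [ht', hR2, hR2, add_comm]) (fun u v => by rw [hR2, hR2, add_comm])
    have hα0 : α s₀ = s₁ ∧ β s₀ = 0 := h₁.params_eq h₂ h3 (by rw [← hW, ← ht', hab, h0])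
    have hβ : ∀ u, β u = 0 := (h.line_split hAB hR0 (fun u => hR2 u u) h₁ h₂ hW).resolve_left
      fun hh => hs₁ (by rw [← hα0.1, hh])
    have hαinj : Function.Injective α := fun u v huv => by
      have hh : g * R u * g⁻¹ = g * R v * g⁻¹ := Units.ext (by rw [hW, hW, huv, hβ, hβ])
      have := congrArg Units.val (mul_left_cancel (mul_right_cancel hh))
      rw [hRv, hRv] at this
      exact (hF.params_eq hF h3 (r := 0) (r' := 0) (by rw [h0]; exact this)).2
    refine Or.inr (kron_of_parallel h3 fun e' he'0 he' => ?_)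
    obtain ⟨x', f', hF'⟩ := exists_frame h3 he'0 he'
    choose S hSX hSv using fun u => h.root_mem hF' hF u 0
    simp only [h0] at hSv
    have hS2 : ∀ u v, S u * S v = S (u + v) := fun u v => Units.ext (by
      rw [Units.val_mul, hSv, hSv, hSv, ← mul_kronecker_mul, Matrix.one_mul, hF'.sie_add h3])
    have hS0 : S 0 = 1 := Units.ext (by rw [hSv, h0, one_kronecker_one, Units.val_one])
    obtain ⟨w, xw, fw, α', β', hw, hW'⟩ := fam S hSX (fun u => h.root_pow hF' hF (r := u) (s := 0) (by rw [hSv, h0]))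
      (fun u => Units.ext (by
        rw [Units.val_mul, Units.val_mul, hSv, et, ← mul_kronecker_mul, ← mul_kronecker_mul, Matrix.mul_one,
          Matrix.one_mul, Matrix.one_mul, Matrix.mul_one]))
      (fun u v => by rw [hS2, hS2, add_comm])
    have hSexp : ∀ u, (S u : Matrix (γ × γ) (γ × γ) F) =
        1 + u • ((vecMulVec e' (T.G₂ *ᵥ x') - vecMulVec x' (T.G₂ *ᵥ e')) ⊗ₖ (1 : Matrix γ γ F)) +
        (u * u) • ((-((x' ⬝ᵥ T.G₂ *ᵥ x') / 2) • vecMulVec e' (T.G₂ *ᵥ e')) ⊗ₖ (1 : Matrix γ γ F)) := fun u => by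
      rw [hSv, sie_expand, add_kronecker, add_kronecker, one_kronecker_one, smul_kronecker, smul_kronecker]
    have hα' : ∀ u, α' u = 0 := by
      refine (h.line_split hSexp hS0 (fun u => hS2 u u) h₁ hw hW').resolve_right fun hh => ?_
      obtain ⟨u, hu⟩ := Finite.injective_iff_surjective.mp hαinj (α' 1)
      have he : g * R u * g⁻¹ = g * S 1 * g⁻¹ := Units.ext (by rw [hW, hW', hu, hβ, hh, h0, h0])
      have he' := congrArg Units.val (mul_left_cancel (mul_right_cancel he))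
      rw [hRv, hSv] at he'
      exact zero_ne_one (hF'.params_eq hF h3 (r := 0) (r' := (1 : F)) (s := u) (s' := 0)
        (by rw [h0, h0]; exact he')).1
    refine ⟨w, fun v => ?_⟩
    have hM : (g : Matrix (γ × γ) (γ × γ) F) * (sie T.G₂ e' ((1 : F) • x') ⊗ₖ (1 : Matrix γ γ F)) =
        ((1 : Matrix γ γ F) ⊗ₖ sie T.G₂ w (β' 1 • xw)) * (g : Matrix (γ × γ) (γ × γ) F) := by
      rw [← hSv, ← h0 e₁ x₁, ← hα' 1, ← hW', ← Units.val_mul, ← Units.val_mul, inv_mul_cancel_right]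
    obtain ⟨v', hv'⟩ := image_line_left h3 hF' hw one_ne_zero hM v
    exact ⟨v', by rw [Units.val_mul, ← mulVec_mulVec, swapGL_mulVec_pure, hv']⟩
  -- both factors non-trivial
  exfalso
  obtain ⟨e₂, x₂, f₂, s₂, h₂, hs₂, rfl⟩ := hb.eq_sie h3 hb1
  choose Q hQX hQv using fun z : F × F => h.root_mem h₁ h₂ z.1 z.2
  have hcent : ∀ z, ∃ (c : Matrix γ γ F) (r : F), Uni T.G₂ c ∧
      ((g⁻¹ * Q z * g : GL (γ × γ) F) : Matrix (γ × γ) (γ × γ) F) = c ⊗ₖ sie T.G₂ e (r • x) := by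
    intro z
    refine h.centr_split hF hs₀ (mul_mem (mul_mem (inv_mem hg) (hQX z)) hg) ?_ ?_
    · have := conj_pow (a := g⁻¹) (b := Q z) (i := ringChar F ^ 1)
      rw [inv_inv, h.root_pow h₁ h₂ (hQv z), mul_one, inv_mul_cancel] at this
      exact this
    · rw [← et, ← Units.val_mul, ← Units.val_mul]
      congr 1
      have hq : Q z * (g * t * g⁻¹) = g * t * g⁻¹ * Q z := Units.ext (by
        rw [Units.val_mul, Units.val_mul (g * t * g⁻¹), hab, hQv, ← mul_kronecker_mul, ← mul_kronecker_mul,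
          h₁.sie_comm h3, h₂.sie_comm h3])
      calc g⁻¹ * Q z * g * t = g⁻¹ * (Q z * (g * t * g⁻¹)) * g := by group
        _ = g⁻¹ * (g * t * g⁻¹ * Q z) * g := by rw [hq]
        _ = _ := by group
  choose c δ hcU hQc using hcent
  obtain ⟨e', x', f', hF', hc'⟩ := common_line h3 (Set.range c) (by rintro _ ⟨z, rfl⟩; exact hcU z) (by
    rintro _ ⟨u, rfl⟩ _ ⟨v, rfl⟩
    have hQQ : Q u * Q v = Q v * Q u := Units.ext (by
      rw [Units.val_mul, Units.val_mul, hQv, hQv, ← mul_kronecker_mul, ← mul_kronecker_mul, h₁.sie_comm h3,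
        h₂.sie_comm h3])
    have he : (g⁻¹ * Q u * g) * (g⁻¹ * Q v * g) = (g⁻¹ * Q v * g) * (g⁻¹ * Q u * g) := by
      calc (g⁻¹ * Q u * g) * (g⁻¹ * Q v * g) = g⁻¹ * (Q u * Q v) * g := by group
        _ = g⁻¹ * (Q v * Q u) * g := by rw [hQQ]
        _ = _ := by group
    have he' := congrArg Units.val he
    rw [Units.val_mul (g⁻¹ * Q u * g), Units.val_mul (g⁻¹ * Q v * g) (g⁻¹ * Q u * g), hQc, hQc,
      ← mul_kronecker_mul, ← mul_kronecker_mul, hF.sie_comm h3] at he'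
    exact kron_right_cancel (by rw [hF.sie_add h3]; exact (hF.sie_uni h3 _).ne_zero T.det₂) he')
  choose ρ hρ using fun z => hc' _ ⟨z, rfl⟩
  have hinj : Function.Injective fun z => (ρ z, δ z) := fun u v huv => by
    simp only [Prod.mk.injEq] at huv
    have he : g⁻¹ * Q u * g = g⁻¹ * Q v * g := Units.ext (by rw [hQc, hQc, hρ, hρ, huv.1, huv.2])
    have he' := congrArg Units.val (mul_left_cancel (mul_right_cancel he))
    rw [hQv, hQv] at he'
    exact Prod.ext (h₁.params_eq h₂ h3 he').1 (h₁.params_eq h₂ h3 he').2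
  choose z hz using fun s : F => Finite.injective_iff_surjective.mp hinj (0, s)
  have hW : ∀ s, ((g * R s * g⁻¹ : GL (γ × γ) F) : Matrix (γ × γ) (γ × γ) F) =
      sie T.G₂ e₁ ((z s).1 • x₁) ⊗ₖ sie T.G₂ e₂ ((z s).2 • x₂) := fun s => by
    have hz' := hz s
    simp only [Prod.mk.injEq] at hz'
    have he : g⁻¹ * Q (z s) * g = R s := Units.ext (by rw [hQc, hρ, hz'.1, hz'.2, h0, hRv])
    rw [← hQv, ← he]
    congr 1
    group
  obtain ⟨A, B, hAB⟩ := hRexp
  have hs := h₁.params_eq h₂ h3 ((hW s₀).symm.trans (by rw [← ht', hab]))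
  rcases h.line_split hAB hR0 (fun u => hR2 u u) h₁ h₂ hW with hh | hh
  · exact hs₁ (by rw [← hs.1, hh])
  · exact hs₂ (by rw [← hs.2, hh])

end Sq

end Cfsg.Lib.Classical.TensorOrth
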