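import Cfsg.Agent.Classical.TensorOrth.SqAvg
import Cfsg.Agent.Classical.TensorOrth.Transfer

/-!
# The stabiliser of a tensor square of a three-dimensional orthogonal space is maximal in `Ω`
-/

set_option autoImplicit false
set_option linter.unusedSectionVars false
set_option linter.unusedSimpArgs false
set_option linter.style.haveILetI false

namespace Cfsg.Lib.Classical.TensorOrth

open Matrix
open scoped Kronecker MatrixGroups
open Cfsg.Lib.Classical.TensorMax (pure pure_apply IsKron isKron_of_mat kron_mulVec_pure)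

universe u

variable {γ : Type} [Fintype γ] [DecidableEq γ] [Nonempty γ] {F : Type u} [Field F]

theorem toM_pure (a b : γ → F) : toM (pure a b) = vecMulVec a b := by
  ext i j; rfl

theorem dot_pure (x : γ × γ → F) (a b : γ → F) : x ⬝ᵥ pure a b = a ⬝ᵥ toM x *ᵥ b := by
  simp only [dotProduct, Matrix.mulVec, Fintype.sum_prod_type, pure_apply, Finset.mul_sum, toM_apply]
  exact Finset.sum_congr rfl fun i _ => Finset.sum_congr rfl fun j _ => by ring

theorem pair_pure {G : Matrix γ γ F} (hG : Gᵀ = G) (x : γ × γ → F) (a b : γ → F) :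
    x ⬝ᵥ (G ⊗ₖ G) *ᵥ pure a b = a ⬝ᵥ (G * toM x * G) *ᵥ b := by
  rw [kron_mulVec_pure, dot_pure, ← mulVec_mulVec, ← mulVec_mulVec, dotProduct_mulVec a G, ← mulVec_transpose, hG]

/-- The difference on a pair of pure tensors and a repeated vector. -/
theorem delta_eval {G : Matrix γ γ F} (hG : Gᵀ = G) (x : γ × γ → F) (p q u r : γ → F) :
    qm G ![x, pure p q, x, pure u r] - qm G (fun j => ![x, pure p q, x, pure u r] (Equiv.swap 1 2 j)) =
      2 * ((u ⬝ᵥ (G * toM x * G) *ᵥ q) * (p ⬝ᵥ (G * toM x * G) *ᵥ r)) -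
        (q ⬝ᵥ G *ᵥ r) * (u ⬝ᵥ (G * toM x * G * (toM x)ᵀ * G) *ᵥ p) -
        (p ⬝ᵥ G *ᵥ u) * (r ⬝ᵥ (G * (toM x)ᵀ * G * toM x * G) *ᵥ q) := by
  have hs : (fun j => ![x, pure p q, x, pure u r] (Equiv.swap 1 2 j)) = ![x, x, pure p q, pure u r] := by
    funext j
    fin_cases j <;> rfl
  rw [hs, qm_apply, qm_apply]
  simp only [quartic, show (0 : Fin 4) + 1 = 1 from rfl, show (1 : Fin 4) + 1 = 2 from rfl,
    show (2 : Fin 4) + 1 = 3 from rfl, show (3 : Fin 4) + 1 = 0 from rfl, Matrix.cons_val_zero, Matrix.cons_val_one,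
    Matrix.cons_val, toM_pure, transpose_vecMulVec]
  set X := toM x
  have hv : ∀ (M : Matrix γ γ F) (a : γ → F), a ᵥ* M = Mᵀ *ᵥ a := fun M a => (mulVec_transpose M a).symm
  simp only [Matrix.mul_assoc, mul_vecMulVec, vecMulVec_mul, vecMulVec_mul_vecMulVec, Matrix.mul_smul,
    Matrix.smul_mul, trace_smul, trace_vecMulVec, smul_eq_mul, mulVec_mulVec, vecMul_vecMul, hv, transpose_mul, hG,
    transpose_transpose]
  simp only [← mulVec_mulVec, dotProduct_smul, smul_eq_mul]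
  have e1 : ∀ a b : γ → F, (G *ᵥ a) ⬝ᵥ b = a ⬝ᵥ G *ᵥ b := fun a b => by
    rw [dotProduct_mulVec a G, ← mulVec_transpose, hG]
  have e2 : ∀ a b : γ → F, (X *ᵥ a) ⬝ᵥ b = a ⬝ᵥ Xᵀ *ᵥ b := fun a b => by
    rw [dotProduct_mulVec a, ← mulVec_transpose, transpose_transpose]
  have e3 : ∀ a b : γ → F, (Xᵀ *ᵥ a) ⬝ᵥ b = a ⬝ᵥ X *ᵥ b := fun a b => by
    rw [dotProduct_mulVec a, ← mulVec_transpose]
  simp only [vecMulVec_mulVec, op_smul_eq_smul, smul_dotProduct, smul_eq_mul, e1, e2, e3]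
  have c1 : u ⬝ᵥ G *ᵥ X *ᵥ G *ᵥ q = q ⬝ᵥ G *ᵥ Xᵀ *ᵥ G *ᵥ u := by
    conv_lhs => rw [dotProduct_comm, e1, e2, e1]
  have c2 : p ⬝ᵥ G *ᵥ X *ᵥ G *ᵥ r = r ⬝ᵥ G *ᵥ Xᵀ *ᵥ G *ᵥ p := by
    conv_lhs => rw [dotProduct_comm, e1, e2, e1]
  have c3 : u ⬝ᵥ G *ᵥ X *ᵥ G *ᵥ Xᵀ *ᵥ G *ᵥ p = p ⬝ᵥ G *ᵥ X *ᵥ G *ᵥ Xᵀ *ᵥ G *ᵥ u := by
    conv_lhs => rw [dotProduct_comm, e1, e2, e1, e3, e1]
  have c4 : r ⬝ᵥ G *ᵥ Xᵀ *ᵥ G *ᵥ X *ᵥ G *ᵥ q = q ⬝ᵥ G *ᵥ Xᵀ *ᵥ G *ᵥ X *ᵥ G *ᵥ r := by
    conv_lhs => rw [dotProduct_comm, e1, e3, e1, e2, e1]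
  simp only [c1, c2, c3, c4, bf_comm hG r q, bf_comm hG u p]
  ring

/-- A vector passing the test is a pure tensor of singular vectors. -/
theorem pure_of_delta [Finite F] {G : Matrix γ γ F} (h3 : Three G) {x : γ × γ → F} (hx : x ≠ 0)
    (h : ∀ p q u r : γ → F, qm G ![x, pure p q, x, pure u r] -
        qm G (fun j => ![x, pure p q, x, pure u r] (Equiv.swap 1 2 j)) =
      2 * ((p ⬝ᵥ (G * toM x * G) *ᵥ q) * (u ⬝ᵥ (G * toM x * G) *ᵥ r))) :
    ∃ a b, a ⬝ᵥ G *ᵥ a = 0 ∧ b ⬝ᵥ G *ᵥ b = 0 ∧ x = pure a b := by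
  classical
  obtain ⟨e, z, f, hF⟩ := exists_frame' h3
  set X := toM x with hX
  set N := G * X * G with hN
  set K := G * X * G * Xᵀ * G with hK
  set L := G * Xᵀ * G * X * G with hL
  have key := fun p q u r => (delta_eval h3.symm x p q u r).symm.trans (h p q u r)
  simp only [← hX, ← hN, ← hK, ← hL] at key
  have hpp : ∀ p q r, (q ⬝ᵥ G *ᵥ r) * (p ⬝ᵥ K *ᵥ p) + (p ⬝ᵥ G *ᵥ p) * (r ⬝ᵥ L *ᵥ q) = 0 := fun p q r => by
    linear_combination -key p q p r
  set c := -(z ⬝ᵥ K *ᵥ z) / (z ⬝ᵥ G *ᵥ z) with hc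
  have hLq : ∀ r q, r ⬝ᵥ L *ᵥ q = c * (r ⬝ᵥ G *ᵥ q) := fun r q => by
    have h1 := hpp z q r
    rw [bf_comm h3.symm q r] at h1
    rw [hc, div_mul_eq_mul_div, eq_div_iff hF.xx]
    linear_combination h1
  have hKp : ∀ p, p ⬝ᵥ K *ᵥ p = -c * (p ⬝ᵥ G *ᵥ p) := fun p => by
    have h1 := hpp p e f
    rw [hF.ef, one_mul, hLq, hF.fe h3, mul_one] at h1
    linear_combination h1
  have hKs : Kᵀ = K := by simp [hK, transpose_mul, h3.symm, Matrix.mul_assoc]
  have hKq : ∀ u p, u ⬝ᵥ K *ᵥ p = -c * (u ⬝ᵥ G *ᵥ p) := fun u p => by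
    have h1 := hKp (u + p)
    simp only [mulVec_add, dotProduct_add, add_dotProduct, hKp u, hKp p, bf_comm hKs p u, bf_comm h3.symm p u] at h1
    exact sub_eq_zero.mp ((mul_eq_zero.mp (by linear_combination h1 :
      (2 : F) * (u ⬝ᵥ K *ᵥ p - -c * (u ⬝ᵥ G *ᵥ p)) = 0)).resolve_left h3.two)
  have hext : ∀ (A : Matrix γ γ F) (r : F), (∀ u p, u ⬝ᵥ A *ᵥ p = r * (u ⬝ᵥ G *ᵥ p)) → A = r • G := fun A r hA => by
    ext i j
    have := hA (Pi.single i 1) (Pi.single j 1)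
    simpa [mulVec_single_one] using this
  have hu : IsUnit G.det := isUnit_iff_ne_zero.mpr h3.det
  have hAA : (Xᵀ * G) * (X * G) = c • (1 : Matrix γ γ F) := by
    have h1 := congrArg (G⁻¹ * ·) (hext L c hLq)
    simp only [hL, Matrix.mul_smul, Matrix.nonsing_inv_mul _ hu, ← Matrix.mul_assoc, Matrix.one_mul] at h1
    rwa [← Matrix.mul_assoc]
  have hBB : (X * G) * (Xᵀ * G) = (-c) • (1 : Matrix γ γ F) := by
    have h1 := congrArg (G⁻¹ * ·) (hext K (-c) hKq)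
    simp only [hK, Matrix.mul_smul, Matrix.nonsing_inv_mul _ hu, ← Matrix.mul_assoc, Matrix.one_mul] at h1
    rwa [← Matrix.mul_assoc]
  have hc0 : c = 0 := by
    by_contra hc0
    have h1 : (c⁻¹ • (Xᵀ * G)) * (X * G) = 1 := by
      rw [Matrix.smul_mul, hAA, smul_smul, inv_mul_cancel₀ hc0, one_smul]
    have h2 := mul_eq_one_comm.mp h1
    rw [Matrix.mul_smul, hBB, smul_smul, mul_neg, inv_mul_cancel₀ hc0] at h2
    obtain ⟨i⟩ := ‹Nonempty γ›
    have h3' := congrFun (congrFun h2 i) i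
    rw [Matrix.smul_apply, Matrix.one_apply_eq, smul_eq_mul, mul_one] at h3'
    exact h3.two (by linear_combination -h3')
  have hmin : ∀ p q u r, (u ⬝ᵥ N *ᵥ q) * (p ⬝ᵥ N *ᵥ r) = (p ⬝ᵥ N *ᵥ q) * (u ⬝ᵥ N *ᵥ r) := fun p q u r => by
    have h1 := key p q u r
    rw [hLq, hKq, hc0] at h1
    simp only [neg_zero, zero_mul, mul_zero, sub_zero] at h1
    exact mul_left_cancel₀ h3.two h1
  obtain ⟨v, w, hvw⟩ := pure_of_minors (x := fun ik : γ × γ => N ik.1 ik.2) fun i i' k k' => by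
    have h1 := hmin (Pi.single i' 1) (Pi.single k 1) (Pi.single i 1) (Pi.single k' 1)
    simpa [mulVec_single_one] using h1
  have hNv : N = vecMulVec v w := Matrix.ext fun i k => congrFun hvw (i, k)
  set a := G⁻¹ *ᵥ v
  set b := G⁻¹ *ᵥ w
  have hXv : X = vecMulVec a b := by
    have h1 := congrArg (fun A => G⁻¹ * A * G⁻¹) hNv
    simp only [hN, ← Matrix.mul_assoc, Matrix.nonsing_inv_mul _ hu, Matrix.one_mul] at h1
    rw [Matrix.mul_assoc, Matrix.mul_nonsing_inv _ hu, Matrix.mul_one, mul_vecMulVec, vecMulVec_mul] at h1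
    rw [h1, ← mulVec_transpose, transpose_nonsing_inv, h3.symm]
  have hxab : x = pure a b := funext fun ⟨i, k⟩ => congrFun (congrFun hXv i) k
  have ha0 : a ≠ 0 := fun h0 => hx (by rw [hxab, h0, TensorMax.pure_zero_left])
  have hb0 : b ≠ 0 := fun h0 => hx (by rw [hxab, h0, TensorMax.pure_zero_right])
  have hLK : vecMulVec b ((a ⬝ᵥ G *ᵥ a) • (G *ᵥ b)) = 0 ∧ vecMulVec a ((b ⬝ᵥ G *ᵥ b) • (G *ᵥ a)) = 0 := by
    constructor
    · rw [← zero_smul F (1 : Matrix γ γ F), ← hc0, ← hAA, hXv, transpose_vecMulVec]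
      rw [vecMulVec_mul b a, vecMulVec_mul a b, vecMulVec_mul_vecMulVec, ← mulVec_transpose, ← mulVec_transpose,
        h3.symm]
      rw [dotProduct_comm (G *ᵥ a) a]
    · rw [← zero_smul F (1 : Matrix γ γ F), ← neg_zero, ← hc0, ← hBB, hXv, transpose_vecMulVec]
      rw [vecMulVec_mul a b, vecMulVec_mul b a, vecMulVec_mul_vecMulVec, ← mulVec_transpose, ← mulVec_transpose,
        h3.symm]
      rw [dotProduct_comm (G *ᵥ b) b]
  have hz : ∀ {u u' : γ → F} {r : F}, u ≠ 0 → u' ≠ 0 → vecMulVec u (r • u') = 0 → r = 0 := by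
    intro u u' r hu hu' h0
    obtain ⟨i, hi⟩ := Function.ne_iff.mp hu
    obtain ⟨k, hk⟩ := Function.ne_iff.mp hu'
    have := congrFun (congrFun h0 i) k
    rw [vecMulVec_apply, Pi.smul_apply, smul_eq_mul, Matrix.zero_apply, mul_eq_zero, mul_eq_zero] at this
    exact (this.resolve_left hi).resolve_right hk
  have hG0 : ∀ {u : γ → F}, u ≠ 0 → G *ᵥ u ≠ 0 := fun hu h0 => hu (Matrix.eq_zero_of_mulVec_eq_zero h3.det h0)
  exact ⟨a, b, hz hb0 (hG0 hb0) hLK.1, hz ha0 (hG0 ha0) hLK.2, hxab⟩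

namespace Sq

variable [Fintype F] {T : TForm γ γ F} {X : Subgroup (GL (γ × γ) F)} (h : Sq T X)

include h

/-- Pure tensors of singular vectors are carried to such. -/
theorem map_sing {g : GL (γ × γ) F} (hg : g ∈ X) {e e' : γ → F} (he0 : e ≠ 0) (he : e ⬝ᵥ T.G₂ *ᵥ e = 0)
    (he'0 : e' ≠ 0) (he' : e' ⬝ᵥ T.G₂ *ᵥ e' = 0) :
    ∃ a b, a ⬝ᵥ T.G₂ *ᵥ a = 0 ∧ b ⬝ᵥ T.G₂ *ᵥ b = 0 ∧
      (g : Matrix (γ × γ) (γ × γ) F) *ᵥ pure e e' = pure a b := by
  have h3 := h.three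
  set G := T.G₂
  set M : Matrix (γ × γ) (γ × γ) F := (g : Matrix (γ × γ) (γ × γ) F)
  set x := pure e e' with hx
  have hinj : ∀ z, M *ᵥ z = 0 → z = 0 := fun z hz =>
    Matrix.eq_zero_of_mulVec_eq_zero ((Matrix.isUnit_iff_isUnit_det _).mp g.isUnit).ne_zero hz
  refine pure_of_delta h3 (fun h0 => TensorMax.pure_ne_zero he0 he'0 (hinj _ h0)) fun p q u r => ?_
  have hsur : ∀ z : γ × γ → F, ∃ z', z = M *ᵥ z' := fun z => ⟨((g⁻¹ : GL (γ × γ) F) : Matrix _ _ F) *ᵥ z, by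
    rw [mulVec_mulVec, ← Units.val_mul, mul_inv_cancel, Units.val_one, one_mulVec]⟩
  have hform : ∀ z z', (M *ᵥ z) ⬝ᵥ (G ⊗ₖ G) *ᵥ (M *ᵥ z') = z ⬝ᵥ (G ⊗ₖ G) *ᵥ z' := fun z z' => by
    have hGG : G ⊗ₖ G = T.G := by rw [TForm.G, h.eq]
    rw [hGG, mulVec_mulVec, dotProduct_mulVec (M *ᵥ z), ← vecMul_transpose, vecMul_vecMul, ← Matrix.mul_assoc,
      (T.isIso_iff M).mp (h.ov.isIso hg), ← dotProduct_mulVec]
  -- the identity holds for all second and fourth arguments at a pure tensor of singular vectors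
  let D : (Fin 4 → γ × γ → F) → F := fun y => qm G y - qm G (fun j => y (Equiv.swap 1 2 j))
  have base : ∀ Y W, D ![x, Y, x, W] = 2 * ((x ⬝ᵥ (G ⊗ₖ G) *ᵥ Y) * (x ⬝ᵥ (G ⊗ₖ G) *ᵥ W)) := by
    have hsum : ∀ z : γ × γ → F, z = ∑ i : γ, ∑ k : γ, z (i, k) • pure (Pi.single i (1 : F)) (Pi.single k (1 : F)) :=
      fun z => by
        funext ⟨m, n⟩
        simp [Finset.sum_apply, pure_apply, Pi.single_apply]
    have hupd : ∀ A B, (![x, A, x, B] : Fin 4 → γ × γ → F) = Function.update ![x, A, x, 0] 3 B ∧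
        (![x, A, x, B] : Fin 4 → γ × γ → F) = Function.update ![x, 0, x, B] 1 A := fun A B => by
      constructor <;> funext j <;> fin_cases j <;> rfl
    let Dm : MultilinearMap F (fun _ : Fin 4 => γ × γ → F) F := qm G - (qm G).domDomCongr (Equiv.swap 1 2)
    have hDm : ∀ y, D y = Dm y := fun y => rfl
    have hpt : ∀ p q u r : γ → F, D ![x, pure p q, x, pure u r] =
        2 * ((x ⬝ᵥ (G ⊗ₖ G) *ᵥ pure p q) * (x ⬝ᵥ (G ⊗ₖ G) *ᵥ pure u r)) := fun p q u r => by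
      show qm G _ - qm G _ = _
      rw [delta_eval h3.symm, pair_pure h3.symm, pair_pure h3.symm, hx, toM_pure]
      simp only [transpose_vecMulVec, Matrix.mul_assoc, mul_vecMulVec, vecMulVec_mul, vecMulVec_mul_vecMulVec,
        ← mulVec_transpose, h3.symm, Matrix.mul_smul, smul_mulVec, vecMulVec_mulVec, op_smul_eq_smul, mulVec_smul,
        dotProduct_smul, smul_eq_mul, vecMulVec_smul', Matrix.smul_mul]
      have e1 : (G *ᵥ e) ⬝ᵥ e = 0 := by rw [dotProduct_comm]; exact he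
      have e2 : (G *ᵥ e') ⬝ᵥ e' = 0 := by rw [dotProduct_comm]; exact he'
      simp only [e1, e2, zero_smul, zero_mul, mul_zero, sub_zero, smul_zero, zero_mulVec, dotProduct_zero]
      ring
    intro Y W
    set φ : (γ × γ → F) →ₗ[F] F :=
      { toFun := fun z => x ⬝ᵥ (G ⊗ₖ G) *ᵥ z
        map_add' := fun a b => by rw [mulVec_add, dotProduct_add]
        map_smul' := fun c a => by rw [mulVec_smul, dotProduct_smul]; rfl }
    let L₁ : (γ × γ → F) →ₗ[F] F := Dm.toLinearMap ![x, 0, x, W] 1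
    have hW : ∀ p q : γ → F, Dm.toLinearMap ![x, pure p q, x, 0] 3 = (2 * φ (pure p q)) • φ := fun p q => by
      refine LinearMap.ext fun w => ?_
      rw [hsum w]
      simp only [map_sum, map_smul]
      refine Finset.sum_congr rfl fun i _ => Finset.sum_congr rfl fun k _ => congrArg _ ?_
      rw [MultilinearMap.toLinearMap_apply, ← (hupd _ _).1, ← hDm, hpt, LinearMap.smul_apply, smul_eq_mul]
      simp only [φ, LinearMap.coe_mk, AddHom.coe_mk, mul_assoc]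
    have hY : L₁ = (2 * φ W) • φ := by
      refine LinearMap.ext fun z => ?_
      rw [hsum z]
      simp only [map_sum, map_smul]
      refine Finset.sum_congr rfl fun i _ => Finset.sum_congr rfl fun k _ => congrArg _ ?_
      have h1 := LinearMap.congr_fun (hW (Pi.single i 1) (Pi.single k 1)) W
      rw [MultilinearMap.toLinearMap_apply, ← (hupd _ _).1, LinearMap.smul_apply, smul_eq_mul] at h1
      rw [MultilinearMap.toLinearMap_apply, ← (hupd _ _).2, h1, LinearMap.smul_apply, smul_eq_mul]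
      ring
    rw [hDm, (hupd Y W).2, ← MultilinearMap.toLinearMap_apply]
    show L₁ Y = _
    rw [hY, LinearMap.smul_apply, smul_eq_mul]
    simp only [φ, LinearMap.coe_mk, AddHom.coe_mk]
    ring
  obtain ⟨Y, hY⟩ := hsur (pure p q)
  obtain ⟨W, hW⟩ := hsur (pure u r)
  have hinv := h.invariant hg ![x, Y, x, W]
  have e1 : (fun j => M *ᵥ ![x, Y, x, W] j) = ![M *ᵥ x, pure p q, M *ᵥ x, pure u r] := by
    funext j
    fin_cases j <;> simp [hY, hW]
  have e2 : (fun j => M *ᵥ ![x, Y, x, W] (Equiv.swap 1 2 j)) =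
      fun j => ![M *ᵥ x, pure p q, M *ᵥ x, pure u r] (Equiv.swap 1 2 j) :=
    funext fun j => congrFun e1 (Equiv.swap 1 2 j)
  rw [e1, e2] at hinv
  have hb := base Y W
  rw [hinv]
  rw [show qm G ![x, Y, x, W] - qm G (fun j => ![x, Y, x, W] (Equiv.swap 1 2 j)) = D ![x, Y, x, W] from rfl, hb,
    ← pair_pure h3.symm, ← pair_pure h3.symm, hY, hW, hform, hform]

/-- In the scalar case `X` lies in the wreath product. -/
theorem le_wr {g : GL (γ × γ) F} (hg : g ∈ X) : Wr g := by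
  classical
  have h3 := h.three
  set G := T.G₂
  set M : Matrix (γ × γ) (γ × γ) F := (g : Matrix (γ × γ) (γ × γ) F)
  have hform : ∀ z z', (M *ᵥ z) ⬝ᵥ (G ⊗ₖ G) *ᵥ (M *ᵥ z') = z ⬝ᵥ (G ⊗ₖ G) *ᵥ z' := fun z z' => by
    have hGG : G ⊗ₖ G = T.G := by rw [TForm.G, h.eq]
    rw [hGG, mulVec_mulVec, dotProduct_mulVec (M *ᵥ z), ← vecMul_transpose, vecMul_vecMul, ← Matrix.mul_assoc,
      (T.isIso_iff M).mp (h.ov.isIso hg), ← dotProduct_mulVec]
  have hinj : Function.Injective (M.mulVec) :=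
    Matrix.mulVec_injective_iff_isUnit.mpr g.isUnit
  have side : ∀ e, e ≠ 0 → e ⬝ᵥ G *ᵥ e = 0 → (∃ a, ∀ v, ∃ v', M *ᵥ pure e v = pure a v') ∨
      ∃ b, ∀ v, ∃ v', M *ᵥ pure e v = pure v' b := by
    intro e he0 he
    obtain ⟨x, f, hF⟩ := exists_frame h3 he0 he
    set q := (x ⬝ᵥ G *ᵥ x) / 2 with hq
    have hq0 : q ≠ 0 := div_ne_zero hF.xx h3.two
    have hq2 : q + q = x ⬝ᵥ G *ᵥ x := by rw [hq, ← add_div, ← two_mul, mul_div_assoc, mul_div_cancel₀ _ h3.two]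
    set p : Fin 3 → γ → F := ![e, f, e + x - q • f] with hp
    have hps : ∀ i, p i ⬝ᵥ G *ᵥ p i = 0 := by
      intro i
      fin_cases i <;>
        simp [hp, mulVec_sub, mulVec_add, mulVec_smul, hF.ee, hF.ff, hF.ef, hF.ex, hF.fx, hF.fe h3, hF.xe h3,
          hF.xf h3]
      linear_combination -hq2
    have hpd : ∀ i l, i ≠ l → p i ⬝ᵥ G *ᵥ p l ≠ 0 := by
      intro i l hil
      fin_cases i <;> fin_cases l <;> simp at hil <;>
        simp [hp, mulVec_sub, mulVec_add, mulVec_smul, hF.ee, hF.ff, hF.ef, hF.ex, hF.fx, hF.fe h3, hF.xe h3,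
          hF.xf h3, hq0]
    have hp0 : ∀ i, p i ≠ 0 := fun i h0 => by
      have := hpd i (i + 1) (by fin_cases i <;> simp)
      rw [h0, zero_dotProduct] at this
      exact this rfl
    choose a b has hbs hab using fun i => h.map_sing hg he0 he (hp0 i) (hps i)
    have ha0 : ∀ i, a i ≠ 0 := fun i h0 => TensorMax.pure_ne_zero he0 (hp0 i)
      (hinj (show M *ᵥ _ = M *ᵥ 0 by rw [mulVec_zero, hab, h0, TensorMax.pure_zero_left]))
    have hb0 : ∀ i, b i ≠ 0 := fun i h0 => TensorMax.pure_ne_zero he0 (hp0 i)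
      (hinj (show M *ᵥ _ = M *ᵥ 0 by rw [mulVec_zero, hab, h0, TensorMax.pure_zero_right]))
    have prop : ∀ {u w : γ → F}, u ≠ 0 → u ⬝ᵥ G *ᵥ u = 0 → w ⬝ᵥ G *ᵥ w = 0 → u ⬝ᵥ G *ᵥ w = 0 → ∃ r : F, w = r • u := by
      intro u w hu0 hu hw huw
      obtain ⟨x', f', hF'⟩ := exists_frame h3 hu0 hu
      exact ⟨_, hF'.sing_perp h3 hw huw⟩
    have share : ∀ i l, (∃ r : F, a l = r • a i) ∨ ∃ r : F, b l = r • b i := by
      intro i l
      have h0 : (a i ⬝ᵥ G *ᵥ a l) * (b i ⬝ᵥ G *ᵥ b l) = 0 := by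
        rw [← pure_dot, ← hab, ← hab, hform, pure_dot, he, zero_mul]
      rcases mul_eq_zero.mp h0 with h0 | h0
      · exact Or.inl (prop (ha0 i) (has i) (has l) h0)
      · exact Or.inr (prop (hb0 i) (hbs i) (hbs l) h0)
    have both : ∀ i l, i ≠ l → (∃ r : F, a l = r • a i) → (∃ r : F, b l = r • b i) → False := by
      rintro i l hil ⟨r, hr⟩ ⟨s, hs⟩
      have h1 : M *ᵥ pure e (p l) = M *ᵥ pure e ((r * s) • p i) := by
        rw [hab, TensorMax.pure_smul_right, mulVec_smul, hab, hr, hs, TensorMax.pure_smul_left,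
          TensorMax.pure_smul_right, smul_smul]
      have h2 := TensorMax.pureR_injective he0 (hinj h1)
      refine hpd i l hil ?_
      rw [h2, mulVec_smul, dotProduct_smul, hps, smul_zero]
    have hspan : ∀ v, ∃ c : Fin 3 → F, v = ∑ i, c i • p i := fun v => by
      refine ⟨![f ⬝ᵥ G *ᵥ v - (x ⬝ᵥ G *ᵥ v) / (x ⬝ᵥ G *ᵥ x),
        e ⬝ᵥ G *ᵥ v + q * ((x ⬝ᵥ G *ᵥ v) / (x ⬝ᵥ G *ᵥ x)), (x ⬝ᵥ G *ᵥ v) / (x ⬝ᵥ G *ᵥ x)], ?_⟩
      conv_lhs => rw [hF.expand h3 v]
      simp only [Fin.sum_univ_three, hp, Matrix.cons_val_zero, Matrix.cons_val_one, Matrix.cons_val]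
      module
    have himg : ∀ v, ∃ c : Fin 3 → F, M *ᵥ pure e v = ∑ i, c i • pure (a i) (b i) := fun v => by
      obtain ⟨c, hc⟩ := hspan v
      refine ⟨c, ?_⟩
      have : pure e v = ∑ i, c i • pure e (p i) := by
        rw [hc]
        funext ⟨m, n⟩
        simp only [pure_apply, Finset.sum_apply, Pi.smul_apply, smul_eq_mul, Finset.mul_sum]
        exact Finset.sum_congr rfl fun i _ => by ring
      rw [this, mulVec_sum]
      exact Finset.sum_congr rfl fun i _ => by rw [mulVec_smul, hab]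
    have symR : ∀ {u w : γ → F}, w ≠ 0 → (∃ r : F, w = r • u) → ∃ r : F, u = r • w := by
      rintro u w hw ⟨r, rfl⟩
      have hr : r ≠ 0 := fun h0 => hw (by rw [h0, zero_smul])
      exact ⟨r⁻¹, by rw [smul_smul, inv_mul_cancel₀ hr, one_smul]⟩
    have transR : ∀ {u w z : γ → F}, (∃ r : F, w = r • u) → (∃ r : F, z = r • w) → ∃ r : F, z = r • u := by
      rintro u w z ⟨r, rfl⟩ ⟨s, rfl⟩
      exact ⟨s * r, by rw [smul_smul]⟩
    have hall : (∀ i, ∃ r : F, a i = r • a 0) ∨ ∀ i, ∃ r : F, b i = r • b 0 := by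
      have hone : ∀ {u : γ → F}, ∃ r : F, u = r • u := fun {u} => ⟨1, (one_smul _ _).symm⟩
      rcases share 0 1 with h01 | h01
      · refine Or.inl fun i => ?_
        fin_cases i
        · exact hone
        · exact h01
        rcases share 0 2 with h02 | h02
        · exact h02
        rcases share 1 2 with h12 | h12
        · exact (both 0 2 (by decide) (transR h01 h12) h02).elim
        · exact (both 0 1 (by decide) h01 (transR h02 (symR (hb0 2) h12))).elim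
      · refine Or.inr fun i => ?_
        fin_cases i
        · exact hone
        · exact h01
        rcases share 0 2 with h02 | h02
        swap
        · exact h02
        rcases share 1 2 with h12 | h12
        · exact (both 0 1 (by decide) (transR h02 (symR (ha0 2) h12)) h01).elim
        · exact (both 0 2 (by decide) h02 (transR h01 h12)).elim
    rcases hall with hall | hall
    · choose r hr using hall
      refine Or.inl ⟨a 0, fun v => ?_⟩
      obtain ⟨c, hc⟩ := himg v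
      refine ⟨∑ i, (c i * r i) • b i, ?_⟩
      rw [hc]
      funext ⟨m, n⟩
      simp only [pure_apply, Finset.sum_apply, Pi.smul_apply, smul_eq_mul, Finset.mul_sum]
      exact Finset.sum_congr rfl fun i _ => by rw [hr i, Pi.smul_apply, smul_eq_mul]; ring
    · choose r hr using hall
      refine Or.inr ⟨b 0, fun v => ?_⟩
      obtain ⟨c, hc⟩ := himg v
      refine ⟨∑ i, (c i * r i) • a i, ?_⟩
      rw [hc]
      funext ⟨m, n⟩
      simp only [pure_apply, Finset.sum_apply, Pi.smul_apply, smul_eq_mul, Finset.sum_mul]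
      exact Finset.sum_congr rfl fun i _ => by rw [hr i, Pi.smul_apply, smul_eq_mul]; ring
  by_cases hl : ∃ e, e ≠ 0 ∧ e ⬝ᵥ G *ᵥ e = 0 ∧ ∃ a, ∀ v, ∃ v', M *ᵥ pure e v = pure a v'
  · obtain ⟨e, he0, he, a, ha⟩ := hl
    exact Or.inl (h.kron_of_left hg he0 he ha)
  refine Or.inr (kron_of_parallel h3 fun e he0 he => ?_)
  rcases side e he0 he with hh | hh
  · exact absurd ⟨e, he0, he, hh⟩ hl
  obtain ⟨b, hb⟩ := hh
  refine ⟨b, fun v => ?_⟩
  obtain ⟨v', hv'⟩ := hb v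
  exact ⟨v', by rw [Units.val_mul, ← mulVec_mulVec, swapGL_mulVec_pure, hv']⟩

end Sq

variable [Fintype F]

/-- The exchange of the factors normalises `Ω`. -/
theorem flip_omega (T : TForm γ γ F) (heq : T.G₁ = T.G₂) (h2 : (2 : F) ≠ 0) {g : GL (γ × γ) F}
    (hg : g ∈ Cfsg.Geo.omegaGL (⇑T.qf)) : flipEl g ∈ Cfsg.Geo.omegaGL (⇑T.qf) := by
  have hσ : T.IsIso (swapMat γ F) := by
    rw [T.isIso_iff, TForm.G, heq]
    have ht : (swapMat γ F)ᵀ = swapMat γ F := by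
      ext p r
      simp only [swapMat, transpose_apply, Matrix.of_apply]
      exact if_congr ⟨fun e => by rw [e, Prod.swap_swap], fun e => by rw [e, Prod.swap_swap]⟩ rfl rfl
    rw [ht, swap_kron_swap]
  have hs : swapGL γ F ∈ Cfsg.isometryGroup F (⇑T.qf) :=
    mem_isometry.mpr ((T.isIso_iff_qf h2 _).mp hσ)
  have hI : (Cfsg.isometryGroup F (⇑T.qf)).map (MulAut.conj (swapGL γ F)).toMonoidHom =
      Cfsg.isometryGroup F (⇑T.qf) := by
    ext k
    rw [Subgroup.mem_map_equiv, MulAut.conj_symm_apply]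
    exact ⟨fun hk => by simpa [mul_assoc] using mul_mem (mul_mem hs hk) (inv_mem hs),
      fun hk => mul_mem (mul_mem (inv_mem hs) hk) hs⟩
  have hΩ : (Cfsg.Geo.omegaGL (⇑T.qf)).map (MulAut.conj (swapGL γ F)).toMonoidHom =
      Cfsg.Geo.omegaGL (⇑T.qf) := by
    rw [omegaGL_comm, Subgroup.map_commutator, hI]
  have h1 := Subgroup.mem_map_of_mem (MulAut.conj (swapGL γ F)).toMonoidHom hg
  rw [hΩ] at h1
  simpa [flipEl, swapGL_inv] using h1

/-- The wreath product is maximal. -/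
theorem isMaximalIn_wr (T : TForm γ γ F) (heq : T.G₁ = T.G₂) (h2 : (2 : F) ≠ 0) (h3 : Fintype.card γ = 3)
    (h5 : 5 ≤ Fintype.card F) :
    Cfsg.Geo.IsMaximalIn (Cfsg.Geo.omegaGL (⇑T.qf)) (wrSub γ F ⊓ Cfsg.Geo.omegaGL (⇑T.qf)) := by
  classical
  have hT3 : Three T.G₂ := ⟨T.symm₂, T.det₂, h2, h3⟩
  have hsm : T.Small₂ := by
    intro e f z hee hef hez hfz hzz
    have he0 : e ≠ 0 := fun h0 => by rw [h0, TForm.B₂_zero_left] at hef; exact zero_ne_one hef
    obtain ⟨x, f', hF⟩ := exists_frame hT3 he0 hee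
    have hz := hF.sing_perp hT3 hzz hez
    rw [hz, TForm.B₂_smul_right, T.B₂_comm f e, hef, mul_one] at hfz
    rw [hz, hfz, zero_smul]
  refine ⟨lt_of_le_of_ne inf_le_right fun hEq => ?_, fun M h₁ h₂ => ?_⟩
  · obtain ⟨e, x, f, hF⟩ := exists_frame' hT3
    have hp : T.Pair₂ e f := ⟨hF.ee, hF.ff, hF.ef⟩
    have hB : ∀ a b : γ → F, T.B₁ a b = a ⬝ᵥ T.G₂ *ᵥ b := fun a b => by rw [TForm.B₁, heq]
    have hiso : T.IsIso (T.ZM e (T.wedge e x)) := TForm.ZM_iso hp.ee (T.adjU_wedge e x)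
    have hcard : 6 ≤ Fintype.card (γ × γ) := by rw [Fintype.card_prod, h3]; norm_num
    have hmem : T.toGL _ hiso ∈ wrSub γ F ⊓ Cfsg.Geo.omegaGL (⇑T.qf) := by
      rw [hEq]
      exact T.unip_mem_omega h2 hcard hiso (by rw [TForm.toGL_val]; exact TForm.ZM_cube hp.ee _)
    obtain ⟨v', w', e₀⟩ : ∃ v' w', (T.toGL _ hiso : Matrix (γ × γ) (γ × γ) F) *ᵥ pure f f = pure v' w' := by
      rcases mem_wrSub.mp hmem.1 with hK | hK
      · exact hK.mulVec_pure f f
      · obtain ⟨v', w', e₀⟩ := hK.mulVec_pure f f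
        exact ⟨v', w', by rwa [Units.val_mul, ← mulVec_mulVec, swapGL_mulVec_pure] at e₀⟩
    have hKy : T.wedge e x *ᵥ f = -x := by
      rw [TForm.wedge_mulVec, show T.B₁ x f = 0 by rw [hB]; exact hF.xf hT3,
        show T.B₁ e f = 1 by rw [hB]; exact hF.ef, zero_smul, one_smul, zero_sub]
    rw [TForm.toGL_val, TForm.ZM, add_mulVec, one_mulVec, ← mulVec_mulVec, ← mulVec_mulVec, TForm.pr, ev_mulVec_pure,
      dotProduct_comm, show f ⬝ᵥ T.G₂ *ᵥ e = 1 from hp.fe, one_smul, hKy, inc_mulVec] at e₀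
    have hf0 : f ≠ 0 := (hF.symm hT3).ne
    rcases TensorMax.shared_of_sum hf0 hf0 e₀ with ⟨c, hc⟩ | ⟨c, hc⟩
    · refine hF.xx ?_
      rw [neg_eq_iff_eq_neg] at hc
      rw [hc, mulVec_neg, dotProduct_neg, neg_dotProduct, neg_neg, mulVec_smul, dotProduct_smul, smul_dotProduct,
        hF.ff, smul_zero, smul_zero]
    · have := hF.ef
      rw [hc, smul_dotProduct, hF.ff, smul_zero] at this
      exact zero_ne_one this
  · have hkron : ∀ g, IsKron g → g ∈ Cfsg.Geo.omegaGL (⇑T.qf) → g ∈ M := fun g hk ho => h₁ ⟨Or.inl hk, ho⟩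
    have hov : T.Over M := ⟨h2, by omega, by omega, Or.inr ⟨h5, hsm⟩, h₂, hkron⟩
    have hov' : T.Over (flipSub M) := by
      refine ⟨h2, by omega, by omega, Or.inr ⟨h5, hsm⟩, fun g hg => ?_, fun g hk ho => ?_⟩
      · simpa [flipEl_flipEl] using flip_omega T heq h2 (h₂ hg)
      · exact hkron _ (IsKron.flip hk) (flip_omega T heq h2 ho)
    have hU : T.Small₁ := fun h4 => absurd h4 (by omega)
    rcases TForm.omega_le_or_stab hov hU (fun _ => by omega) with hA | hA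
    · exact Or.inr (le_antisymm h₂ hA)
    rcases TForm.omega_le_or_stab hov' hU (fun _ => by omega) with hB | hB
    · refine Or.inr (le_antisymm h₂ fun g hg => ?_)
      have := hB (flip_omega T heq h2 hg)
      rwa [mem_flipSub, flipEl_flipEl] at this
    have hS : Sq T M := ⟨hov, hov', heq, h3, h5, hA, hB⟩
    exact Or.inl (le_antisymm (fun g hg => ⟨hS.le_wr hg, h₂ hg⟩) h₁)

section Transfer

variable {ι : Type} [Fintype ι] [DecidableEq ι]

/-- The standard wreath subgroup for two factors. -/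
theorem map_standard :
    (Cfsg.Geo.tensorWreathStandard 3 2 F).map (Cfsg.Geo.glReindex (finTwoArrowEquiv (Fin 3))).toMonoidHom =
      wrSub (Fin 3) F := by
  classical
  set φ := finTwoArrowEquiv (Fin 3)
  set ψ := Cfsg.Geo.glReindex (F := F) φ
  have hval : ∀ g (x y : Fin 3 × Fin 3), (ψ g : Matrix (Fin 3 × Fin 3) (Fin 3 × Fin 3) F) x y =
      (g : Matrix (Fin 2 → Fin 3) (Fin 2 → Fin 3) F) (φ.symm x) (φ.symm y) := fun g x y => rfl
  have hperm : ∀ σ : Equiv.Perm (Fin 2), σ = 1 ∨ σ = Equiv.swap 0 1 := by decide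
  refine le_antisymm ?_ fun g hg => ?_
  · rw [Cfsg.Geo.tensorWreathStandard, Subgroup.map_le_iff_le_comap, Subgroup.closure_le]
    rintro g (⟨gs, hgs⟩ | ⟨σ, hσ⟩)
    · refine Or.inl (isKron_of_mat _ (gs 0 : Matrix (Fin 3) (Fin 3) F) (gs 1 : Matrix (Fin 3) (Fin 3) F) ?_)
      ext ⟨a, b⟩ ⟨c, d⟩
      show (ψ g : Matrix (Fin 3 × Fin 3) (Fin 3 × Fin 3) F) (a, b) (c, d) = _
      rw [hval, hgs, Fin.prod_univ_two]
      rfl
    · rcases hperm σ with rfl | rfl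
      · refine Or.inl (isKron_of_mat _ 1 1 ?_)
        ext ⟨a, b⟩ ⟨c, d⟩
        show (ψ g : Matrix (Fin 3 × Fin 3) (Fin 3 × Fin 3) F) (a, b) (c, d) = _
        rw [hval, hσ, one_kronecker_one, Matrix.one_apply]
        refine if_congr ?_ rfl rfl
        simp [φ, funext_iff, Fin.forall_fin_two, eq_comm]
      · refine Or.inr (isKron_of_mat _ 1 1 ?_)
        show ((ψ g * swapGL (Fin 3) F : GL _ F) : Matrix (Fin 3 × Fin 3) (Fin 3 × Fin 3) F) = _
        rw [one_kronecker_one, Units.val_mul, ← swapMat_mul_self, swapGL_val]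
        congr 1
        ext ⟨a, b⟩ ⟨c, d⟩
        rw [hval, hσ]
        show _ = if (c, d) = ((a, b) : Fin 3 × Fin 3).swap then (1 : F) else 0
        refine if_congr ?_ rfl rfl
        simp [φ, funext_iff, Fin.forall_fin_two]
  · refine ⟨ψ.symm g, ?_, ψ.apply_symm_apply g⟩
    have hk : ∀ k : GL (Fin 3 × Fin 3) F, IsKron k → ψ.symm k ∈ Cfsg.Geo.tensorWreathStandard 3 2 F := by
      rintro k ⟨a, b, hab⟩
      refine Subgroup.subset_closure (Or.inl ⟨![a, b], fun x y => ?_⟩)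
      show (k : Matrix (Fin 3 × Fin 3) (Fin 3 × Fin 3) F) (φ x) (φ y) = _
      rw [hab, Fin.prod_univ_two, kroneckerMap_apply]
      rfl
    rcases mem_wrSub.mp hg with hg | hg
    · exact hk _ hg
    · have hs : ψ.symm (swapGL (Fin 3) F) ∈ Cfsg.Geo.tensorWreathStandard 3 2 F := by
        refine Subgroup.subset_closure (Or.inr ⟨Equiv.swap 0 1, fun x y => ?_⟩)
        show swapMat (Fin 3) F (φ x) (φ y) = _
        simp only [swapMat, Matrix.of_apply]
        refine if_congr ?_ rfl rfl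
        simp [φ, funext_iff, Fin.forall_fin_two]
      have := mul_mem (hk _ hg) hs
      rwa [← map_mul, mul_assoc, swapGL_mul_self, mul_one] at this

/-- The stabiliser of a tensor square of a form on a space of dimension three is maximal in `Ω`. -/
theorem isMaximalIn_square_three (Q : (ι → F) → F) (hhalf : ∀ v, QuadraticMap.polar Q v v = 2 * Q v)
    (e : ι ≃ (Fin 2 → Fin 3)) (P : GL ι F) {f₁ : (Fin 3 → F) → (Fin 3 → F) → F}
    (hf₁ : Cfsg.Geo.IsSymmetricForm f₁) (hT : Cfsg.Geo.IsTensorPowerFormStructure id (QuadraticMap.polar Q) f₁ e P)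
    (h2 : (2 : F) ≠ 0) (h5 : 5 ≤ Fintype.card F) :
    Cfsg.Geo.IsMaximalIn (Cfsg.Geo.omegaGL Q)
      (Cfsg.Geo.tensorWreathSubgroup 3 2 e P ⊓ Cfsg.Geo.omegaGL Q) := by
  classical
  obtain ⟨c, hc, hT⟩ := hT
  set G := Cfsg.Geo.gramMatrix f₁
  let T : TForm (Fin 3) (Fin 3) F :=
    { G₁ := G, G₂ := G, symm₁ := gram_symm hf₁, symm₂ := gram_symm hf₁, det₁ := gram_det hf₁,
      det₂ := gram_det hf₁ }
  set φ := finTwoArrowEquiv (Fin 3)
  set ε : ι ≃ Fin 3 × Fin 3 := e.trans φ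
  have hqf : ∀ x, Q ((P : Matrix ι ι F) *ᵥ (x ∘ ε)) = c * T.qf x := fun x => by
    have h := hT (x ∘ φ) (x ∘ φ)
    rw [hhalf] at h
    have e1 : (∑ a : Fin 2 → Fin 3, ∑ b : Fin 2 → Fin 3, (x ∘ φ) a * (∏ i, G (a i) (b i)) * id ((x ∘ φ) b)) =
        x ⬝ᵥ (G ⊗ₖ G) *ᵥ x := by
      simp only [dotProduct, Matrix.mulVec, Finset.mul_sum]
      refine Fintype.sum_equiv φ _ _ fun a => Fintype.sum_equiv φ _ _ fun b => ?_
      simp only [Function.comp_apply, id_eq, Fin.prod_univ_two, kroneckerMap_apply]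
      show _ = x (φ a) * (G (a 0) (b 0) * G (a 1) (b 1) * x (φ b))
      ring
    rw [e1] at h
    rw [TForm.qf_apply, TForm.G]
    show Q ((P : Matrix ι ι F) *ᵥ ((x ∘ φ) ∘ e)) = _
    field_simp
    linear_combination h
  have hsurj : ∀ y : ι → F, ∃ x, (P : Matrix ι ι F) *ᵥ (x ∘ ε) = y := fun y =>
    ⟨(((P⁻¹ : GL ι F) : Matrix ι ι F) *ᵥ y) ∘ ε.symm, by
      rw [Function.comp_assoc, Equiv.symm_comp_self, Function.comp_id, mulVec_mulVec, ← Units.val_mul,
        mul_inv_cancel, Units.val_one, one_mulVec]⟩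
  have hact : ∀ g x, ((tmap ε P g : GL ι F) : Matrix ι ι F) *ᵥ ((P : Matrix ι ι F) *ᵥ (x ∘ ε)) =
      (P : Matrix ι ι F) *ᵥ (((g : Matrix (Fin 3 × Fin 3) (Fin 3 × Fin 3) F) *ᵥ x) ∘ ε) := by
    intro g x
    show ((P * Cfsg.Geo.glReindex ε.symm g * P⁻¹ : GL ι F) : Matrix ι ι F) *ᵥ _ = _
    rw [mulVec_mulVec, ← Units.val_mul, inv_mul_cancel_right, Units.val_mul, ← mulVec_mulVec]
    congr 1
    show ((g : Matrix (Fin 3 × Fin 3) (Fin 3 × Fin 3) F).submatrix ε ε) *ᵥ (x ∘ ε) = _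
    rw [Matrix.submatrix_mulVec_equiv, Function.comp_assoc, Equiv.self_comp_symm, Function.comp_id]
  have hI : (Cfsg.isometryGroup F (⇑T.qf)).map (tmap ε P).toMonoidHom = Cfsg.isometryGroup F Q := by
    ext g
    rw [Subgroup.mem_map_equiv, mem_isometry, mem_isometry]
    constructor
    · intro h y
      obtain ⟨x, rfl⟩ := hsurj y
      rw [← (tmap ε P).apply_symm_apply g, hact, hqf, hqf, h x]
    · intro h x
      refine mul_left_cancel₀ hc ?_
      rw [← hqf, ← hqf, ← hact, MulEquiv.apply_symm_apply, h]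
  have hΩ : (Cfsg.Geo.omegaGL (⇑T.qf)).map (tmap ε P).toMonoidHom = Cfsg.Geo.omegaGL Q := by
    rw [omegaGL_comm, omegaGL_comm, Subgroup.map_commutator, hI]
  have hW : Cfsg.Geo.tensorWreathSubgroup 3 2 e P = (wrSub (Fin 3) F).map (tmap ε P).toMonoidHom := by
    rw [← map_standard, Cfsg.Geo.tensorWreathSubgroup, Subgroup.map_map, Subgroup.map_map]
    congr 1
    refine MonoidHom.ext fun g => ?_
    show P * Cfsg.Geo.glReindex e.symm g * P⁻¹ = P * Cfsg.Geo.glReindex ε.symm (Cfsg.Geo.glReindex φ g) * P⁻¹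
    congr 2
    refine Units.ext (Matrix.ext fun i j => ?_)
    show _ = (g : Matrix (Fin 2 → Fin 3) (Fin 2 → Fin 3) F) (φ.symm (ε i)) (φ.symm (ε j))
    simp only [ε, Equiv.trans_apply, Equiv.symm_apply_apply]
    rfl
  have := TensorMax.isMaximalIn_map (tmap ε P) (isMaximalIn_wr T rfl h2 (Fintype.card_fin 3) h5)
  rw [Subgroup.map_inf _ _ _ (tmap ε P).injective, hΩ, ← hW] at this
  exact this

end Transfer

end Cfsg.Lib.Classical.TensorOrth
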